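import Cfsg.Agent.H119.UniInd
import Cfsg.Agent.H120.Irr
import Cfsg.Agent.S0780
import Cfsg.Agent.S0779

/-!
# The minimal degree of `SU_n(q)`

`bound` : every irreducible complex representation of `SU_n(q)` of degree at least two, `n ≥ 3`,
`(n, q) ≠ (3, 2)`, has degree at least `bd q n`.
`bound_of_not_triv` : the same for every representation with a transvection acting non-trivially.
-/

set_option autoImplicit false

namespace Cfsg.Agent.H119.SUBound

open Cfsg Module Matrix Cfsg.Agent.LieClassical.HermBasic Cfsg.Agent.H120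

variable {F : Type*} [Field F] [Fintype F] {q : ℕ}

/-- the standard Hermitian space -/
def std (hF : Fintype.card F = q ^ 2) (n : ℕ) : HS F (Fin n → F) where
  σ := conj hF
  σσ := pow_q_pow_q hF
  tr _ ha := exists_trace_eq hF ha
  nm _ ha := exists_norm_eq hF ha
  κ := exists_trace_zero_ne hF
  h := hermForm n F q
  add_left := herm_add_left
  smul_left := herm_smul_left
  swap x y := (herm_swap hF x y).symm

theorem std_h (hF : Fintype.card F = q ^ 2) (n : ℕ) (x y : Fin n → F) :
    (std hF n).h x y = hermForm n F q x y := rfl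

/-- `SU_n(q)` as a group of isometries -/
def grp (hF : Fintype.card F = q ^ 2) (n : ℕ) : UG (std hF n) (Cfsg.SU n F q) where
  π :=
    { toFun := fun g => Matrix.mulVecLin g.1.1
      map_one' := by
        change Matrix.mulVecLin (1 : Matrix (Fin n) (Fin n) F) = 1
        rw [Matrix.mulVecLin_one]
        rfl
      map_mul' := fun g k => by
        change Matrix.mulVecLin (g.1.1 * k.1.1) = _
        rw [Matrix.mulVecLin_mul]
        rfl }
  inj := by
    intro g k h
    apply Subtype.ext
    apply Subtype.ext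
    have h1 : Matrix.mulVecLin g.1.1 = Matrix.mulVecLin k.1.1 := h
    exact Matrix.toLin'.injective h1
  iso g x y := (mem_SU_iff g.1).1 g.2 x y
  ex T hT hdet := by
    have h1 : (LinearMap.toMatrix' T).det = 1 := by rw [LinearMap.det_toMatrix', hdet]
    refine ⟨⟨⟨LinearMap.toMatrix' T, h1⟩, (mem_SU_iff _).2 fun u v => ?_⟩, ?_⟩
    · change hermForm n F q (LinearMap.toMatrix' T *ᵥ u) (LinearMap.toMatrix' T *ᵥ v) = _
      rw [LinearMap.toMatrix'_mulVec, LinearMap.toMatrix'_mulVec]
      exact hT u v
    · refine LinearMap.ext fun x => ?_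
      change LinearMap.toMatrix' T *ᵥ x = T x
      rw [LinearMap.toMatrix'_mulVec]

theorem grp_apply (hF : Fintype.card F = q ^ 2) (n : ℕ) (g : Cfsg.SU n F q) (x : Fin n → F) :
    (grp hF n).π g x = g.1.1 *ᵥ x := rfl

theorem card_fix (hF : Fintype.card F = q ^ 2) (n : ℕ) : Nat.card (Fix (std hF n)) = q :=
  card_fixed hF

/-- the general bound -/
theorem bound_of_not_triv (hF : Fintype.card F = q ^ 2) {n : ℕ} (hn : 3 ≤ n) {M : Type*}
    [AddCommGroup M] [Module ℂ M] [FiniteDimensional ℂ M]
    (ρ : Representation ℂ (Cfsg.SU n F q) M) (e : Fin n → F) (he0 : e ≠ 0)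
    (he : hermForm n F q e e = 0) (h : ¬ ∀ m, m ∈ (grp hF n).Fx ρ e) : bd q n ≤ finrank ℂ M := by
  have hU : (std hF n).Nd (⊤ : Submodule F (Fin n → F)) :=
    fun x _ hx => herm_nondeg hF fun v => hx v Submodule.mem_top
  have h1 := (grp hF n).main ρ hF (card_fix hF n) n ⊤ (by simp) hn hU ⊤
    (fun _ _ _ _ => Submodule.mem_top)
    ⟨e, Submodule.mem_top, he0, he, fun hle => h fun m => hle Submodule.mem_top⟩
  rwa [finrank_top] at h1

theorem bound (hF : Fintype.card F = q ^ 2) {n : ℕ} (hn : 3 ≤ n) (hex : ¬ (n = 3 ∧ q = 2))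
    {M : Type*} [AddCommGroup M] [Module ℂ M] [FiniteDimensional ℂ M]
    (ρ : Representation ℂ (Cfsg.SU n F q) M) (hρ : ρ.IsIrreducible) (h2 : 2 ≤ finrank ℂ M) :
    bd q n ≤ finrank ℂ M := by
  by_contra hlt
  have htriv : ∀ e : Fin n → F, e ≠ 0 → hermForm n F q e e = 0 → ∀ m, m ∈ (grp hF n).Fx ρ e := by
    intro e he0 he
    by_contra hc
    exact hlt (bound_of_not_triv hF hn ρ e he0 he hc)
  obtain ⟨g, hg⟩ := exists_ne_one ρ hρ h2
  apply hg
  have hgen := Cfsg.Agent.S0780.result hF n hn hex
  have hker : (⊤ : Subgroup (Cfsg.SU n F q)) ≤ MonoidHom.ker ρ := by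
    rw [← hgen, Subgroup.closure_le]
    rintro A ⟨v, c, hv, hA⟩
    by_cases hv0 : v = 0
    · have : A = 1 := by
        apply Subtype.ext
        apply Subtype.ext
        change A.1.1 = (1 : Matrix (Fin n) (Fin n) F)
        rw [hA, hv0, unitaryTransvection]
        simp
      rw [this]
      exact map_one ρ
    · have hact : ∀ x, A.1.1 *ᵥ x = x + (c * hermForm n F q x v) • v := by
        intro x
        rw [hA]
        exact Cfsg.Agent.S0779.trans_mulVec n q v c x
      have hc : c + (std hF n).σ c = 0 := by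
        obtain ⟨f, hf⟩ := exists_herm_ne_zero hF hv0
        have hf' := (std hF n).swap_ne hf
        rw [std_h] at hf'
        have h1 := (mem_SU_iff A.1).1 A.2 f f
        rw [hact] at h1
        simp only [herm_add_left, herm_add_right hF, herm_smul_left, herm_smul_right, hv, mul_pow,
          mul_zero, add_zero] at h1
        have h3 : hermForm n F q v f = (hermForm n F q f v) ^ q := herm_swap hF f v
        have h4 : (c + c ^ q) * (hermForm n F q f v * (hermForm n F q f v) ^ q) = 0 := by
          rw [h3] at h1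
          linear_combination h1
        rw [h3] at hf
        exact (mul_eq_zero.1 h4).resolve_right (mul_ne_zero hf' hf)
      have hAeq : A = (grp hF n).tv v c := by
        apply (grp hF n).ext
        intro x
        rw [(grp hF n).π_tv hv hc, grp_apply, hact, std_h]
      rw [hAeq]
      change ρ _ = 1
      refine LinearMap.ext fun m => ?_
      exact htriv v hv0 hv m c hc
  exact hker (Subgroup.mem_top g)

end Cfsg.Agent.H119.SUBound
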