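import Cfsg.Agent.H119.Wts

/-!
# Finite fields of characteristic two: the canonical additive character, ternary quadratic forms

* `exists_canon` : a character `ψ ≠ 0` with `ψ (s * s) = ψ s` and `ψ x = 1 → ∃ t, t * t + t = x`;
* `exists_ternary` : a ternary quadratic form has a nontrivial zero.
-/

set_option autoImplicit false

namespace Cfsg.Agent.H119.CharTwo

variable {F : Type*} [Field F] [Fintype F]

theorem add_self' (h2 : (2 : F) = 0) (a : F) : a + a = 0 := by
  linear_combination a * h2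

theorem exists_sqrt (h2 : (2 : F) = 0) (a : F) : ∃ b : F, b * b = a := by
  have : CharP F 2 := CharTwo.of_one_ne_zero_of_two_eq_zero one_ne_zero h2
  obtain ⟨b, hb⟩ := FiniteField.isSquare_of_char_two (F := F) (ringChar.eq F 2) a
  exact ⟨b, hb.symm⟩

/-- the map `x ↦ x * x + x` -/
def wp (h2 : (2 : F) = 0) : F →+ F where
  toFun x := x * x + x
  map_zero' := by ring
  map_add' a b := by linear_combination (a * b) * h2

theorem exists_canon (h2 : (2 : F) = 0) : ∃ ψ : AddChar F ℂ, ψ ≠ 0 ∧ (∀ s, ψ (s * s) = ψ s) ∧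
    ∀ x, ψ x = 1 → ∃ t, t * t + t = x := by
  classical
  set R : AddSubgroup F := (wp h2).range with hR
  -- the kernel is `{0, 1}`
  have hker : Nat.card (wp h2).ker = 2 := by
    have h1 : ((wp h2).ker : Set F) = {0, 1} := by
      ext x
      rw [SetLike.mem_coe, AddMonoidHom.mem_ker]
      change x * x + x = 0 ↔ _
      rw [Set.mem_insert_iff, Set.mem_singleton_iff]
      constructor
      · intro h
        have : x * (x + 1) = 0 := by linear_combination h
        rcases mul_eq_zero.1 this with h3 | h3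
        · exact Or.inl h3
        · right
          linear_combination h3 - h2
      · rintro (rfl | rfl)
        · ring
        · linear_combination h2
    have h3 : Nat.card (wp h2).ker = Set.ncard ({0, 1} : Set F) := by
      rw [← h1]
      rfl
    rw [h3, Set.ncard_pair zero_ne_one]
  have hcard : Nat.card (F ⧸ R) = 2 := by
    have e1 := AddSubgroup.card_eq_card_quotient_mul_card_addSubgroup (wp h2).ker
    have e2 := AddSubgroup.card_eq_card_quotient_mul_card_addSubgroup R
    have e3 : Nat.card (F ⧸ (wp h2).ker) = Nat.card R :=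
      Nat.card_congr (QuotientAddGroup.quotientKerEquivRange (wp h2)).toEquiv
    rw [hker, e3] at e1
    rw [e1, mul_comm] at e2
    have h4 : 0 < Nat.card R := Nat.card_pos
    exact (Nat.eq_of_mul_eq_mul_right h4 e2).symm
  have hfin : Finite (F ⧸ R) := inferInstance
  have hnt : Nontrivial (F ⧸ R) := by
    rw [← Finite.one_lt_card_iff_nontrivial, hcard]
    norm_num
  obtain ⟨a, ha⟩ := exists_ne (0 : F ⧸ R)
  obtain ⟨χ, hχ⟩ := AddChar.exists_apply_ne_zero.2 ha
  have honly : ∀ b : F ⧸ R, b ≠ 0 → b = a := by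
    intro b hb
    by_contra hba
    have : Fintype (F ⧸ R) := Fintype.ofFinite _
    have h5 : ({0, a, b} : Finset (F ⧸ R)).card ≤ 2 := by
      rw [← hcard, Nat.card_eq_fintype_card]
      exact Finset.card_le_univ _
    rw [Finset.card_insert_of_notMem, Finset.card_insert_of_notMem, Finset.card_singleton] at h5
    · omega
    · rw [Finset.mem_singleton]
      exact fun h => hba h.symm
    · rw [Finset.mem_insert, Finset.mem_singleton]
      rintro (h | h)
      · exact ha h.symm
      · exact hb h.symm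
  have hmk : ∀ t : F, (QuotientAddGroup.mk' R) (t * t + t) = 0 := by
    intro t
    rw [QuotientAddGroup.mk'_apply, QuotientAddGroup.eq_zero_iff]
    exact ⟨t, rfl⟩
  refine ⟨χ.compAddMonoidHom (QuotientAddGroup.mk' R), ?_, ?_, ?_⟩
  · intro h
    obtain ⟨x, rfl⟩ := QuotientAddGroup.mk_surjective a
    exact hχ (DFunLike.congr_fun h x)
  · intro s
    rw [AddChar.compAddMonoidHom_apply, AddChar.compAddMonoidHom_apply]
    have h6 : s * s = (s * s + s) + s := by linear_combination (-s) * h2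
    rw [h6, map_add, hmk, zero_add]
  · intro x hx
    rw [AddChar.compAddMonoidHom_apply] at hx
    have h7 : (QuotientAddGroup.mk' R) x = 0 := by
      by_contra h8
      rw [honly _ h8] at hx
      exact hχ hx
    rw [QuotientAddGroup.mk'_apply, QuotientAddGroup.eq_zero_iff] at h7
    obtain ⟨t, ht⟩ := h7
    exact ⟨t, ht⟩

/-- a ternary quadratic form over a finite field of characteristic two has a nontrivial zero -/
theorem exists_ternary (h2 : (2 : F) = 0) (k₁ k₂ k₃ b₁₂ b₁₃ b₂₃ : F) :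
    ∃ a b c : F, (a ≠ 0 ∨ b ≠ 0 ∨ c ≠ 0) ∧
      k₁ * (a * a) + k₂ * (b * b) + k₃ * (c * c) + b₁₂ * (a * b) + b₁₃ * (a * c) + b₂₃ * (b * c) = 0 := by
  by_cases h1 : k₁ = 0
  · exact ⟨1, 0, 0, Or.inl one_ne_zero, by rw [h1]; ring⟩
  by_cases h3 : k₂ = 0
  · exact ⟨0, 1, 0, Or.inr (Or.inl one_ne_zero), by rw [h3]; ring⟩
  by_cases h4 : k₃ = 0
  · exact ⟨0, 0, 1, Or.inr (Or.inr one_ne_zero), by rw [h4]; ring⟩
  -- the radical vector `r = (b₂₃, b₁₃, b₁₂)`
  set K : F := k₁ * (b₂₃ * b₂₃) + k₂ * (b₁₃ * b₁₃) + k₃ * (b₁₂ * b₁₂) + b₁₂ * (b₂₃ * b₁₃) +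
    b₁₃ * (b₂₃ * b₁₂) + b₂₃ * (b₁₃ * b₁₂) with hK
  by_cases hr : b₁₃ = 0 ∧ b₁₂ = 0
  · -- the vector `r` is a multiple of the first basis vector; use the second and the first one
    obtain ⟨hr1, hr2⟩ := hr
    obtain ⟨s, hs⟩ := exists_sqrt h2 (k₁ * k₂⁻¹)
    refine ⟨1, s, 0, Or.inl one_ne_zero, ?_⟩
    rw [hr1, hr2, hs]
    field_simp
    linear_combination k₁ * h2
  · -- `r + s e₁` with `s ^ 2 = K / k₁`
    obtain ⟨s, hs⟩ := exists_sqrt h2 (K * k₁⁻¹)
    have hs' : k₁ * (s * s) = K := by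
      rw [hs]
      field_simp
    refine ⟨b₂₃ + s, b₁₃, b₁₂, ?_, ?_⟩
    · right
      by_contra hc
      push Not at hc
      exact hr hc
    · linear_combination hs' + hK + (K + k₁ * b₂₃ * s + b₁₂ * b₁₃ * s) * h2

end Cfsg.Agent.H119.CharTwo
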