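import Mathlib

/-!
# Hermitian spaces and their Siegel, torus elements

`HS F V` : a Hermitian form `h` on `V` for an involution `σ` of `F` with surjective norm and trace
maps.  `UG H G` : a group `G` acting faithfully on `V` by isometries, containing all isometries of
determinant one.  Elements `U.sg e w c` (Siegel elements), `U.tor e f v t`, `U.tor2 e f e' f' t`.
-/

set_option autoImplicit false

namespace Cfsg.Agent.H119

open Module

/-- a Hermitian form with respect to an involution with surjective norm and trace -/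
structure HS (F V : Type*) [Field F] [AddCommGroup V] [Module F V] where
  σ : F ≃+* F
  σσ : ∀ a, σ (σ a) = a
  tr : ∀ a, σ a = a → ∃ x, x + σ x = a
  nm : ∀ a, σ a = a → ∃ x, x * σ x = a
  κ : ∃ x, x ≠ 0 ∧ x + σ x = 0
  h : V → V → F
  add_left : ∀ x y z, h (x + y) z = h x z + h y z
  smul_left : ∀ a x z, h (a • x) z = a * h x z
  swap : ∀ x y, σ (h x y) = h y x

namespace HS

variable {F V : Type*} [Field F] [AddCommGroup V] [Module F V] (H : HS F V)

theorem add_right (x y z : V) : H.h x (y + z) = H.h x y + H.h x z := by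
  rw [← H.swap, H.add_left, map_add, H.swap, H.swap]

theorem smul_right (a : F) (x y : V) : H.h x (a • y) = H.σ a * H.h x y := by
  rw [← H.swap, H.smul_left, map_mul, H.swap]

theorem zero_left (x : V) : H.h 0 x = 0 := by
  have := H.smul_left 0 0 x
  rwa [zero_smul, zero_mul] at this

theorem zero_right (x : V) : H.h x 0 = 0 := by
  rw [← H.swap, H.zero_left, map_zero]

theorem neg_left (x y : V) : H.h (-x) y = - H.h x y := by
  have := H.smul_left (-1) x y
  rwa [neg_one_smul, neg_one_mul] at this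

theorem neg_right (x y : V) : H.h x (-y) = - H.h x y := by
  rw [← H.swap, H.neg_left, map_neg, H.swap]

theorem sub_left (x y z : V) : H.h (x - y) z = H.h x z - H.h y z := by
  rw [sub_eq_add_neg, H.add_left, H.neg_left, sub_eq_add_neg]

theorem sub_right (x y z : V) : H.h x (y - z) = H.h x y - H.h x z := by
  rw [sub_eq_add_neg, H.add_right, H.neg_right, sub_eq_add_neg]

theorem swap_zero {x y : V} (hxy : H.h x y = 0) : H.h y x = 0 := by
  rw [← H.swap, hxy, map_zero]

theorem swap_ne {x y : V} (hxy : H.h x y ≠ 0) : H.h y x ≠ 0 := fun h => hxy (H.swap_zero h)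

theorem σ_inj {a b : F} (h : H.σ a = H.σ b) : a = b := H.σ.injective h

/-- the linear functional `x ↦ h x w` -/
def fn (w : V) : Module.Dual F V where
  toFun x := H.h x w
  map_add' x y := H.add_left x y w
  map_smul' a x := H.smul_left a x w

@[simp] theorem fn_apply (w x : V) : H.fn w x = H.h x w := rfl

/-- `T` preserves the form -/
def Iso (T : End F V) : Prop := ∀ x y, H.h (T x) (T y) = H.h x y

theorem Iso.mul {H : HS F V} {S T : End F V} (hS : H.Iso S) (hT : H.Iso T) : H.Iso (S * T) := by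
  intro x y
  rw [End.mul_apply, End.mul_apply, hS, hT]

/-- the Siegel map `x ↦ x + h x e • w - h x w • e + (c * h x e) • e` -/
def sgMap (e w : V) (c : F) : End F V :=
  LinearMap.transvection (H.fn e) w * LinearMap.transvection (c • H.fn e - H.fn w) e

theorem sgMap_apply {e w : V} (c : F) (he : H.h e e = 0) (x : V) :
    H.sgMap e w c x = x + H.h x e • w - H.h x w • e + (c * H.h x e) • e := by
  have h1 : LinearMap.transvection (c • H.fn e - H.fn w) e x =
      x + (c * H.h x e - H.h x w) • e := rfl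
  have h2 : H.h (x + (c * H.h x e - H.h x w) • e) e = H.h x e := by
    rw [H.add_left, H.smul_left, he, mul_zero, add_zero]
  change LinearMap.transvection (H.fn e) w (LinearMap.transvection (c • H.fn e - H.fn w) e x) = _
  rw [h1]
  change (x + (c * H.h x e - H.h x w) • e) + H.h (x + (c * H.h x e - H.h x w) • e) e • w = _
  rw [h2, sub_smul]
  abel

theorem sgMap_det [FiniteDimensional F V] {e w : V} {c : F} (he : H.h e e = 0) (hw : H.h w e = 0) :
    LinearMap.det (H.sgMap e w c) = 1 := by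
  have hw' : H.h e w = 0 := H.swap_zero hw
  rw [sgMap, map_mul, LinearMap.transvection.det, LinearMap.transvection.det]
  change (1 + H.h w e) * (1 + (c * H.h e e - H.h e w)) = 1
  rw [he, hw, hw']
  ring

theorem sgMap_iso {e w : V} {c : F} (he : H.h e e = 0) (hw : H.h w e = 0)
    (hc : c + H.σ c + H.h w w = 0) : H.Iso (H.sgMap e w c) := by
  intro x y
  have hw' : H.h e w = 0 := H.swap_zero hw
  have e1 : H.h e y = H.σ (H.h y e) := (H.swap _ _).symm
  have e2 : H.h w y = H.σ (H.h y w) := (H.swap _ _).symm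
  rw [H.sgMap_apply c he, H.sgMap_apply c he]
  simp only [H.add_left, H.sub_left, H.smul_left, H.add_right, H.sub_right, H.smul_right, map_mul]
  rw [he, hw, hw', e1, e2]
  linear_combination (H.h x e * H.σ (H.h y e)) * hc

/-- the map `e ↦ s e, f ↦ σ(s)⁻¹ f`, identity on `{e,f}^⊥` -/
def dMap (e f : V) (s : F) : End F V :=
  LinearMap.transvection (((H.σ s)⁻¹ - 1) • H.fn e) f * LinearMap.transvection ((s - 1) • H.fn f) e

theorem dMap_apply {e f : V} (s : F) (he : H.h e e = 0) (x : V) :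
    H.dMap e f s x = x + ((s - 1) * H.h x f) • e + (((H.σ s)⁻¹ - 1) * H.h x e) • f := by
  have h2 : H.h (x + ((s - 1) * H.h x f) • e) e = H.h x e := by
    rw [H.add_left, H.smul_left, he, mul_zero, add_zero]
  change (x + ((s - 1) * H.h x f) • e) +
    (((H.σ s)⁻¹ - 1) * H.h (x + ((s - 1) * H.h x f) • e) e) • f = _
  rw [h2]

theorem dMap_det [FiniteDimensional F V] {e f : V} {s : F} (hef : H.h e f = 1) :
    LinearMap.det (H.dMap e f s) = s * (H.σ s)⁻¹ := by
  have hfe : H.h f e = 1 := by rw [← H.swap, hef, map_one]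
  rw [dMap, map_mul, LinearMap.transvection.det, LinearMap.transvection.det]
  change (1 + ((H.σ s)⁻¹ - 1) * H.h f e) * (1 + (s - 1) * H.h e f) = _
  rw [hef, hfe]
  ring

theorem dMap_iso {e f : V} {s : F} (he : H.h e e = 0) (hf : H.h f f = 0) (hef : H.h e f = 1)
    (hs : s ≠ 0) : H.Iso (H.dMap e f s) := by
  intro x y
  have hfe : H.h f e = 1 := by rw [← H.swap, hef, map_one]
  have e1 : H.h e y = H.σ (H.h y e) := (H.swap _ _).symm
  have e2 : H.h f y = H.σ (H.h y f) := (H.swap _ _).symm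
  have hs' : H.σ s ≠ 0 := by
    intro h
    exact hs (H.σ.injective (by rw [h, map_zero]))
  rw [H.dMap_apply s he, H.dMap_apply s he]
  simp only [H.add_left, H.smul_left, H.add_right, H.smul_right, map_mul, map_sub, map_one, map_inv₀,
    H.σσ]
  rw [he, hf, hef, hfe, e1, e2]
  field_simp
  ring

/-- quasi-reflection `v ↦ a v`, identity on `v^⊥` -/
def rMap (v : V) (a : F) : End F V := LinearMap.transvection (((a - 1) * (H.h v v)⁻¹) • H.fn v) v

theorem rMap_apply (v : V) (a : F) (x : V) :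
    H.rMap v a x = x + ((a - 1) * (H.h v v)⁻¹ * H.h x v) • v := rfl

theorem rMap_det [FiniteDimensional F V] {v : V} {a : F} (hv : H.h v v ≠ 0) :
    LinearMap.det (H.rMap v a) = a := by
  rw [rMap, LinearMap.transvection.det]
  change 1 + (a - 1) * (H.h v v)⁻¹ * H.h v v = a
  field_simp
  ring

theorem rMap_iso {v : V} {a : F} (hv : H.h v v ≠ 0) (ha : a * H.σ a = 1) : H.Iso (H.rMap v a) := by
  intro x y
  have e1 : H.h v y = H.σ (H.h y v) := (H.swap _ _).symm
  have e2 : H.σ (H.h v v) = H.h v v := H.swap _ _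
  rw [H.rMap_apply, H.rMap_apply]
  simp only [H.add_left, H.smul_left, H.add_right, H.smul_right, map_mul, map_sub, map_one, map_inv₀]
  rw [e1, e2]
  field_simp
  linear_combination (H.h x v * H.σ (H.h y v)) * ha

/-! ### existence lemmas in nondegenerate subspaces -/

/-- nondegenerate subspace -/
def Nd (U : Submodule F V) : Prop := ∀ x ∈ U, (∀ y ∈ U, H.h x y = 0) → x = 0

variable {H} {U : Submodule F V}

theorem Nd.exists_ne (hU : H.Nd U) {x : V} (hx : x ∈ U) (hx0 : x ≠ 0) : ∃ y ∈ U, H.h x y ≠ 0 := by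
  by_contra hc
  push Not at hc
  exact hx0 (hU x hx hc)

/-- make a vector isotropic by adding a multiple of an isotropic one -/
theorem exists_adjust {e y : V} (he : H.h e e = 0) (hey : H.h e y ≠ 0) :
    ∃ a : F, H.h (y + a • e) (y + a • e) = 0 := by
  obtain ⟨x, hx⟩ := H.tr (- H.h y y) (by rw [map_neg, H.swap])
  refine ⟨x * (H.h e y)⁻¹, ?_⟩
  have e1 : H.h y e = H.σ (H.h e y) := (H.swap _ _).symm
  simp only [H.add_left, H.smul_left, H.add_right, H.smul_right, map_mul, map_inv₀, he, e1]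
  have h2 : H.σ (H.h e y) ≠ 0 := by
    rw [H.swap]
    exact H.swap_ne hey
  field_simp
  linear_combination (H.σ (H.h e y) * H.h e y) * hx

/-- hyperbolic partner -/
theorem Nd.exists_pair (hU : H.Nd U) {e : V} (heU : e ∈ U) (he0 : e ≠ 0) (he : H.h e e = 0) :
    ∃ f ∈ U, H.h f f = 0 ∧ H.h e f = 1 := by
  obtain ⟨y, hy, hey⟩ := hU.exists_ne heU he0
  obtain ⟨a, ha⟩ := exists_adjust he hey
  have h1 : H.h e (y + a • e) = H.h e y := by
    rw [H.add_right, H.smul_right, he, mul_zero, add_zero]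
  refine ⟨(H.σ (H.h e y))⁻¹ • (y + a • e), ?_, ?_, ?_⟩
  · exact U.smul_mem _ (U.add_mem hy (U.smul_mem _ heU))
  · rw [H.smul_left, H.smul_right, ha, mul_zero, mul_zero]
  · rw [H.smul_right, h1, map_inv₀, H.σσ, inv_mul_cancel₀ hey]

/-- isotropic vector non-orthogonal to two given orthogonal isotropic vectors -/
theorem Nd.exists_common (hU : H.Nd U) {e v : V} (heU : e ∈ U) (he0 : e ≠ 0) (he : H.h e e = 0)
    (hvU : v ∈ U) (hv0 : v ≠ 0) (hve : H.h v e = 0) :
    ∃ f ∈ U, H.h f f = 0 ∧ H.h e f ≠ 0 ∧ H.h v f ≠ 0 := by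
  obtain ⟨y, hy, h1, h2⟩ : ∃ y ∈ U, H.h e y ≠ 0 ∧ H.h v y ≠ 0 := by
    obtain ⟨y1, hy1, h1⟩ := hU.exists_ne heU he0
    obtain ⟨y2, hy2, h2⟩ := hU.exists_ne hvU hv0
    by_cases h3 : H.h v y1 = 0
    · by_cases h4 : H.h e y2 = 0
      · refine ⟨y1 + y2, U.add_mem hy1 hy2, ?_, ?_⟩
        · rwa [H.add_right, h4, add_zero]
        · rwa [H.add_right, h3, zero_add]
      · exact ⟨y2, hy2, h4, h2⟩
    · exact ⟨y1, hy1, h1, h3⟩
  obtain ⟨a, ha⟩ := exists_adjust he h1
  refine ⟨y + a • e, U.add_mem hy (U.smul_mem _ heU), ha, ?_, ?_⟩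
  · rwa [H.add_right, H.smul_right, he, mul_zero, add_zero]
  · rwa [H.add_right, H.smul_right, hve, mul_zero, add_zero]

/-- an anisotropic vector -/
theorem Nd.exists_aniso (hU : H.Nd U) (hU0 : U ≠ ⊥) : ∃ v ∈ U, H.h v v ≠ 0 := by
  obtain ⟨x, hx, hx0⟩ := (Submodule.ne_bot_iff U).1 hU0
  obtain ⟨y, hy, hxy⟩ := hU.exists_ne hx hx0
  by_contra hc
  push Not at hc
  obtain ⟨a, ha⟩ : ∃ a : F, a + H.σ a ≠ 0 := by
    obtain ⟨a, ha⟩ := H.tr 1 (map_one _)
    exact ⟨a, by rw [ha]; exact one_ne_zero⟩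
  apply ha
  have h1 := hc (x + (H.σ (a * (H.h x y)⁻¹)) • y)
    (U.add_mem hx (U.smul_mem _ hy))
  have e1 : H.h y x = H.σ (H.h x y) := (H.swap _ _).symm
  simp only [H.add_left, H.smul_left, H.add_right, H.smul_right, H.σσ, hc x hx, hc y hy, e1, map_mul,
    map_inv₀] at h1
  have h2 : H.σ (H.h x y) ≠ 0 := by
    rw [H.swap]
    exact H.swap_ne hxy
  field_simp at h1
  have h3 : (H.h x y * H.σ (H.h x y)) * (a + H.σ a) = 0 := by linear_combination h1
  exact (mul_eq_zero.1 h3).resolve_left (mul_ne_zero hxy h2)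

/-- the orthogonal complement of a hyperbolic pair in `U` -/
def perp (H : HS F V) (U : Submodule F V) (e f : V) : Submodule F V :=
  U ⊓ LinearMap.ker (H.fn e) ⊓ LinearMap.ker (H.fn f)

theorem mem_perp {e f x : V} : x ∈ H.perp U e f ↔ x ∈ U ∧ H.h x e = 0 ∧ H.h x f = 0 := by
  simp [perp, and_assoc]

theorem Nd.perp (hU : H.Nd U) {e f : V} (heU : e ∈ U) (hfU : f ∈ U) (he : H.h e e = 0)
    (hf : H.h f f = 0) (hef : H.h e f = 1) : H.Nd (H.perp U e f) := by
  intro x hx hxy
  rw [mem_perp] at hx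
  have hfe : H.h f e = 1 := by rw [← H.swap, hef, map_one]
  refine hU x hx.1 fun y hy => ?_
  have h1 : y - H.h y f • e - H.h y e • f ∈ H.perp U e f := by
    rw [mem_perp]
    refine ⟨U.sub_mem (U.sub_mem hy (U.smul_mem _ heU)) (U.smul_mem _ hfU), ?_, ?_⟩
    · rw [H.sub_left, H.sub_left, H.smul_left, H.smul_left, he, hfe]
      ring
    · rw [H.sub_left, H.sub_left, H.smul_left, H.smul_left, hf, hef]
      ring
  have h2 := hxy _ h1
  rw [H.sub_right, H.sub_right, H.smul_right, H.smul_right, hx.2.1, hx.2.2, mul_zero, mul_zero,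
    sub_zero, sub_zero] at h2
  exact h2

theorem finrank_perp [FiniteDimensional F V] {e f : V} (heU : e ∈ U) (hfU : f ∈ U)
    (he : H.h e e = 0) (hf : H.h f f = 0) (hef : H.h e f = 1) :
    finrank F (H.perp U e f) + 2 = finrank F U := by
  have hfe : H.h f e = 1 := by rw [← H.swap, hef, map_one]
  let φ : U →ₗ[F] F × F := ((H.fn e).prod (H.fn f)).comp U.subtype
  have hφ : ∀ x : U, φ x = (H.h x e, H.h x f) := fun _ => rfl
  have h1 := LinearMap.finrank_range_add_finrank_ker φ
  have h2 : LinearMap.range φ = ⊤ := by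
    rw [LinearMap.range_eq_top]
    rintro ⟨a, b⟩
    refine ⟨⟨b • e + a • f, U.add_mem (U.smul_mem _ heU) (U.smul_mem _ hfU)⟩, ?_⟩
    rw [hφ]
    simp [H.add_left, H.smul_left, he, hf, hef, hfe]
  have h3 : finrank F (LinearMap.ker φ) = finrank F (H.perp U e f) := by
    have h4 : (LinearMap.ker φ).map U.subtype = H.perp U e f := by
      ext x
      rw [mem_perp, Submodule.mem_map]
      constructor
      · rintro ⟨y, hy, rfl⟩
        rw [LinearMap.mem_ker, hφ, Prod.mk_eq_zero] at hy
        exact ⟨y.2, hy⟩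
      · rintro ⟨hx, h5⟩
        refine ⟨⟨x, hx⟩, ?_, rfl⟩
        rw [LinearMap.mem_ker, hφ, Prod.mk_eq_zero]
        exact h5
    rw [← h4]
    exact (LinearEquiv.finrank_eq
      (Submodule.equivMapOfInjective U.subtype (Submodule.injective_subtype U) _))
  rw [h2, finrank_top, h3, Module.finrank_prod, Module.finrank_self] at h1
  omega

/-- an isotropic vector, dimension at least two -/
theorem Nd.exists_iso [FiniteDimensional F V] (hU : H.Nd U) (h2 : 2 ≤ finrank F U) :
    ∃ e ∈ U, e ≠ 0 ∧ H.h e e = 0 := by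
  have hU0 : U ≠ ⊥ := by
    rintro rfl
    rw [finrank_bot] at h2
    omega
  obtain ⟨v, hv, hvv⟩ := hU.exists_aniso hU0
  -- a vector orthogonal to `v`
  obtain ⟨w, hw, hw0, hwv⟩ : ∃ w ∈ U, w ≠ 0 ∧ H.h w v = 0 := by
    let φ : U →ₗ[F] F := (H.fn v).comp U.subtype
    have h3 := LinearMap.finrank_range_add_finrank_ker φ
    have h4 : finrank F (LinearMap.range φ) ≤ 1 := by
      have := Submodule.finrank_le (LinearMap.range φ)
      rwa [Module.finrank_self] at this
    have h5 : LinearMap.ker φ ≠ ⊥ := by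
      intro h
      rw [h, finrank_bot] at h3
      omega
    obtain ⟨⟨w, hw⟩, h6, h7⟩ := (Submodule.ne_bot_iff _).1 h5
    refine ⟨w, hw, ?_, h6⟩
    intro h
    exact h7 (Subtype.ext h)
  by_cases hww : H.h w w = 0
  · exact ⟨w, hw, hw0, hww⟩
  · obtain ⟨a, ha⟩ := H.nm (- (H.h v v) * (H.h w w)⁻¹) (by
      rw [map_mul, map_neg, map_inv₀, H.swap, H.swap])
    refine ⟨v + a • w, U.add_mem hv (U.smul_mem _ hw), ?_, ?_⟩
    · intro h
      have h8 : H.h (v + a • w) v = H.h v v := by
        rw [H.add_left, H.smul_left, hwv, mul_zero, add_zero]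
      rw [h, H.zero_left] at h8
      exact hvv h8.symm
    · have h9 : H.h v w = 0 := H.swap_zero hwv
      simp only [H.add_left, H.smul_left, H.add_right, H.smul_right, hwv, h9]
      field_simp at ha
      linear_combination ha

end HS

end Cfsg.Agent.H119
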