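import Mathlib

/-!
# Group theory for the nilpotent Hall rows (helper119)
-/

set_option autoImplicit false

namespace Cfsg.Agent.H119.NHG

open scoped Pointwise

universe u

variable {G : Type u} [Group G] [Finite G]

/-- A subgroup of index prime to `p` contains a Sylow `p`-subgroup. -/
theorem exists_sylow_le {p : ℕ} [Fact p.Prime] (D : Subgroup G) (hD : ¬ p ∣ D.index) :
    ∃ R : Sylow p G, (R : Subgroup G) ≤ D := by
  obtain ⟨R0⟩ : Nonempty (Sylow p D) := inferInstance
  have h1 : IsPGroup p ((R0 : Subgroup D).map D.subtype) := R0.isPGroup'.map _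
  have h2 : ¬ p ∣ ((R0 : Subgroup D).map D.subtype).index := by
    rw [Subgroup.index_map_subtype]
    intro h
    rcases (Fact.out : p.Prime).dvd_mul.1 h with h | h
    · exact R0.not_dvd_index h
    · exact hD h
  refine ⟨h1.toSylow h2, ?_⟩
  exact Subgroup.map_subtype_le _

/-- A `t`-element of `A` is conjugate in `A` into a given Sylow `t`-subgroup contained in `A`. -/
theorem exists_conj_mem {t : ℕ} [Fact t.Prime] {A : Subgroup G} (S : Sylow t G) (hS : (S : Subgroup G) ≤ A)
    {x : G} (hx : x ∈ A) {k : ℕ} (hk : orderOf x = t ^ k) : ∃ g ∈ A, g * x * g⁻¹ ∈ (S : Subgroup G) := by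
  have h1 : IsPGroup t (Subgroup.zpowers (⟨x, hx⟩ : A)) := by
    apply IsPGroup.of_card (n := k)
    rw [Nat.card_zpowers, Subgroup.orderOf_mk, hk]
  obtain ⟨R, hR⟩ := h1.exists_le_sylow
  obtain ⟨g, hg⟩ := MulAction.exists_smul_eq A R (S.subtype hS)
  refine ⟨g, g.2, ?_⟩
  have h2 : (⟨x, hx⟩ : A) ∈ (R : Subgroup A) := hR (Subgroup.mem_zpowers _)
  have h3 : MulAut.conj g • (⟨x, hx⟩ : A) ∈ MulAut.conj g • (R : Subgroup A) :=
    Subgroup.smul_mem_pointwise_smul _ _ _ h2
  have h4 : MulAut.conj g • (R : Subgroup A) = ((g • R : Sylow t A) : Subgroup A) := rfl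
  rw [h4, hg] at h3
  exact h3

/-- The index of `H ∩ N` in a normal subgroup `N` divides the index of `H`. -/
theorem relIndex_dvd_index (H N : Subgroup G) [N.Normal] : H.relIndex N ∣ H.index := by
  have h1 := Subgroup.relIndex_mul_relIndex (H ⊓ N) H (H ⊔ N) inf_le_left le_sup_left
  have h2 := Subgroup.relIndex_mul_relIndex (H ⊓ N) N (H ⊔ N) inf_le_right le_sup_right
  rw [Subgroup.relIndex_sup_right, ← h1] at h2
  have h3 : (H ⊓ N).relIndex H = N.relIndex H := by rw [inf_comm, Subgroup.inf_relIndex_right]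
  have h4 : (H ⊓ N).relIndex N = H.relIndex N := by rw [Subgroup.inf_relIndex_right]
  rw [h3, h4] at h2
  have h5 : N.relIndex H ≠ 0 := Subgroup.index_ne_zero_of_finite (H := N.subgroupOf H)
  have h6 : H.relIndex N = H.relIndex (H ⊔ N) := by
    rw [mul_comm] at h2
    exact Nat.eq_of_mul_eq_mul_left (Nat.pos_of_ne_zero h5) h2
  rw [h6]
  exact Subgroup.relIndex_dvd_index_of_le le_sup_left

/-- Version for a subgroup `N` normalized by `M ≥ C`. -/
theorem not_dvd_relIndex {t : ℕ} {C M N : Subgroup G} (hCM : C ≤ M) (hNM : N ≤ M)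
    (hN : ∀ n ∈ N, ∀ m ∈ M, m * n * m⁻¹ ∈ N) (h : ¬ t ∣ C.index) : ¬ t ∣ C.relIndex N := by
  intro hd
  apply h
  have hn : (N.subgroupOf M).Normal := ⟨fun n hn m => hN n hn m m.2⟩
  have h1 := relIndex_dvd_index (C.subgroupOf M) (N.subgroupOf M)
  rw [Subgroup.relIndex_subgroupOf hNM] at h1
  exact (hd.trans h1).trans (Subgroup.relIndex_dvd_index_of_le hCM)

/-- An element `y` of order `p` whose centralizer in `K` has index prime to `p`. -/
theorem exists_central {p : ℕ} [Fact p.Prime] (K : Subgroup G) (hK : p ∣ Nat.card K) :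
    ∃ y ∈ K, orderOf y = p ∧ ¬ p ∣ (Subgroup.centralizer ({y} : Set G)).relIndex K := by
  obtain ⟨P⟩ : Nonempty (Sylow p K) := inferInstance
  have hnt : Nontrivial (P : Subgroup K) := by
    rw [← Finite.one_lt_card_iff_nontrivial]
    have h1 : p ∣ Nat.card (P : Subgroup K) := P.dvd_card_of_dvd_card hK
    exact lt_of_lt_of_le (Fact.out : p.Prime).one_lt (Nat.le_of_dvd Nat.card_pos h1)
  have hc := P.isPGroup'.center_nontrivial
  have hcp : IsPGroup p (Subgroup.center (P : Subgroup K)) := P.isPGroup'.to_subgroup _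
  have h2 : p ∣ Nat.card (Subgroup.center (P : Subgroup K)) := by
    obtain ⟨n, hn⟩ := IsPGroup.iff_card.1 hcp
    have h3 : 1 < Nat.card (Subgroup.center (P : Subgroup K)) := Finite.one_lt_card_iff_nontrivial.2 hc
    rcases Nat.eq_zero_or_pos n with h4 | h4
    · rw [hn, h4, pow_zero] at h3
      exact absurd h3 (lt_irrefl _)
    · rw [hn]
      exact dvd_pow_self p h4.ne'
  obtain ⟨z, hz⟩ := exists_prime_orderOf_dvd_card' p h2
  refine ⟨((z : (P : Subgroup K)) : K), SetLike.coe_mem _, ?_, ?_⟩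
  · rw [Subgroup.orderOf_coe, Subgroup.orderOf_coe, Subgroup.orderOf_coe, hz]
  · intro hd
    refine P.not_dvd_index (hd.trans ?_)
    refine Subgroup.index_dvd_of_le ?_
    intro w hw
    rw [Subgroup.mem_subgroupOf, Subgroup.mem_centralizer_singleton_iff]
    have h5 := (Subgroup.mem_center_iff.1 z.2) ⟨w, hw⟩
    have h6 := congrArg (fun u : (P : Subgroup K) => ((u : K) : G)) h5
    exact h6

end Cfsg.Agent.H119.NHG
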