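import Cfsg.Agent.H119.NHComm
import Cfsg.Agent.H119.NHGrp

/-!
# Atoms (helper119)

`H.At p W`: `W` is nondegenerate with `p ∣ |K W|`, of minimal dimension.
-/

set_option autoImplicit false
set_option linter.unusedSectionVars false

namespace Cfsg.Agent.H119.NHF

open Module
open LinearMap (BilinForm)

universe u v w

/-- For different primes `p, q ∈ π`, every `p`-element of `G` has class size prime to `q`. -/
def Cnd (π : Set ℕ) (G : Type w) [Group G] : Prop :=
  ∀ p ∈ π, ∀ q ∈ π, p ≠ q → ∀ x : G, (∃ k : ℕ, orderOf x = p ^ k) →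
    ¬ q ∣ (Subgroup.centralizer ({x} : Set G)).index

variable {F : Type u} {V : Type v} [Field F] [AddCommGroup V] [Module F V]

theorem finite_equiv [Finite V] : Finite (V ≃ₗ[F] V) :=
  Finite.of_injective (fun g : V ≃ₗ[F] V => (g : V → V)) DFunLike.coe_injective

instance instFiniteG [Finite V] (H : FS F V) : Finite H.G := by
  have := finite_equiv (F := F) (V := V)
  infer_instance

/-! ### Elements of prime power order -/

section PE

variable {G : Type w} [Group G]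

theorem pe_dvd {p : ℕ} {x : G} (hx : ∃ k : ℕ, orderOf x = p ^ k) (hx1 : x ≠ 1) : p ∣ orderOf x := by
  obtain ⟨k, hk⟩ := hx
  rw [hk]
  apply dvd_pow_self
  rintro rfl
  rw [pow_zero, orderOf_eq_one_iff] at hk
  exact hx1 hk

theorem pe_cast {p : ℕ} {x : G} (hx : ∃ k : ℕ, orderOf x = p ^ k) (hF : (p : F) ≠ 0) :
    (orderOf x : F) ≠ 0 := by
  obtain ⟨k, hk⟩ := hx
  rw [hk, Nat.cast_pow]
  exact pow_ne_zero _ hF

theorem pe_of_pow {p : ℕ} (hp : p.Prime) {x : G} {n : ℕ} (h : x ^ p ^ n = 1) : ∃ k : ℕ, orderOf x = p ^ k := by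
  obtain ⟨k, -, hk⟩ := (Nat.dvd_prime_pow hp).1 (orderOf_dvd_of_pow_eq_one h)
  exact ⟨k, hk⟩

theorem pe_conj {p : ℕ} {x : G} (g : G) (hx : ∃ k : ℕ, orderOf x = p ^ k) :
    ∃ k : ℕ, orderOf (g * x * g⁻¹) = p ^ k := by
  obtain ⟨k, hk⟩ := hx
  refine ⟨k, ?_⟩
  rw [← hk]
  exact (MulEquiv.orderOf_eq (MulAut.conj g) x)

end PE

namespace FS

variable (H : FS F V)

theorem pow_apply_fix {g : H.G} {x : V} (h : g.1 x = x) (i : ℕ) : (g ^ i).1 x = x := by
  induction i with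
  | zero => rfl
  | succ i ih =>
    rw [pow_succ]
    show (g ^ i).1 (g.1 x) = x
    rw [h, ih]

theorem fix_nd {g : H.G} {n : ℕ} (hn : g ^ n = 1) (hF : (n : F) ≠ 0) : H.Nd (fix g.1) := by
  unfold Nd
  rw [Submodule.disjoint_def]
  intro x hx hxp
  apply H.eq_zero_of_forall
  intro z
  have h1 : ∑ i ∈ Finset.range n, (g ^ i).1 z ∈ fix g.1 := by
    rw [mem_fix, map_sum]
    have h2 : ∀ i, g.1 ((g ^ i).1 z) = (g ^ (i + 1)).1 z := fun i => by
      rw [pow_succ']
      rfl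
    rw [Finset.sum_congr rfl (fun i _ => h2 i)]
    have h3 := Finset.sum_range_succ (fun i => (g ^ i).1 z) n
    have h4 := Finset.sum_range_succ' (fun i => (g ^ i).1 z) n
    rw [h3] at h4
    rw [hn, pow_zero] at h4
    exact (add_right_cancel h4).symm
  have h5 := H.mem_perp'.1 hxp _ h1
  rw [map_sum] at h5
  have h6 : ∀ i ∈ Finset.range n, H.B x ((g ^ i).1 z) = H.B x z := by
    intro i _
    conv_lhs => rw [← H.pow_apply_fix (g := g) (x := x) hx i]
    exact H.B_map _ _ _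
  rw [Finset.sum_congr rfl h6, Finset.sum_const, Finset.card_range, nsmul_eq_mul] at h5
  exact (mul_eq_zero.1 h5).resolve_left hF

theorem St_fix {y z : H.G} (h : z * y = y * z) {x : V} (hx : x ∈ fix y.1) : z.1 x ∈ fix y.1 := by
  have h1 : z.1 (y.1 x) = y.1 (z.1 x) := congrArg (fun w : H.G => w.1 x) h
  rw [mem_fix, ← h1, show y.1 x = x from hx]

variable [FiniteDimensional F V]

theorem mem_K_supp (g : H.G) : g ∈ H.K (H.perp (fix g.1)) := by
  intro x hx
  rw [perp_perp] at hx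
  exact hx

theorem commute_St {y z : H.G} {W : Submodule F V} (hfix : fix y.1 = H.perp W) (h : z * y = y * z) :
    z ∈ H.St W := by
  apply H.St_of_perp
  apply H.en_St
  rw [← hfix]
  exact fun x hx => H.St_fix h hx

theorem perp_fix_le {W : Submodule F V} {x : H.G} (hx : x ∈ H.K W) : H.perp (fix x.1) ≤ W := by
  have h1 : H.perp W ≤ fix x.1 := fun z hz => hx z hz
  have h2 := H.perp_le h1
  rwa [perp_perp] at h2

theorem K_bot {x : H.G} (hx : x ∈ H.K ⊥) : x = 1 := by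
  apply Subtype.ext
  ext z
  refine hx z ?_
  rw [mem_perp]
  intro w hw
  rw [Submodule.mem_bot] at hw
  rw [hw, map_zero, LinearMap.zero_apply]

/-- Atoms. -/
def At (p : ℕ) (W : Submodule F V) : Prop :=
  H.Nd W ∧ p ∣ Nat.card (H.K W) ∧ ∀ U, H.Nd U → p ∣ Nat.card (H.K U) → finrank F W ≤ finrank F U

variable {H}

theorem At.nd {p : ℕ} {W : Submodule F V} (h : H.At p W) : H.Nd W := h.1

theorem At.ne_bot {p : ℕ} (hp : p.Prime) {W : Submodule F V} (h : H.At p W) : W ≠ ⊥ := by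
  rintro rfl
  have h1 : Nat.card (H.K (⊥ : Submodule F V)) = 1 := by
    rw [Subgroup.card_eq_one, eq_bot_iff]
    exact fun x hx => Subgroup.mem_bot.2 (H.K_bot hx)
  have := h.2.1
  rw [h1] at this
  exact hp.one_lt.ne' (Nat.dvd_one.1 this)

theorem At.exists_le {p : ℕ} {W : Submodule F V} (hW : H.Nd W) (h : p ∣ Nat.card (H.K W)) :
    ∃ U, H.At p U := by
  induction hn : finrank F W using Nat.strong_induction_on generalizing W with
  | _ n ih =>
    subst hn
    by_cases hmin : ∀ U, H.Nd U → p ∣ Nat.card (H.K U) → finrank F W ≤ finrank F U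
    · exact ⟨W, hW, h, hmin⟩
    · push Not at hmin
      obtain ⟨U, hU, hpU, hlt⟩ := hmin
      exact ih _ hlt hU hpU rfl

variable [Finite V]

theorem At.fix_eq {p : ℕ} {W : Submodule F V} (hW : H.At p W) (hF : (p : F) ≠ 0) {x : H.G} (hx : x ∈ H.K W)
    (hxp : ∃ k : ℕ, orderOf x = p ^ k) (hx1 : x ≠ 1) : fix x.1 = H.perp W := by
  have h1 : H.Nd (fix x.1) := H.fix_nd (pow_orderOf_eq_one x) (pe_cast hxp hF)
  have h2 : p ∣ Nat.card (H.K (H.perp (fix x.1))) :=
    (pe_dvd hxp hx1).trans (Subgroup.orderOf_dvd_natCard _ (H.mem_K_supp x))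
  have h3 := hW.2.2 _ (Nd.perp H h1) h2
  have h4 : H.perp (fix x.1) = W := Submodule.eq_of_le_of_finrank_le (H.perp_fix_le hx) h3
  rw [← h4, perp_perp]

/-- A `p`-element stabilising the nondegenerate subspace `U` and not trivial on it. -/
theorem dvd_card_of_St {p : ℕ} (hp : p.Prime) {U : Submodule F V} (hU : H.Nd U) {y : H.G} (hy : y ∈ H.St U)
    (hyp : ∃ k : ℕ, orderOf y = p ^ k) (hne : ∃ x ∈ U, y.1 x ≠ x) : p ∣ Nat.card (H.K U) := by
  obtain ⟨k, hk⟩ := hyp
  set z := H.part hU ⟨y, hy⟩ with hz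
  have h1 : z ^ p ^ k = 1 := by
    rw [hz, ← map_pow]
    have : (⟨y, hy⟩ : H.St U) ^ p ^ k = 1 := by
      apply Subtype.ext
      show y ^ p ^ k = 1
      rw [← hk, pow_orderOf_eq_one]
    rw [this, map_one]
  have h2 : z ≠ 1 := by
    obtain ⟨x, hx, hxne⟩ := hne
    intro h
    apply hxne
    rw [← H.part_apply hU ⟨y, hy⟩ hx, ← hz, h]
    rfl
  exact (pe_dvd (pe_of_pow hp h1) h2).trans (Subgroup.orderOf_dvd_natCard _ (H.part_mem hU _))

theorem disj_of_le {U W : Submodule F V} (hW : H.Nd W) (hUW : U ≤ W) (hU : U ≠ ⊥) {y : H.G}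
    (hfix : fix y.1 = H.perp W) : ∃ x ∈ U, y.1 x ≠ x := by
  by_contra hcon
  push Not at hcon
  apply hU
  rw [eq_bot_iff]
  intro x hx
  have h1 : x ∈ H.perp W := by
    rw [← hfix]
    exact hcon x hx
  rw [Submodule.mem_bot]
  exact (Submodule.disjoint_def.1 hW) x (hUW hx) h1

/-- Invariant nondegenerate subspaces. -/
theorem At.eq_of_inv {p : ℕ} (hp : p.Prime) {U W : Submodule F V} (hW : H.At p W) (hUW : U ≤ W) (hU : U ≠ ⊥)
    (hUn : H.Nd U) {y : H.G} (hy : y ∈ H.St U) (hyp : ∃ k : ℕ, orderOf y = p ^ k)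
    (hfix : fix y.1 = H.perp W) : U = W :=
  Submodule.eq_of_le_of_finrank_le hUW
    (hW.2.2 U hUn (dvd_card_of_St hp hUn hy hyp (disj_of_le hW.1 hUW hU hfix)))

/-- The main tool. -/
theorem IL {t : ℕ} (ht : t.Prime) {y x : H.G} {W : Submodule F V} (hfix : fix y.1 = H.perp W)
    (hc : ¬ t ∣ (Subgroup.centralizer ({y} : Set H.G)).index) (hx : x ∈ H.K W)
    (hxt : ∃ k : ℕ, orderOf x = t ^ k) :
    ∃ g ∈ H.St W, (g * x * g⁻¹) * y = y * (g * x * g⁻¹) := by
  have : Fact t.Prime := ⟨ht⟩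
  obtain ⟨S, hS⟩ := NHG.exists_sylow_le _ hc
  have hSW : (S : Subgroup H.G) ≤ H.St W := by
    intro z hz
    exact H.commute_St hfix (Subgroup.mem_centralizer_singleton_iff.1 (hS hz))
  obtain ⟨k, hk⟩ := hxt
  obtain ⟨g, hg, hgx⟩ := NHG.exists_conj_mem S hSW (H.K_le_St W hx) hk
  exact ⟨g, hg, Subgroup.mem_centralizer_singleton_iff.1 (hS hgx)⟩

/-! ### Transport by isometries -/

/-- The isometry given by an element of the group. -/
noncomputable def isomMap (g : H.G) (W : Submodule F V) : H.Isom W (W.map (g.1 : V →ₗ[F] V)) where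
  e := g.1.submoduleMap W
  hB x y := H.B_map g x y
  hQ x := H.Q_map g x

/-- The inverse isometry. -/
noncomputable def Isom.symm {U W : Submodule F V} (φ : H.Isom U W) : H.Isom W U where
  e := φ.e.symm
  hB x y := by
    have := φ.hB (φ.e.symm x) (φ.e.symm y)
    rw [φ.e.apply_symm_apply, φ.e.apply_symm_apply] at this
    exact this.symm
  hQ x := by
    have := φ.hQ (φ.e.symm x)
    rw [φ.e.apply_symm_apply] at this
    exact this.symm

/-- The composite isometry. -/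
noncomputable def Isom.trans {U W X : Submodule F V} (φ : H.Isom U W) (ψ : H.Isom W X) : H.Isom U X where
  e := φ.e.trans ψ.e
  hB x y := by
    show H.B (ψ.e (φ.e x)) (ψ.e (φ.e y)) = _
    rw [ψ.hB, φ.hB]
  hQ x := by
    show H.Q (ψ.e (φ.e x)) = _
    rw [ψ.hQ, φ.hQ]

theorem Isom.card_dvd {U W : Submodule F V} (hU : H.Nd U) (hW : H.Nd W) (φ : H.Isom U W) :
    Nat.card (H.K U) ∣ Nat.card (H.K W) := by
  let f : H.K U →* H.K W := (Isom.tr H φ hW).codRestrict (H.K W) (fun g => Isom.tr_mem H φ hW g)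
  refine Subgroup.card_dvd_of_injective f ?_
  intro a b hab
  exact Isom.tr_injective H hU φ hW (congrArg Subtype.val hab)

theorem Isom.card_eq {U W : Submodule F V} (hU : H.Nd U) (hW : H.Nd W) (φ : H.Isom U W) :
    Nat.card (H.K U) = Nat.card (H.K W) :=
  Nat.dvd_antisymm (φ.card_dvd hU hW) (φ.symm.card_dvd hW hU)

theorem At.isom {p : ℕ} {U W : Submodule F V} (hU : H.At p U) (hW : H.Nd W) (φ : H.Isom U W) : H.At p W := by
  refine ⟨hW, ?_, ?_⟩
  · rw [← φ.card_eq hU.1 hW]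
    exact hU.2.1
  · intro X hX hpX
    rw [← LinearEquiv.finrank_eq φ.e]
    exact hU.2.2 X hX hpX

theorem At.map {p : ℕ} {U : Submodule F V} (hU : H.At p U) (g : H.G) : H.At p (U.map (g.1 : V →ₗ[F] V)) :=
  hU.isom (Nd.map H hU.1 g) (isomMap g U)

theorem At.finrank_eq {p : ℕ} {U W : Submodule F V} (hU : H.At p U) (hW : H.At p W) :
    finrank F U = finrank F W :=
  le_antisymm (hU.2.2 W hW.1 hW.2.1) (hW.2.2 U hU.1 hU.2.1)

/-- The centralizer of a `p`-element in the group of a `p`-atom is commutative. -/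
theorem At.cent_comm {p : ℕ} (hp : p.Prime) (hp2 : p ≠ 2) (hF : (p : F) ≠ 0) {W : Submodule F V}
    (hW : H.At p W) {y : H.G} (hyW : y ∈ H.K W) (hyp : ∃ k : ℕ, orderOf y = p ^ k) (hy1 : y ≠ 1) {g k : H.G}
    (hg : g ∈ H.K W) (hk : k ∈ H.K W) (hgy : g * y = y * g) (hky : k * y = y * k) : g * k = k * g := by
  have hfix := hW.fix_eq hF hyW hyp hy1
  have h1 : ∀ x ∈ W, y.1 x = x → x = 0 := by
    intro x hx hyx
    have : x ∈ H.perp W := by
      rw [← hfix]
      exact hyx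
    exact (Submodule.disjoint_def.1 hW.1) x hx this
  have hy2 : y ^ 2 ≠ 1 := by
    intro h
    have h3 : orderOf y ∣ 2 := orderOf_dvd_of_pow_eq_one h
    have h4 := (pe_dvd hyp hy1).trans h3
    exact hp2 ((Nat.prime_dvd_prime_iff_eq hp Nat.prime_two).1 h4)
  have hfix2 : fix (y ^ 2).1 = H.perp W := by
    refine hW.fix_eq hF ((H.K W).pow_mem hyW 2) ?_ hy2
    obtain ⟨k, hk⟩ := hyp
    refine pe_of_pow hp (n := k) ?_
    rw [← pow_mul, mul_comm, pow_mul, ← hk, pow_orderOf_eq_one, one_pow]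
  have h2 : ∀ x ∈ W, y.1 (y.1 x) = x → x = 0 := by
    intro x hx hyx
    have : x ∈ H.perp W := by
      rw [← hfix2]
      show (y ^ 2).1 x = x
      rw [pow_two]
      exact hyx
    exact (Submodule.disjoint_def.1 hW.1) x hx this
  refine H.cent_comm (y := y) (W := W) ?_ hW.1 hyW (pow_orderOf_eq_one y) (pe_cast hyp hF) h1 h2 hg hk hgy hky
  intro A hAW hA hAi hAn
  exact hW.eq_of_inv hp hAW hA hAn (H.en_St hAi) hyp hfix

/-- The abelian subgroup of the group of an atom. -/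
theorem exists_T {π : Set ℕ} (hπ : ∀ p ∈ π, p.Prime ∧ p ≠ 2 ∧ (p : F) ≠ 0) (hc : Cnd π H.G) {W : Submodule F V}
    {π₁ : Set ℕ} (hsub : π₁ ⊆ π) (hne : π₁.Nonempty) (hW : ∀ t ∈ π₁, H.At t W) :
    ∃ T ≤ H.K W, (∀ a ∈ T, ∀ b ∈ T, a * b = b * a) ∧ ∀ t ∈ π₁, ¬ t ∣ T.relIndex (H.K W) := by
  obtain ⟨p, hp⟩ := hne
  obtain ⟨hpp, hp2, hpF⟩ := hπ p (hsub hp)
  have : Fact p.Prime := ⟨hpp⟩
  obtain ⟨y, hyW, hyo, hyi⟩ := NHG.exists_central (H.K W) (hW p hp).2.1
  have hyp : ∃ k : ℕ, orderOf y = p ^ k := ⟨1, by rw [hyo, pow_one]⟩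
  have hy1 : y ≠ 1 := by
    rintro rfl
    rw [orderOf_one] at hyo
    exact hpp.one_lt.ne hyo
  have hfix := (hW p hp).fix_eq hpF hyW hyp hy1
  refine ⟨Subgroup.centralizer ({y} : Set H.G) ⊓ H.K W, inf_le_right, ?_, ?_⟩
  · rintro a ⟨ha1, ha2⟩ b ⟨hb1, hb2⟩
    exact (hW p hp).cent_comm hpp hp2 hpF hyW hyp hy1 ha2 hb2 (Subgroup.mem_centralizer_singleton_iff.1 ha1)
      (Subgroup.mem_centralizer_singleton_iff.1 hb1)
  · intro t ht
    rw [Subgroup.inf_relIndex_right]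
    by_cases htp : t = p
    · rw [htp]
      exact hyi
    · refine NHG.not_dvd_relIndex (M := H.St W) ?_ (H.K_le_St W) ?_ (hc p (hsub hp) t (hsub ht) (Ne.symm htp) y hyp)
      · intro z hz
        exact H.commute_St hfix (Subgroup.mem_centralizer_singleton_iff.1 hz)
      · intro n hn m hm
        exact H.conj_mem_K_of_St hn hm

end FS

end Cfsg.Agent.H119.NHF
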