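import Cfsg.Agent.H119.NHForm

/-!
# Commutative centralizers (helper119)

`FS.cent_comm`: let `W` be a nondegenerate subspace, `y ∈ K W` of order prime to the characteristic such that
neither `y` nor `y²` fixes a nonzero vector of `W` and such that no proper nonzero nondegenerate subspace of `W` is
invariant under `y`.  Then the centralizer of `y` in `K W` is commutative.
-/

set_option autoImplicit false
set_option linter.unusedSectionVars false

namespace Cfsg.Agent.H119.NHF

open Module Polynomial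
open LinearMap (BilinForm)

universe u v

variable {F : Type u} {V : Type v} [Field F] [AddCommGroup V] [Module F V]

/-- `U` is invariant under `E`. -/
def Inv (E : Module.End F V) (U : Submodule F V) : Prop := ∀ x ∈ U, E x ∈ U

/-- `U` is an irreducible invariant subspace. -/
structure Irr (E : Module.End F V) (U : Submodule F V) : Prop where
  ne : U ≠ ⊥
  inv : Inv E U
  min : ∀ A ≤ U, A ≠ ⊥ → Inv E A → A = U

theorem exists_irr [FiniteDimensional F V] {E : Module.End F V} {W : Submodule F V} (hW : W ≠ ⊥)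
    (h : Inv E W) : ∃ U ≤ W, Irr E U := by
  induction hn : finrank F W using Nat.strong_induction_on generalizing W with
  | _ n ih =>
    subst hn
    by_cases hmin : ∀ A ≤ W, A ≠ ⊥ → Inv E A → A = W
    · exact ⟨W, le_refl _, hW, h, hmin⟩
    · push Not at hmin
      obtain ⟨A, hAW, hA, hAi, hne⟩ := hmin
      have hlt : finrank F A < finrank F W := Submodule.finrank_lt_finrank_of_lt (lt_of_le_of_ne hAW hne)
      obtain ⟨U, hU, hU2⟩ := ih _ hlt hA hAi rfl
      exact ⟨U, hU.trans hAW, hU2⟩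

theorem pow_mem {E : Module.End F V} {U : Submodule F V} (h : Inv E U) {u : V} (hu : u ∈ U) (n : ℕ) :
    (E ^ n) u ∈ U := by
  induction n with
  | zero => simpa using hu
  | succ n ih =>
    rw [pow_succ', Module.End.mul_apply]
    exact h _ ih

theorem aeval_mem {E : Module.End F V} {U : Submodule F V} (h : Inv E U) {u : V} (hu : u ∈ U) (f : F[X]) :
    aeval E f u ∈ U := by
  induction f using Polynomial.induction_on' with
  | add p q hp hq =>
    rw [map_add, LinearMap.add_apply]
    exact U.add_mem hp hq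
  | monomial n a =>
    rw [aeval_monomial, Module.End.mul_apply, Module.algebraMap_end_apply]
    exact U.smul_mem _ (pow_mem h hu n)

theorem comm_pow {E g : Module.End F V} (h : ∀ x, g (E x) = E (g x)) (n : ℕ) (x : V) :
    g ((E ^ n) x) = (E ^ n) (g x) := by
  induction n with
  | zero => simp
  | succ n ih => rw [pow_succ', Module.End.mul_apply, Module.End.mul_apply, h, ih]

theorem comm_aeval {E g : Module.End F V} (h : ∀ x, g (E x) = E (g x)) (f : F[X]) (x : V) :
    g (aeval E f x) = aeval E f (g x) := by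
  induction f using Polynomial.induction_on' with
  | add p q hp hq => rw [map_add, LinearMap.add_apply, LinearMap.add_apply, map_add, hp, hq]
  | monomial n a =>
    rw [aeval_monomial, Module.End.mul_apply, Module.End.mul_apply, Module.algebraMap_end_apply,
      Module.algebraMap_end_apply, map_smul, comm_pow h]

theorem Irr.exists_aeval {E : Module.End F V} {U : Submodule F V} (hU : Irr E U) {u : V} (hu : u ∈ U)
    (hu0 : u ≠ 0) {x : V} (hx : x ∈ U) : ∃ f : F[X], aeval E f u = x := by
  have h1 : LinearMap.range ((LinearMap.applyₗ u).comp (aeval E).toLinearMap : F[X] →ₗ[F] V) = U := by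
    apply hU.min
    · rintro _ ⟨f, rfl⟩
      exact aeval_mem hU.inv hu f
    · intro hb
      apply hu0
      have : u ∈ LinearMap.range ((LinearMap.applyₗ u).comp (aeval E).toLinearMap : F[X] →ₗ[F] V) :=
        ⟨1, by simp⟩
      rw [hb] at this
      simpa using this
    · rintro _ ⟨f, rfl⟩
      refine ⟨X * f, ?_⟩
      simp
  rw [← h1] at hx
  obtain ⟨f, hf⟩ := hx
  exact ⟨f, hf⟩

theorem Irr.comm {E : Module.End F V} {U : Submodule F V} (hU : Irr E U) {g k : Module.End F V}
    (hg : ∀ x, g (E x) = E (g x)) (hk : ∀ x, k (E x) = E (k x)) (hgU : ∀ x ∈ U, g x ∈ U)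
    (hkU : ∀ x ∈ U, k x ∈ U) : ∀ x ∈ U, g (k x) = k (g x) := by
  obtain ⟨u, hu, hu0⟩ := (Submodule.ne_bot_iff U).1 hU.ne
  intro x hx
  obtain ⟨f, rfl⟩ := hU.exists_aeval hu hu0 hx
  obtain ⟨a, ha⟩ := hU.exists_aeval hu hu0 (hgU u hu)
  obtain ⟨b, hb⟩ := hU.exists_aeval hu hu0 (hkU u hu)
  rw [comm_aeval hk, comm_aeval hg, comm_aeval hg, comm_aeval hk, ← ha, ← hb, comm_aeval hg, comm_aeval hk, ← ha,
    ← hb]
  congr 1
  rw [← Module.End.mul_apply, ← Module.End.mul_apply, ← map_mul, ← map_mul, mul_comm]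

namespace FS

variable (H : FS F V)

/-- The endomorphism of an isometry. -/
abbrev en (y : H.G) : Module.End F V := (y.1 : V →ₗ[F] V)

theorem en_St [FiniteDimensional F V] {y : H.G} {A : Submodule F V} (h : Inv (H.en y) A) : y ∈ H.St A := by
  rw [mem_St]
  apply Submodule.eq_of_le_of_finrank_eq
  · rintro _ ⟨x, hx, rfl⟩
    exact h x hx
  · exact LinearEquiv.finrank_map_eq y.1 A

theorem inv_en {y : H.G} {A : Submodule F V} (h : y ∈ H.St A) : Inv (H.en y) A := fun _ hx => St.mem H h hx

section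

variable [FiniteDimensional F V] {y : H.G} {W : Submodule F V}
  (hirr : ∀ A ≤ W, A ≠ ⊥ → Inv (H.en y) A → H.Nd A → A = W)

include hirr

theorem image_isotropic {U : Submodule F V} (hU : Irr (H.en y) U) (hUW : finrank F U < finrank F W)
    {θ : Module.End F V} (hθ : ∀ x, θ (y.1 x) = y.1 (θ x)) (hθW : ∀ x ∈ U, θ x ∈ W) :
    ∀ x ∈ U, ∀ x' ∈ U, H.B (θ x) (θ x') = 0 := by
  set A : Submodule F V := U.map θ with hA
  have hAi : Inv (H.en y) A := by
    rintro _ ⟨x, hx, rfl⟩
    exact ⟨y.1 x, hU.inv x hx, hθ x⟩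
  have hAp : y ∈ H.St (H.perp A) := H.St_perp (H.en_St hAi)
  have hAW : A ≤ W := by
    rintro _ ⟨x, hx, rfl⟩
    exact hθW x hx
  set D : Submodule F V := U ⊓ (H.perp A).comap θ with hD
  have hDi : Inv (H.en y) D := by
    intro x hx
    refine ⟨hU.inv x hx.1, ?_⟩
    show θ (y.1 x) ∈ H.perp A
    rw [hθ]
    exact St.mem H hAp hx.2
  by_cases hDb : D = ⊥
  · exfalso
    have hinj : ∀ x ∈ U, θ x = 0 → x = 0 := by
      intro x hx h0
      have : x ∈ D := ⟨hx, by
        show θ x ∈ H.perp A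
        rw [h0]
        exact Submodule.zero_mem _⟩
      rw [hDb] at this
      simpa using this
    have hnd : H.Nd A := by
      unfold Nd
      rw [Submodule.disjoint_def]
      rintro _ ⟨x, hx, rfl⟩ hp
      have : x ∈ D := ⟨hx, hp⟩
      rw [hDb, Submodule.mem_bot] at this
      rw [this, map_zero]
    have hne : A ≠ ⊥ := by
      obtain ⟨u, hu, hu0⟩ := (Submodule.ne_bot_iff U).1 hU.ne
      intro hb
      apply hu0
      apply hinj u hu
      have : θ u ∈ A := ⟨u, hu, rfl⟩
      rw [hb] at this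
      simpa using this
    have h1 := hirr A hAW hne hAi hnd
    have h2 : finrank F A ≤ finrank F U := Submodule.finrank_map_le θ U
    rw [h1] at h2
    omega
  · have h1 : D = U := hU.min D inf_le_left hDb hDi
    intro x hx x' hx'
    rw [← h1] at hx'
    exact H.mem_perp.1 hx'.2 _ ⟨x, hx, rfl⟩

theorem map_le_perp (h2 : ∀ x ∈ W, y.1 (y.1 x) = x → x = 0)
    {U : Submodule F V} (hUW' : U ≤ W) (hU : Irr (H.en y) U) (hUW : finrank F U < finrank F W)
    {θ : Module.End F V} (hθ : ∀ x, θ (y.1 x) = y.1 (θ x)) (hθW : ∀ x ∈ U, θ x ∈ W)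
    (hWi : ∀ x ∈ W, y.1 x ∈ W) : ∀ x ∈ U, θ x ∈ H.perp U := by
  have e0 : ∀ x ∈ U, ∀ x' ∈ U, H.B x x' = 0 := fun x hx x' hx' =>
    H.image_isotropic hirr hU hUW (θ := LinearMap.id) (fun _ => rfl) (fun x hx => hUW' hx) x hx x' hx'
  have e1 : ∀ x ∈ U, ∀ x' ∈ U, H.B (θ x) (θ x') = 0 := H.image_isotropic hirr hU hUW hθ hθW
  have e2 : ∀ x ∈ U, ∀ x' ∈ U, H.B x (θ x') + H.B (θ x) x' = 0 := by
    intro x hx x' hx'
    have h := H.image_isotropic hirr hU hUW (θ := LinearMap.id + θ) (fun x => by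
      rw [LinearMap.add_apply, LinearMap.add_apply, hθ, map_add]
      rfl) (fun x hx => W.add_mem (hUW' hx) (hθW x hx)) x hx x' hx'
    simp only [LinearMap.add_apply, LinearMap.id_apply, map_add, e0 x hx x' hx', e1 x hx x' hx', zero_add,
      add_zero] at h
    rw [add_comm]
    exact h
  have e3 : ∀ x ∈ U, ∀ x' ∈ U, H.B x (y.1 (θ x')) + H.B (y.1 (θ x)) x' = 0 := by
    intro x hx x' hx'
    have h := H.image_isotropic hirr hU hUW (θ := LinearMap.id + (H.en y).comp θ) (fun x => by
      simp only [LinearMap.add_apply, LinearMap.comp_apply, LinearMap.id_apply, hθ, map_add]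
      rfl) (fun x hx => W.add_mem (hUW' hx) (hWi _ (hθW x hx))) x hx x' hx'
    have e4 : H.B (y.1 (θ x)) (y.1 (θ x')) = 0 := by rw [B_map, e1 x hx x' hx']
    have h' : H.B (x + y.1 (θ x)) (x' + y.1 (θ x')) = 0 := h
    simp only [LinearMap.add_apply, map_add, e0 x hx x' hx', e4, zero_add, add_zero] at h'
    rw [add_comm]
    exact h'
  have e5 : ∀ x ∈ U, ∀ x' ∈ U, H.B x (y.1 (y.1 (θ x'))) = H.B x (θ x') := by
    intro x hx x' hx'
    have h3 := e3 x hx (y.1 x') (hU.inv x' hx')
    rw [hθ, B_map] at h3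
    have h4 := e2 x hx x' hx'
    rw [← h4] at h3
    exact add_right_cancel h3
  -- `y² - 1` is invertible on `U`
  have hyU : ∀ x ∈ U, y.1 (y.1 x) - x ∈ U := fun x hx => U.sub_mem (hU.inv _ (hU.inv x hx)) hx
  let L : U →ₗ[F] U :=
    { toFun := fun x => ⟨y.1 (y.1 x) - x, hyU x x.2⟩
      map_add' := fun a b => by
        apply Subtype.ext
        show y.1 (y.1 ((a : V) + b)) - ((a : V) + b) = (y.1 (y.1 (a : V)) - a) + (y.1 (y.1 (b : V)) - b)
        rw [map_add, map_add]
        abel
      map_smul' := fun c a => by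
        apply Subtype.ext
        show y.1 (y.1 (c • (a : V))) - (c • (a : V)) = c • (y.1 (y.1 (a : V)) - a)
        rw [map_smul, map_smul, smul_sub] }
  have hLi : Function.Injective L := by
    rw [← LinearMap.ker_eq_bot, LinearMap.ker_eq_bot']
    intro m hm
    apply Subtype.ext
    apply h2 _ (hUW' m.2)
    have : y.1 (y.1 (m : V)) - m = 0 := congrArg Subtype.val hm
    exact sub_eq_zero.1 this
  have hLs : Function.Surjective L := LinearMap.injective_iff_surjective.1 hLi
  intro x hx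
  obtain ⟨z, hz⟩ := hLs ⟨x, hx⟩
  have hz' : y.1 (y.1 (z : V)) - z = x := congrArg Subtype.val hz
  rw [mem_perp]
  intro w hw
  rw [← hz', map_sub, hθ, hθ, map_sub, e5 w hw z z.2, sub_self]

theorem structure_of_irr (hW : H.Nd W) (hyW : y ∈ H.K W) {n : ℕ} (hn : y ^ n = 1) (hnF : (n : F) ≠ 0)
    (h1 : ∀ x ∈ W, y.1 x = x → x = 0)
    {U : Submodule F V} (hUW' : U ≤ W) (hU : Irr (H.en y) U) (hUW : finrank F U < finrank F W) :
    H.perp U ⊓ W = U ∧ finrank F W = 2 * finrank F U ∧ ∃ R : Submodule F V, Inv (H.en y) R ∧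
      finrank F R = finrank F U ∧ U ⊔ R = W := by
  have e0 : ∀ x ∈ U, ∀ x' ∈ U, H.B x x' = 0 := fun x hx x' hx' =>
    H.image_isotropic hirr hU hUW (θ := LinearMap.id) (fun _ => rfl) (fun x hx => hUW' hx) x hx x' hx'
  have hUp : U ≤ H.perp U := fun x hx => H.mem_perp.2 fun w hw => e0 w hw x hx
  have hWU : H.perp W ≤ H.perp U := H.perp_le hUW'
  -- semisimplicity
  have hss : (H.en y).IsSemisimple := by
    have hsq : Squarefree (X ^ n - C (1 : F)) :=
      (separable_X_pow_sub_C (1 : F) hnF one_ne_zero).squarefree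
    refine Module.End.isSemisimple_of_squarefree_aeval_eq_zero hsq ?_
    rw [map_sub, map_pow, aeval_X, aeval_C, map_one]
    have h3 : (H.en y) ^ n = 1 := by
      have h4 : ∀ k : ℕ, (H.en y) ^ k = H.en (y ^ k) := by
        intro k
        induction k with
        | zero => rfl
        | succ k ih => rw [pow_succ, pow_succ, ih]; rfl
      rw [h4, hn]
      rfl
    rw [h3, sub_self]
  obtain ⟨R, hRi, hRc⟩ := Module.End.isSemisimple_iff.1 hss (H.perp U)
    (inv_en H (H.St_perp (H.en_St hU.inv)))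
  have hRi' : Inv (H.en y) R := hRi
  -- `R ≤ W`
  have hfix : ∀ x, y.1 x = x → x ∈ H.perp W := by
    intro x hx
    obtain ⟨w, hw, w', hw', rfl⟩ := H.exists_add hW x
    rw [map_add, hyW w' hw'] at hx
    have := h1 w hw (add_right_cancel hx)
    rw [this, zero_add]
    exact hw'
  have hsubW : ∀ x, y.1 x - x ∈ W := by
    intro x
    obtain ⟨w, hw, w', hw', rfl⟩ := H.exists_add hW x
    rw [map_add, hyW w' hw']
    have h3 : y.1 w + w' - (w + w') = y.1 w - w := by abel
    rw [h3]
    exact W.sub_mem (St.mem H (H.K_le_St W hyW) hw) hw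
  let L : R →ₗ[F] R :=
    { toFun := fun x => ⟨y.1 x - x, R.sub_mem (hRi' x x.2) x.2⟩
      map_add' := fun a b => by
        apply Subtype.ext
        show y.1 ((a : V) + b) - ((a : V) + b) = (y.1 (a : V) - a) + (y.1 (b : V) - b)
        rw [map_add]
        abel
      map_smul' := fun c a => by
        apply Subtype.ext
        show y.1 (c • (a : V)) - (c • (a : V)) = c • (y.1 (a : V) - a)
        rw [map_smul, smul_sub] }
  have hLi : Function.Injective L := by
    rw [← LinearMap.ker_eq_bot, LinearMap.ker_eq_bot']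
    intro m hm
    apply Subtype.ext
    have h3 : y.1 (m : V) - m = 0 := congrArg Subtype.val hm
    have h4 : (m : V) ∈ H.perp U ⊓ R := ⟨hWU (hfix _ (sub_eq_zero.1 h3)), m.2⟩
    rw [hRc.inf_eq_bot] at h4
    simpa using h4
  have hLs : Function.Surjective L := LinearMap.injective_iff_surjective.1 hLi
  have hRW : R ≤ W := by
    intro x hx
    obtain ⟨z, hz⟩ := hLs ⟨x, hx⟩
    have hz' : y.1 (z : V) - z = x := congrArg Subtype.val hz
    rw [← hz']
    exact hsubW _
  have hfr : finrank F R = finrank F U := by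
    have h3 : finrank F (H.perp U) + finrank F R = finrank F V := Submodule.finrank_add_eq_of_isCompl hRc
    have h4 : finrank F (H.perp U) = finrank F V - finrank F U := BilinForm.finrank_orthogonal H.nd U
    have h5 : finrank F U ≤ finrank F V := Submodule.finrank_le U
    omega
  have hURW : U ⊔ R = W := by
    apply hirr
    · exact sup_le hUW' hRW
    · intro hb
      apply hU.ne
      rw [eq_bot_iff, ← hb]
      exact le_sup_left
    · intro x hx
      obtain ⟨u, hu, r, hr, rfl⟩ := Submodule.mem_sup.1 hx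
      show y.1 (u + r) ∈ _
      rw [map_add]
      exact Submodule.add_mem_sup (hU.inv u hu) (hRi' r hr)
    · unfold Nd
      rw [Submodule.disjoint_def]
      intro x hx hxp
      obtain ⟨u, hu, r, hr, rfl⟩ := Submodule.mem_sup.1 hx
      have h3 : r ∈ H.perp U := by
        have h4 : u + r ∈ H.perp U := H.perp_le le_sup_left hxp
        have h5 := (H.perp U).sub_mem h4 (hUp hu)
        rwa [add_sub_cancel_left] at h5
      have h4 : r ∈ H.perp U ⊓ R := ⟨h3, hr⟩
      rw [hRc.inf_eq_bot, Submodule.mem_bot] at h4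
      subst h4
      rw [add_zero] at hxp ⊢
      apply H.eq_zero_of_forall
      intro z
      have h5 : z ∈ H.perp U ⊔ R := by
        rw [hRc.sup_eq_top]
        trivial
      obtain ⟨a, ha, b, hb, rfl⟩ := Submodule.mem_sup.1 h5
      rw [map_add, H.mem_perp.1 ha u hu, H.mem_perp'.1 hxp b (Submodule.mem_sup_right hb), add_zero]
  have hinf : H.perp U ⊓ W = U := by
    apply le_antisymm
    · rintro x ⟨hx, hxW⟩
      rw [SetLike.mem_coe, ← hURW] at hxW
      obtain ⟨u, hu, r, hr, rfl⟩ := Submodule.mem_sup.1 hxW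
      have h5 := (H.perp U).sub_mem hx (hUp hu)
      rw [add_sub_cancel_left] at h5
      have h4 : r ∈ H.perp U ⊓ R := ⟨h5, hr⟩
      rw [hRc.inf_eq_bot, Submodule.mem_bot] at h4
      subst h4
      rw [add_zero]
      exact hu
    · exact le_inf hUp hUW'
  refine ⟨hinf, ?_, R, hRi', hfr, hURW⟩
  have hdis : U ⊓ R = ⊥ := by
    rw [eq_bot_iff, ← hRc.inf_eq_bot]
    exact inf_le_inf_right _ hUp
  have h6 := Submodule.finrank_sup_add_finrank_inf_eq U R
  rw [hURW, hdis, finrank_bot, hfr] at h6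
  omega

/-- **The centralizer of `y` in `K W` is commutative.** -/
theorem cent_comm (hW : H.Nd W) (hyW : y ∈ H.K W) {n : ℕ} (hn : y ^ n = 1) (hnF : (n : F) ≠ 0)
    (h1 : ∀ x ∈ W, y.1 x = x → x = 0) (h2 : ∀ x ∈ W, y.1 (y.1 x) = x → x = 0) {g k : H.G}
    (hg : g ∈ H.K W) (hk : k ∈ H.K W) (hgy : g * y = y * g) (hky : k * y = y * k) : g * k = k * g := by
  have hgc : ∀ x, g.1 (y.1 x) = y.1 (g.1 x) := fun x => congrArg (fun z : H.G => z.1 x) hgy
  have hkc : ∀ x, k.1 (y.1 x) = y.1 (k.1 x) := fun x => congrArg (fun z : H.G => z.1 x) hky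
  have hgW : ∀ x ∈ W, g.1 x ∈ W := fun x hx => St.mem H (H.K_le_St W hg) hx
  have hkW : ∀ x ∈ W, k.1 x ∈ W := fun x hx => St.mem H (H.K_le_St W hk) hx
  have hyWi : ∀ x ∈ W, y.1 x ∈ W := fun x hx => St.mem H (H.K_le_St W hyW) hx
  refine H.ext_K hW (mul_mem hg hk) (mul_mem hk hg) ?_
  show ∀ x ∈ W, g.1 (k.1 x) = k.1 (g.1 x)
  by_cases hWb : W = ⊥
  · intro x hx
    rw [hWb, Submodule.mem_bot] at hx
    subst hx
    simp
  obtain ⟨U, hUW, hU⟩ := exists_irr (E := H.en y) hWb hyWi
  rcases eq_or_lt_of_le (Submodule.finrank_mono hUW) with he | hlt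
  · have : U = W := Submodule.eq_of_le_of_finrank_eq hUW he
    subst this
    exact hU.comm (g := H.en g) (k := H.en k) hgc hkc hgW hkW
  · obtain ⟨hinf, hfr, R, hRi, hRfr, hUR⟩ := H.structure_of_irr hirr hW hyW hn hnF h1 hUW hU hlt
    have hRb : R ≠ ⊥ := by
      rintro rfl
      rw [finrank_bot] at hRfr
      rw [← hRfr] at hfr
      exact hWb (Submodule.finrank_eq_zero.1 (by omega))
    have hRW : R ≤ W := by rw [← hUR]; exact le_sup_right
    obtain ⟨A, hAR, hA⟩ := exists_irr hRb hRi
    have hAlt : finrank F A < finrank F W := by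
      have := Submodule.finrank_mono hAR
      omega
    obtain ⟨hinfA, hfrA, -, -, -, -⟩ := H.structure_of_irr hirr hW hyW hn hnF h1 (hAR.trans hRW) hA hAlt
    have hAR' : A = R := Submodule.eq_of_le_of_finrank_eq hAR (by omega)
    subst hAR'
    have key : ∀ D ≤ W, Irr (H.en y) D → finrank F D < finrank F W → H.perp D ⊓ W = D →
        ∀ x ∈ D, g.1 (k.1 x) = k.1 (g.1 x) := by
      intro D hDW hD hDlt hDinf
      refine hD.comm (g := H.en g) (k := H.en k) hgc hkc ?_ ?_
      · intro x hx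
        rw [← hDinf]
        exact ⟨H.map_le_perp hirr h2 hDW hD hDlt (θ := H.en g) hgc (fun x hx => hgW x (hDW hx)) hyWi x hx,
          hgW x (hDW hx)⟩
      · intro x hx
        rw [← hDinf]
        exact ⟨H.map_le_perp hirr h2 hDW hD hDlt (θ := H.en k) hkc (fun x hx => hkW x (hDW hx)) hyWi x hx,
          hkW x (hDW hx)⟩
    intro x hx
    rw [← hUR] at hx
    obtain ⟨a, ha, b, hb, rfl⟩ := Submodule.mem_sup.1 hx
    rw [map_add, map_add, map_add, map_add, key U hUW hU hlt hinf a ha, key A hRW hA hAlt hinfA b hb]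

end

end FS

end Cfsg.Agent.H119.NHF
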