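import Cfsg.Agent.H119.NHMain

/-!
# The abstract theorem on nilpotent Hall subgroups: the non-mixed case and the conclusion (helper119)
-/

set_option autoImplicit false
set_option linter.unusedSectionVars false

namespace Cfsg.Agent.H119.NHF

open Module
open LinearMap (BilinForm)

universe u v w

variable {F : Type u} {V : Type v} [Field F] [AddCommGroup V] [Module F V]

/-- The action on subspaces. -/
@[reducible] def actG (H : FS F V) : MulAction H.G (Submodule F V) where
  smul g U := U.map (g.1 : V →ₗ[F] V)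
  one_smul U := by
    show U.map ((1 : V ≃ₗ[F] V) : V →ₗ[F] V) = U
    have h : ((1 : V ≃ₗ[F] V) : V →ₗ[F] V) = LinearMap.id := rfl
    rw [h, Submodule.map_id]
  mul_smul a b U := by
    show U.map ((a.1 * b.1 : V ≃ₗ[F] V) : V →ₗ[F] V) = (U.map (b.1 : V →ₗ[F] V)).map (a.1 : V →ₗ[F] V)
    rw [← Submodule.map_comp]
    rfl

/-- Commuting elements of exponent `t` generate a `t`-group. -/
theorem isPGroup_closure {G : Type w} [Group G] {t : ℕ} [Fact t.Prime] {S : Set G}
    (hc : ∀ a ∈ S, ∀ b ∈ S, a * b = b * a) (ho : ∀ a ∈ S, a ^ t = 1) : IsPGroup t (Subgroup.closure S) := by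
  have h1 : S ⊆ Subgroup.centralizer S := fun a ha => Subgroup.mem_centralizer_iff.2 fun b hb => hc b hb a ha
  have h2 : Subgroup.closure S ≤ Subgroup.centralizer S := (Subgroup.closure_le _).2 h1
  have h3 : S ⊆ Subgroup.centralizer ((Subgroup.closure S : Subgroup G) : Set G) := fun a ha =>
    Subgroup.mem_centralizer_iff.2 fun b hb => (Subgroup.mem_centralizer_iff.1 (h2 hb) a ha).symm
  have h4 : Subgroup.closure S ≤ Subgroup.centralizer ((Subgroup.closure S : Subgroup G) : Set G) :=
    (Subgroup.closure_le _).2 h3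
  have h5 : ∀ a ∈ Subgroup.closure S, a ^ t = 1 := by
    intro a ha
    induction ha using Subgroup.closure_induction with
    | mem x hx => exact ho x hx
    | one => exact one_pow t
    | mul x y hx hy h1 h2 =>
      have hxy : Commute x y := Subgroup.mem_centralizer_iff.1 (h4 hy) x hx
      rw [hxy.mul_pow, h1, h2, one_mul]
    | inv x hx h1 => rw [inv_pow, h1, inv_one]
  intro a
  refine ⟨1, ?_⟩
  apply Subtype.ext
  rw [pow_one]
  exact h5 a a.2

namespace FS

variable {H : FS F V} [FiniteDimensional F V] [Finite V]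

attribute [local instance] actG

theorem smul_def (g : H.G) (U : Submodule F V) : g • U = U.map (g.1 : V →ₗ[F] V) := rfl

/-- An element `z ∈ K U` stabilising the atom `W'`. -/
theorem eq_of_St {t : ℕ} (ht : t.Prime) (hF : (t : F) ≠ 0) {U W' : Submodule F V} (hU : H.At t U)
    (hW' : H.At t W') {z : H.G} (hz : z ∈ H.K U) (hzt : ∃ k : ℕ, orderOf z = t ^ k) (hzS : z ∈ H.St W')
    (hne : ∃ x ∈ W', z.1 x ≠ x) : W' = U := by
  set z' := H.part hW'.1 ⟨z, hzS⟩ with hz'
  have h1 : z' ≠ 1 := by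
    obtain ⟨x, hx, hxne⟩ := hne
    intro h
    apply hxne
    rw [← H.part_apply hW'.1 ⟨z, hzS⟩ hx, ← hz', h]
    rfl
  have h2 : ∃ k : ℕ, orderOf z' = t ^ k := by
    obtain ⟨k, hk⟩ := hzt
    refine pe_of_pow ht (n := k) ?_
    rw [hz', ← map_pow]
    have : (⟨z, hzS⟩ : H.St W') ^ t ^ k = 1 := by
      apply Subtype.ext
      show z ^ t ^ k = 1
      rw [← hk, pow_orderOf_eq_one]
    rw [this, map_one]
  have h3 := hW'.fix_eq hF (H.part_mem hW'.1 _) h2 h1
  have hS : ∀ x ∈ W', z.1 x ∈ W' := fun x hx => St.mem H hzS hx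
  let L : W' →ₗ[F] W' :=
    { toFun := fun x => ⟨z.1 x - x, W'.sub_mem (hS x x.2) x.2⟩
      map_add' := fun a b => by
        apply Subtype.ext
        show z.1 ((a : V) + b) - ((a : V) + b) = (z.1 (a : V) - a) + (z.1 (b : V) - b)
        rw [map_add]
        abel
      map_smul' := fun c a => by
        apply Subtype.ext
        show z.1 (c • (a : V)) - (c • (a : V)) = c • (z.1 (a : V) - a)
        rw [map_smul, smul_sub] }
  have hLi : Function.Injective L := by
    rw [← LinearMap.ker_eq_bot, LinearMap.ker_eq_bot']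
    intro m hm
    apply Subtype.ext
    have h4 : z.1 (m : V) - m = 0 := congrArg Subtype.val hm
    refine (Submodule.disjoint_def.1 hW'.1) _ m.2 ?_
    rw [← h3, mem_fix, H.part_apply hW'.1 ⟨z, hzS⟩ m.2]
    exact sub_eq_zero.1 h4
  have hLs : Function.Surjective L := LinearMap.injective_iff_surjective.1 hLi
  have hle : W' ≤ U := by
    intro x hx
    obtain ⟨m, hm⟩ := hLs ⟨x, hx⟩
    have hm' : z.1 (m : V) - m = x := congrArg Subtype.val hm
    obtain ⟨a, ha, b, hb, hab⟩ := H.exists_add hU.1 (m : V)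
    rw [← hm', hab, map_add, hz b hb]
    have h5 : z.1 a + b - (a + b) = z.1 a - a := by abel
    rw [h5]
    exact U.sub_mem (St.mem H (H.K_le_St U hz) ha) ha
  exact Submodule.eq_of_le_of_finrank_eq hle (hW'.finrank_eq hU)

section

variable {π : Set ℕ} (hπ : ∀ p ∈ π, p.Prime ∧ p ≠ 2 ∧ (p : F) ≠ 0) (hc : Cnd π H.G)
  (hU : ∀ p ∈ π, ∀ U U' : Submodule F V, H.At p U → H.At p U' → Nonempty (H.Isom U U'))
  (hnt : π.Nontrivial)
  (hnm : ∀ p ∈ π, ∀ s ∈ π, ∀ W : Submodule F V, H.At p W → H.At s W)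

include hπ hc hU hnt hnm

theorem fam_bound {t : ℕ} (ht : t ∈ π) (f : ZMod t → Submodule F V) (hf : ∀ i, H.At t (f i))
    (ho : ∀ i j, i ≠ j → f i ≤ H.perp (f j)) : False := by
  classical
  obtain ⟨p, hp, hpt⟩ := hnt.exists_ne t
  have htf : Fact t.Prime := ⟨(hπ t ht).1⟩
  have hne : ∀ i, Nonempty (H.Isom (f 0) (f i)) := fun i => hU t ht _ _ (hf 0) (hf i)
  let e : ∀ i, H.Isom (f 0) (f i) := fun i => (hne i).some
  let φ : ZMod t → (f 0 →ₗ[F] V) := fun i =>
    if i = 0 then (f 0).subtype else (f i).subtype.comp ((e i).e : f 0 →ₗ[F] f i)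
  have hφ0 : ∀ x : f 0, φ 0 x = x := by
    intro x
    simp only [φ, if_true]
    rfl
  have hφi : ∀ i, i ≠ 0 → ∀ x : f 0, φ i x = ((e i).e x : V) := by
    intro i hi x
    simp only [φ, if_neg hi]
    rfl
  have hmem : ∀ i x, φ i x ∈ f i := by
    intro i x
    by_cases hi : i = 0
    · subst hi
      rw [hφ0]
      exact x.2
    · rw [hφi i hi]
      exact ((e i).e x).2
  refine no_fam hπ hc ht hp (Ne.symm hpt) (hf 0) (hnm t ht p hp _ (hf 0)) ⟨φ, ?_, ?_, ?_⟩ hφ0
  · intro i x y
    by_cases hi : i = 0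
    · subst hi
      rw [hφ0, hφ0]
    · rw [hφi i hi, hφi i hi]
      exact (e i).hB x y
  · intro i j hij x y
    exact H.mem_perp'.1 (ho i j hij (hmem i x)) _ (hmem j y)
  · intro i x
    by_cases hi : i = 0
    · subst hi
      rw [hφ0]
    · rw [hφi i hi]
      exact (e i).hQ x

/-- The orbit of an atom `W ≤ V'` under `K V'` has size prime to `t`. -/
theorem orbit_bound {t : ℕ} (ht : t ∈ π) {W V' : Submodule F V} (hW : H.At t W) (hWV : W ≤ V') :
    ¬ t ∣ (H.St W).relIndex (H.K V') := by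
  classical
  obtain ⟨htP, -, htF⟩ := hπ t ht
  have htf : Fact t.Prime := ⟨htP⟩
  have hfinS : Finite (Submodule F V) := Finite.of_injective (fun W : Submodule F V => (W : Set V))
    SetLike.coe_injective
  -- a maximal orthogonal family
  let P : Set (Submodule F V) → Prop := fun 𝒲 =>
    (∀ U ∈ 𝒲, H.At t U ∧ U ≤ V') ∧ ∀ U ∈ 𝒲, ∀ U' ∈ 𝒲, U ≠ U' → U ≤ H.perp U'
  obtain ⟨𝒲, h𝒲W, h𝒲⟩ := Set.Finite.exists_le_maximal (s := {𝒲 | P 𝒲}) (Set.toFinite _) (a := {W}) (by
    refine ⟨?_, ?_⟩
    · rintro U rfl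
      exact ⟨hW, hWV⟩
    · rintro U rfl U' rfl h
      exact absurd rfl h)
  obtain ⟨h𝒲1, h𝒲2⟩ : P 𝒲 := h𝒲.1
  have hW𝒲 : W ∈ 𝒲 := h𝒲W rfl
  -- fewer than `t` members
  have hcard : Nat.card 𝒲 < t := by
    by_contra hge
    push Not at hge
    have h1 : Nat.card (ZMod t) ≤ Nat.card 𝒲 := by
      rw [Nat.card_zmod]
      exact hge
    obtain ⟨f⟩ : Nonempty (ZMod t ↪ 𝒲) := by
      have h2 : Fintype 𝒲 := Fintype.ofFinite _
      apply Function.Embedding.nonempty_of_card_le
      rwa [Nat.card_eq_fintype_card, Nat.card_eq_fintype_card] at h1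
    refine fam_bound hπ hc hU hnt hnm ht (fun i => (f i : Submodule F V)) (fun i => (h𝒲1 _ (f i).2).1) ?_
    intro i j hij
    refine h𝒲2 _ (f i).2 _ (f j).2 ?_
    intro h
    exact hij (f.injective (Subtype.ext h))
  -- elements of order `t`
  have hz : ∀ U : 𝒲, ∃ z : H.G, z ∈ H.K (U : Submodule F V) ∧ orderOf z = t ∧
      (∃ k : ℕ, orderOf z = t ^ k) ∧ fix z.1 = H.perp (U : Submodule F V) := by
    intro U
    obtain ⟨z, h1, h2, h3, h4⟩ := exists_y htP htF (h𝒲1 U U.2).1
    exact ⟨z, h1, h2, h3, h4⟩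
  choose z hzK hzo hzp hzf using hz
  have hzV : ∀ U : 𝒲, z U ∈ H.K V' := fun U => H.K_mono (h𝒲1 U U.2).2 (hzK U)
  let zz : 𝒲 → H.K V' := fun U => ⟨z U, hzV U⟩
  let Z : Subgroup (H.K V') := Subgroup.closure (Set.range zz)
  have hZ : IsPGroup t Z := by
    apply isPGroup_closure
    · rintro _ ⟨U, rfl⟩ _ ⟨U', rfl⟩
      apply Subtype.ext
      show z U * z U' = z U' * z U
      by_cases h : U = U'
      · rw [h]
      · exact H.commute_of_le_perp (h𝒲1 U' U'.2).1.1 (h𝒲2 U U.2 U' U'.2 (fun he => h (Subtype.ext he)))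
          (hzK U) (hzK U')
    · rintro _ ⟨U, rfl⟩
      apply Subtype.ext
      show (z U) ^ t = 1
      rw [← hzo U, pow_orderOf_eq_one]
  have hStab : (MulAction.stabilizer (H.K V') W) = (H.St W).subgroupOf (H.K V') := by
    ext g
    rfl
  have hidx : (H.St W).relIndex (H.K V') = Nat.card (MulAction.orbit (H.K V') W) := by
    rw [Subgroup.relIndex, ← hStab, MulAction.index_stabilizer]
    rfl
  rw [hidx]
  have hmod := hZ.card_modEq_card_fixedPoints (MulAction.orbit (H.K V') W)
  -- the fixed points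
  have hfp : ∀ x : MulAction.orbit (H.K V') W, x ∈ MulAction.fixedPoints Z (MulAction.orbit (H.K V') W) →
      (x : Submodule F V) ∈ 𝒲 := by
    rintro ⟨W', g, hg⟩ hx
    have hW' : H.At t W' := by
      rw [← hg]
      exact hW.map g.1
    have hW'V : W' ≤ V' := by
      rw [← hg]
      have h1 : g.1 ∈ H.St V' := H.K_le_St V' g.2
      show W.map (g.1.1 : V →ₗ[F] V) ≤ V'
      conv_rhs => rw [← H.mem_St.1 h1]
      exact Submodule.map_mono hWV
    have hst : ∀ U : 𝒲, z U ∈ H.St W' := by
      intro U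
      have h1 : zz U ∈ Z := Subgroup.subset_closure ⟨U, rfl⟩
      have h2 := hx ⟨zz U, h1⟩
      exact congrArg Subtype.val h2
    show W' ∈ 𝒲
    by_cases hall : ∃ U : 𝒲, ∃ x ∈ W', (z U).1 x ≠ x
    · obtain ⟨U, hU2⟩ := hall
      rw [eq_of_St htP htF (h𝒲1 U U.2).1 hW' (hzK U) (hzp U) (hst U) hU2]
      exact U.2
    · push Not at hall
      have hor : ∀ U ∈ 𝒲, W' ≤ H.perp U := by
        intro U hU2 x hx2
        rw [← hzf ⟨U, hU2⟩]
        exact hall ⟨U, hU2⟩ x hx2
      have hP : P (insert W' 𝒲) := by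
        refine ⟨?_, ?_⟩
        · rintro U (rfl | hU2)
          · exact ⟨hW', hW'V⟩
          · exact h𝒲1 U hU2
        · rintro U (rfl | hU2) U' (rfl | hU3) hne
          · exact absurd rfl hne
          · exact hor _ hU3
          · exact H.le_perp_iff.1 (hor _ hU2)
          · exact h𝒲2 _ hU2 _ hU3 hne
      exact (h𝒲.2 hP (Set.subset_insert _ _)) (Set.mem_insert _ _)
  have hle : Nat.card (MulAction.fixedPoints Z (MulAction.orbit (H.K V') W)) ≤ Nat.card 𝒲 := by
    refine Nat.card_le_card_of_injective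
      (fun x => (⟨(x.1 : Submodule F V), hfp x.1 x.2⟩ : 𝒲)) ?_
    intro x x' hxx
    apply Subtype.ext
    apply Subtype.ext
    exact congrArg (fun u : 𝒲 => (u : Submodule F V)) hxx
  have hWfix : (⟨W, MulAction.mem_orbit_self W⟩ : MulAction.orbit (H.K V') W) ∈
      MulAction.fixedPoints Z (MulAction.orbit (H.K V') W) := by
    have h1 : Z ≤ (H.St W).subgroupOf (H.K V') := by
      apply (Subgroup.closure_le _).2
      rintro _ ⟨U, rfl⟩
      show z U ∈ H.St W
      by_cases h : (U : Submodule F V) = W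
      · have h2 := hzK U
        rw [h] at h2
        exact H.K_le_St W h2
      · apply H.St_of_perp
        have h2 : (U : Submodule F V) ≤ H.perp W := h𝒲2 U U.2 W hW𝒲 h
        exact H.K_le_St _ (H.K_mono h2 (hzK U))
    intro g
    apply Subtype.ext
    exact h1 g.2
  have hpos : 0 < Nat.card (MulAction.fixedPoints Z (MulAction.orbit (H.K V') W)) := by
    have : Nonempty (MulAction.fixedPoints Z (MulAction.orbit (H.K V') W)) := ⟨⟨_, hWfix⟩⟩
    exact Nat.card_pos
  intro hd
  have h3 : Nat.card (MulAction.fixedPoints Z (MulAction.orbit (H.K V') W)) ≡ 0 [MOD t] :=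
    hmod.symm.trans ((Nat.modEq_zero_iff_dvd).2 hd)
  have h4 := Nat.le_of_dvd hpos ((Nat.modEq_zero_iff_dvd).1 h3)
  omega

variable (hE : ∀ s ∈ π, ∀ U W : Submodule F V, H.At s U → H.Nd W → finrank F U < finrank F W →
    ∃ U' ≤ W, H.Nd U' ∧ Nonempty (H.Isom U U'))

include hE

/-- **(D2)** -/
theorem nonmixed (V' : Submodule F V) (hV' : H.Nd V') :
    ∃ T ≤ H.K V', (∀ a ∈ T, ∀ b ∈ T, a * b = b * a) ∧ ∀ t ∈ π, ¬ t ∣ T.relIndex (H.K V') := by
  induction hn : finrank F V' using Nat.strong_induction_on generalizing V' with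
  | _ n ih =>
    subst hn
    by_cases hex : ∃ W ≤ V', ∃ p ∈ π, H.At p W
    · obtain ⟨W, hWV, p, hp, hW⟩ := hex
      set V'' := H.perp W ⊓ V' with hV''
      have hpV'' : H.perp V'' ≤ W ⊔ H.perp V' := by
        rw [← H.perp_perp (W ⊔ H.perp V')]
        apply H.perp_le
        intro x hx
        refine ⟨H.perp_le le_sup_left hx, ?_⟩
        have h1 := H.perp_le (le_sup_right : H.perp V' ≤ W ⊔ H.perp V') hx
        rwa [perp_perp] at h1
      have hV''n : H.Nd V'' := by
        unfold Nd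
        rw [Submodule.disjoint_def]
        intro x hx hxp
        obtain ⟨w, hw, u, hu, rfl⟩ := Submodule.mem_sup.1 (hpV'' hxp)
        have h1 : u ∈ V' := by
          have := V'.sub_mem hx.2 (hWV hw)
          rwa [add_sub_cancel_left] at this
        have h2 : u = 0 := (Submodule.disjoint_def.1 hV') u h1 hu
        subst h2
        have h3 : w ∈ H.perp W := by
          have := hx.1
          rwa [add_zero] at this
        rw [add_zero]
        exact (Submodule.disjoint_def.1 hW.1) w hw h3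
      have hlt : finrank F V'' < finrank F V' := by
        apply Submodule.finrank_lt_finrank_of_lt
        refine lt_of_le_of_ne inf_le_right ?_
        intro h
        apply hW.ne_bot (hπ p hp).1
        rw [eq_bot_iff]
        intro x hx
        have h1 : x ∈ V'' := by
          rw [h]
          exact hWV hx
        exact (Submodule.disjoint_def.1 hW.1) x hx h1.1
      obtain ⟨T2, hT2, hT2c, hT2i⟩ := ih _ hlt V'' hV''n rfl
      obtain ⟨T1, hT1, hT1c, hT1i⟩ := exists_T hπ hc (W := W) (π₁ := π) (fun _ h => h) ⟨p, hp⟩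
        (fun t ht => hnm p hp t ht W hW)
      have hV''W : V'' ≤ H.perp W := inf_le_left
      have hcomm : ∀ a ∈ H.K W, ∀ b ∈ H.K V'', a * b = b * a := fun a ha b hb =>
        (H.commute_of_le_perp hW.1 hV''W hb ha).symm
      let f : H.K W × H.K V'' →* H.G :=
        MonoidHom.noncommCoprod (H.K W).subtype (H.K V'').subtype (fun a b => hcomm a a.2 b b.2)
      have hf : ∀ a b, f (a, b) = a.1 * b.1 := fun a b => rfl
      have hfinj : Function.Injective f := by
        rw [injective_iff_map_eq_one]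
        rintro ⟨a, b⟩ hab
        rw [hf] at hab
        have h1 : a.1 = b.1⁻¹ := eq_inv_of_mul_eq_one_left hab
        have h2 : a.1 ∈ H.K V'' := by
          rw [h1]
          exact inv_mem b.2
        have h3 : a.1 = 1 := by
          refine H.ext_K hW.1 a.2 (one_mem _) ?_
          intro x hx
          have h4 : x ∈ H.perp V'' := H.le_perp_iff.1 hV''W hx
          exact h2 x h4
        have h4 : b.1 = 1 := by
          rw [h3] at h1
          exact inv_eq_one.1 h1.symm
        exact Prod.ext (Subtype.ext h3) (Subtype.ext h4)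
      let T : Subgroup H.G := ((T1.subgroupOf (H.K W)).prod (T2.subgroupOf (H.K V''))).map f
      have hrange : f.range = H.St W ⊓ H.K V' := by
        apply le_antisymm
        · rintro _ ⟨⟨a, b⟩, rfl⟩
          rw [hf]
          refine ⟨mul_mem (H.K_le_St W a.2) ?_, mul_mem (H.K_mono hWV a.2) (H.K_mono inf_le_right b.2)⟩
          exact H.St_of_perp (H.K_le_St _ (H.K_mono hV''W b.2))
        · rintro g ⟨hg1, hg2⟩
          set a := H.part hW.1 ⟨g, hg1⟩ with ha
          have haW : a ∈ H.K W := H.part_mem hW.1 _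
          have hb : a⁻¹ * g ∈ H.K V'' := by
            intro x hx
            obtain ⟨w, hw, u, hu, rfl⟩ := Submodule.mem_sup.1 (hpV'' hx)
            have e1 : g.1 w = a.1 w := (H.part_apply hW.1 ⟨g, hg1⟩ hw).symm
            have e2 : g.1 u = u := hg2 u hu
            have e3 : a.1 u = u := haW u (H.perp_le hWV hu)
            show a.1.symm (g.1 (w + u)) = w + u
            rw [map_add, e1, e2, map_add, a.1.symm_apply_apply]
            congr 1
            rw [LinearEquiv.symm_apply_eq, e3]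
          refine ⟨(⟨a, haW⟩, ⟨a⁻¹ * g, hb⟩), ?_⟩
          rw [hf]
          show a * (a⁻¹ * g) = g
          rw [mul_inv_cancel_left]
      have hTr : T ≤ f.range := Subgroup.map_le_range _ _
      have hrV : f.range ≤ H.K V' := by
        rw [hrange]
        exact inf_le_right
      refine ⟨T, hTr.trans hrV, ?_, ?_⟩
      · rintro _ ⟨⟨a, b⟩, hab, rfl⟩ _ ⟨⟨a', b'⟩, hab', rfl⟩
        have h1 := Subgroup.mem_prod.1 hab
        have h2 := Subgroup.mem_prod.1 hab'
        rw [← map_mul, ← map_mul]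
        congr 1
        refine Prod.ext (Subtype.ext ?_) (Subtype.ext ?_)
        · exact hT1c _ h1.1 _ h2.1
        · exact hT2c _ h1.2 _ h2.2
      · intro t ht hd
        rw [← Subgroup.relIndex_mul_relIndex T f.range (H.K V') hTr hrV] at hd
        have htP := (hπ t ht).1
        rcases htP.dvd_mul.1 hd with h1 | h1
        · have h2 : T.relIndex f.range = T1.relIndex (H.K W) * T2.relIndex (H.K V'') := by
            have h3 : f.range = (⊤ : Subgroup (H.K W × H.K V'')).map f := f.range_eq_map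
            rw [h3, Subgroup.relIndex_map_map_of_injective _ _ hfinj, Subgroup.relIndex_top_right,
              Subgroup.index_prod]
            rfl
          rw [h2] at h1
          rcases htP.dvd_mul.1 h1 with h4 | h4
          · exact hT1i t ht h4
          · exact hT2i t ht h4
        · rw [hrange, Subgroup.inf_relIndex_right] at h1
          exact orbit_bound hπ hc hU hnt hnm ht (hnm p hp t ht W hW) hWV h1
    · push Not at hex
      refine ⟨⊥, bot_le, ?_, ?_⟩
      · intro a ha b hb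
        rw [Subgroup.mem_bot] at ha hb
        rw [ha, hb]
      · intro t ht hd
        rw [Subgroup.relIndex_bot_left] at hd
        obtain ⟨U, hUa⟩ := At.exists_le hV' hd
        have h1 : finrank F U ≤ finrank F V' := hUa.2.2 V' hV' hd
        rcases eq_or_lt_of_le h1 with h2 | h2
        · refine hex V' le_rfl t ht ⟨hV', hd, ?_⟩
          intro X hX htX
          rw [← h2]
          exact hUa.2.2 X hX htX
        · obtain ⟨U', hU'V, hU'n, ⟨φ⟩⟩ := hE t ht U V' hUa hV' h2
          exact hex U' hU'V t ht (hUa.isom hU'n φ)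

end

/-- **The abstract theorem.** -/
theorem main {π : Set ℕ} (hπ : ∀ p ∈ π, p.Prime ∧ p ≠ 2 ∧ (p : F) ≠ 0) (hc : Cnd π H.G)
    (hnt : π.Nontrivial) (hdv : ∀ p ∈ π, p ∣ Nat.card H.G)
    (hE : ∀ s ∈ π, ∀ U W : Submodule F V, H.At s U → H.Nd W → finrank F U < finrank F W →
      ∃ U' ≤ W, H.Nd U' ∧ Nonempty (H.Isom U U'))
    (hU : ∀ p ∈ π, ∀ U U' : Submodule F V, H.At p U → H.At p U' → Nonempty (H.Isom U U')) :
    ∃ T : Subgroup H.G, (∀ a ∈ T, ∀ b ∈ T, a * b = b * a) ∧ ∀ t ∈ π, ¬ t ∣ T.index := by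
  by_cases hm : ∃ p ∈ π, ∃ s ∈ π, ∃ W : Submodule F V, H.At p W ∧ ¬ s ∣ Nat.card (H.K W)
  · obtain ⟨p, hp, s, hs, W, hW, hns⟩ := hm
    exact mixed hπ hc hE hU hdv hp hs hW hns
  · push Not at hm
    have hnm : ∀ p ∈ π, ∀ s ∈ π, ∀ W : Submodule F V, H.At p W → H.At s W := fun p hp s hs W hW =>
      at_of_dvd hπ hc hE hp hs hW hW.1 le_rfl (hm p hp s hs W hW)
    have hperp : H.perp (⊤ : Submodule F V) = ⊥ := by
      rw [eq_bot_iff]
      intro x hx
      rw [Submodule.mem_bot]
      exact H.eq_zero_of_forall fun y => H.mem_perp'.1 hx y trivial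
    have hnd : H.Nd (⊤ : Submodule F V) := by
      unfold Nd
      rw [hperp]
      exact disjoint_bot_right
    have hK : H.K (⊤ : Submodule F V) = ⊤ := by
      rw [eq_top_iff]
      intro g _ x hx
      rw [hperp, Submodule.mem_bot] at hx
      rw [hx, map_zero]
    obtain ⟨T, -, h1, h2⟩ := nonmixed hπ hc hU hnt hnm hE ⊤ hnd
    refine ⟨T, h1, fun t ht => ?_⟩
    have := h2 t ht
    rwa [hK, Subgroup.relIndex_top_right] at this

end FS

end Cfsg.Agent.H119.NHF
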