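import Mathlib

/-!
# Formed spaces for the nilpotent Hall rows of `PSp` and `POmega` (helper119)

`FS F V`: a nondegenerate reflexive bilinear form `B` with a function `Q` which is additive on orthogonal pairs
(`Q = 0`: symplectic spaces; `Q` a quadratic form with polar form `B`: quadratic spaces).

* `FS.G` : the group of isometries; `FS.Nd W` : `W` is nondegenerate; `FS.K W` : isometries trivial on `W^⊥`;
  `FS.St W` : the stabiliser of `W`; `FS.part W g` : the element of `K W` agreeing with `g ∈ St W` on `W`;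
* `FS.Isom W W'` : isometries between subspaces, `FS.tr` : `K W ≃ K W'`.
-/

set_option autoImplicit false
set_option linter.unusedSectionVars false

namespace Cfsg.Agent.H119.NHF

open Module
open LinearMap (BilinForm)

universe u v

/-- A formed space. -/
structure FS (F : Type u) (V : Type v) [Field F] [AddCommGroup V] [Module F V] where
  /-- the form -/
  B : BilinForm F V
  /-- the quadratic function -/
  Q : V → F
  refl : B.IsRefl
  nd : B.Nondegenerate
  qadd : ∀ x y, B x y = 0 → Q (x + y) = Q x + Q y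

variable {F : Type u} {V : Type v} [Field F] [AddCommGroup V] [Module F V]

namespace FS

variable (H : FS F V)

/-- The group of isometries. -/
def G : Subgroup (V ≃ₗ[F] V) where
  carrier := {g | (∀ x y, H.B (g x) (g y) = H.B x y) ∧ ∀ x, H.Q (g x) = H.Q x}
  mul_mem' {a b} ha hb := ⟨fun x y => by
    rw [LinearEquiv.mul_apply, LinearEquiv.mul_apply, ha.1, hb.1], fun x => by
    rw [LinearEquiv.mul_apply, ha.2, hb.2]⟩
  one_mem' := ⟨fun _ _ => rfl, fun _ => rfl⟩
  inv_mem' {a} ha := ⟨fun x y => by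
    have h := ha.1 (a⁻¹ x) (a⁻¹ y)
    have e : ∀ z, a (a⁻¹ z) = z := fun z => a.apply_symm_apply z
    rw [e, e] at h
    exact h.symm, fun x => by
    have h := ha.2 (a⁻¹ x)
    have e : a (a⁻¹ x) = x := a.apply_symm_apply x
    rw [e] at h
    exact h.symm⟩

/-- The orthogonal subspace. -/
def perp (W : Submodule F V) : Submodule F V := H.B.orthogonal W

theorem mem_perp {W : Submodule F V} {x : V} : x ∈ H.perp W ↔ ∀ w ∈ W, H.B w x = 0 :=
  BilinForm.mem_orthogonal_iff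

theorem mem_perp' {W : Submodule F V} {x : V} : x ∈ H.perp W ↔ ∀ w ∈ W, H.B x w = 0 := by
  rw [mem_perp]
  exact ⟨fun h w hw => H.refl _ _ (h w hw), fun h w hw => H.refl _ _ (h w hw)⟩

theorem perp_le {W W' : Submodule F V} (h : W ≤ W') : H.perp W' ≤ H.perp W :=
  BilinForm.orthogonal_le h

/-- `W` is nondegenerate. -/
def Nd (W : Submodule F V) : Prop := Disjoint W (H.perp W)

theorem le_perp_iff {W W' : Submodule F V} : W ≤ H.perp W' ↔ W' ≤ H.perp W := by
  constructor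
  · intro h x hx
    rw [mem_perp']
    intro w hw
    exact (H.mem_perp.1 (h hw)) x hx
  · intro h x hx
    rw [mem_perp']
    intro w hw
    exact (H.mem_perp.1 (h hw)) x hx

theorem eq_zero_of_forall {x : V} (h : ∀ y, H.B x y = 0) : x = 0 := H.nd.1 x h

theorem nd_bot : H.Nd ⊥ := disjoint_bot_left

/-- The fixed space. -/
def fix (g : V ≃ₗ[F] V) : Submodule F V where
  carrier := {x | g x = x}
  add_mem' {a b} ha hb := by
    show g (a + b) = a + b
    rw [map_add]
    rw [show g a = a from ha, show g b = b from hb]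
  zero_mem' := map_zero g
  smul_mem' c x hx := by
    show g (c • x) = c • x
    rw [map_smul, show g x = x from hx]

theorem mem_fix {g : V ≃ₗ[F] V} {x : V} : x ∈ fix g ↔ g x = x := Iff.rfl

/-- The isometries trivial on `W^⊥`. -/
def K (W : Submodule F V) : Subgroup H.G where
  carrier := {g | ∀ x ∈ H.perp W, g.1 x = x}
  mul_mem' {a b} ha hb := fun x hx => by
    show a.1 (b.1 x) = x
    rw [hb x hx, ha x hx]
  one_mem' := fun _ _ => rfl
  inv_mem' {a} ha := fun x hx => by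
    show a.1.symm x = x
    rw [LinearEquiv.symm_apply_eq]
    exact (ha x hx).symm

theorem mem_K {W : Submodule F V} {g : H.G} : g ∈ H.K W ↔ ∀ x ∈ H.perp W, g.1 x = x := Iff.rfl

/-- The stabiliser of `W`. -/
def St (W : Submodule F V) : Subgroup H.G where
  carrier := {g | W.map (g.1 : V →ₗ[F] V) = W}
  mul_mem' {a b} ha hb := by
    show W.map ((a.1 * b.1 : V ≃ₗ[F] V) : V →ₗ[F] V) = W
    have h : ((a.1 * b.1 : V ≃ₗ[F] V) : V →ₗ[F] V) = (a.1 : V →ₗ[F] V) ∘ₗ (b.1 : V →ₗ[F] V) := rfl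
    rw [h, Submodule.map_comp, show W.map (b.1 : V →ₗ[F] V) = W from hb]
    exact ha
  one_mem' := by
    show W.map ((1 : V ≃ₗ[F] V) : V →ₗ[F] V) = W
    have h : ((1 : V ≃ₗ[F] V) : V →ₗ[F] V) = LinearMap.id := rfl
    rw [h, Submodule.map_id]
  inv_mem' {a} ha := by
    show W.map ((a.1.symm : V ≃ₗ[F] V) : V →ₗ[F] V) = W
    have ha' : W.map (a.1 : V →ₗ[F] V) = W := ha
    conv_lhs => rw [← ha']
    rw [← Submodule.map_comp]
    have h : ((a.1.symm : V ≃ₗ[F] V) : V →ₗ[F] V) ∘ₗ (a.1 : V →ₗ[F] V) = LinearMap.id := by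
      ext x
      simp
    rw [h, Submodule.map_id]

theorem mem_St {W : Submodule F V} {g : H.G} : g ∈ H.St W ↔ W.map (g.1 : V →ₗ[F] V) = W := Iff.rfl

theorem St.mem {W : Submodule F V} {g : H.G} (hg : g ∈ H.St W) {x : V} (hx : x ∈ W) : g.1 x ∈ W := by
  have h : g.1 x ∈ W.map (g.1 : V →ₗ[F] V) := Submodule.mem_map_of_mem hx
  rwa [H.mem_St.1 hg] at h

theorem B_map (g : H.G) (x y : V) : H.B (g.1 x) (g.1 y) = H.B x y := g.2.1 x y

theorem Q_map (g : H.G) (x : V) : H.Q (g.1 x) = H.Q x := g.2.2 x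

theorem map_perp (g : H.G) (W : Submodule F V) :
    (H.perp W).map (g.1 : V →ₗ[F] V) = H.perp (W.map (g.1 : V →ₗ[F] V)) := by
  ext x
  constructor
  · rintro ⟨y, hy, rfl⟩
    rw [mem_perp]
    rintro _ ⟨w, hw, rfl⟩
    show H.B (g.1 w) (g.1 y) = 0
    rw [B_map]
    exact H.mem_perp.1 hy w hw
  · intro hx
    refine ⟨g.1.symm x, ?_, g.1.apply_symm_apply x⟩
    rw [SetLike.mem_coe, mem_perp]
    intro w hw
    rw [← H.B_map g, g.1.apply_symm_apply]
    exact H.mem_perp.1 hx _ (Submodule.mem_map_of_mem hw)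

theorem St_perp {W : Submodule F V} {g : H.G} (hg : g ∈ H.St W) : g ∈ H.St (H.perp W) := by
  rw [mem_St, map_perp, H.mem_St.1 hg]

theorem Nd.map {W : Submodule F V} (hW : H.Nd W) (g : H.G) : H.Nd (W.map (g.1 : V →ₗ[F] V)) := by
  unfold Nd
  rw [← map_perp]
  exact Submodule.disjoint_map g.1.injective hW

variable [FiniteDimensional F V]

theorem perp_perp (W : Submodule F V) : H.perp (H.perp W) = W :=
  BilinForm.orthogonal_orthogonal H.nd H.refl W

theorem Nd.isCompl {W : Submodule F V} (hW : H.Nd W) : IsCompl W (H.perp W) :=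
  (BilinForm.isCompl_orthogonal_iff_disjoint H.refl).2 hW

theorem Nd.perp {W : Submodule F V} (hW : H.Nd W) : H.Nd (H.perp W) := by
  unfold Nd
  rw [perp_perp]
  exact hW.symm

theorem St_of_perp {W : Submodule F V} {g : H.G} (hg : g ∈ H.St (H.perp W)) : g ∈ H.St W := by
  have := H.St_perp hg
  rwa [perp_perp] at this

theorem K_le_St_perp (W : Submodule F V) : H.K W ≤ H.St (H.perp W) := by
  intro g hg
  rw [mem_St]
  ext x
  constructor
  · rintro ⟨y, hy, rfl⟩
    show g.1 y ∈ _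
    rw [H.mem_K.1 hg y hy]
    exact hy
  · intro hx
    exact ⟨x, hx, H.mem_K.1 hg x hx⟩

theorem K_le_St (W : Submodule F V) : H.K W ≤ H.St W := fun _ hg => H.St_of_perp (H.K_le_St_perp W hg)

theorem K_mono {U W : Submodule F V} (h : U ≤ W) : H.K U ≤ H.K W :=
  fun _ hg x hx => hg x (H.perp_le h hx)

theorem conj_mem_K {W : Submodule F V} {x g : H.G} (hx : x ∈ H.K W) :
    g * x * g⁻¹ ∈ H.K (W.map (g.1 : V →ₗ[F] V)) := by
  intro y hy
  rw [← map_perp] at hy
  obtain ⟨z, hz, rfl⟩ := hy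
  show g.1 (x.1 (g.1.symm (g.1 z))) = g.1 z
  rw [g.1.symm_apply_apply, hx z hz]

theorem conj_mem_K_of_St {W : Submodule F V} {x g : H.G} (hx : x ∈ H.K W) (hg : g ∈ H.St W) :
    g * x * g⁻¹ ∈ H.K W := by
  have := H.conj_mem_K (g := g) hx
  rwa [H.mem_St.1 hg] at this

theorem exists_add {W : Submodule F V} (hW : H.Nd W) (x : V) : ∃ w ∈ W, ∃ w' ∈ H.perp W, x = w + w' := by
  have h : x ∈ W ⊔ H.perp W := by
    rw [(hW.isCompl).sup_eq_top]
    trivial
  obtain ⟨w, hw, w', hw', rfl⟩ := Submodule.mem_sup.1 h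
  exact ⟨w, hw, w', hw', rfl⟩

theorem commute_of_le_perp {U W : Submodule F V} (hW : H.Nd W) (h : U ≤ H.perp W) {g k : H.G}
    (hg : g ∈ H.K U) (hk : k ∈ H.K W) : g * k = k * g := by
  apply Subtype.ext
  ext x
  obtain ⟨w, hw, w', hw', rfl⟩ := H.exists_add hW x
  have h1 : ∀ y ∈ W, g.1 y = y := fun y hy => hg y (H.le_perp_iff.1 h hy)
  have h2 : g.1 w' ∈ H.perp W := by
    have h3 : g ∈ H.St (H.perp W) := H.K_le_St _ (H.K_mono h hg)
    exact St.mem H h3 hw'
  have h3 : k.1 w ∈ W := St.mem H (H.K_le_St W hk) hw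
  show g.1 (k.1 (w + w')) = k.1 (g.1 (w + w'))
  rw [map_add, map_add, map_add, map_add, h1 _ h3, h1 _ hw, hk _ hw', hk _ h2]

/-! ### Gluing -/

/-- Extension by the identity of an automorphism of a nondegenerate subspace. -/
noncomputable def glue {W : Submodule F V} (hW : H.Nd W) (h : W ≃ₗ[F] W) : V ≃ₗ[F] V :=
  (Submodule.prodEquivOfIsCompl W (H.perp W) hW.isCompl).symm.trans
    ((h.prodCongr (LinearEquiv.refl F _)).trans (Submodule.prodEquivOfIsCompl W (H.perp W) hW.isCompl))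

theorem glue_apply {W : Submodule F V} (hW : H.Nd W) (h : W ≃ₗ[F] W) (w : W) (w' : H.perp W) :
    H.glue hW h ((w : V) + (w' : V)) = (h w : V) + (w' : V) := by
  have e : (Submodule.prodEquivOfIsCompl W (H.perp W) hW.isCompl).symm ((w : V) + (w' : V)) = (w, w') := by
    rw [LinearEquiv.symm_apply_eq]
    rfl
  unfold glue
  rw [LinearEquiv.trans_apply, LinearEquiv.trans_apply, e]
  rfl

theorem glue_mem {W : Submodule F V} (hW : H.Nd W) (h : W ≃ₗ[F] W) (w : W) :
    H.glue hW h (w : V) = (h w : V) := by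
  have := H.glue_apply hW h w 0
  simpa using this

theorem glue_perp {W : Submodule F V} (hW : H.Nd W) (h : W ≃ₗ[F] W) {x : V} (hx : x ∈ H.perp W) :
    H.glue hW h x = x := by
  have := H.glue_apply hW h 0 ⟨x, hx⟩
  simpa using this

theorem glue_mul {W : Submodule F V} (hW : H.Nd W) (h k : W ≃ₗ[F] W) :
    H.glue hW (h * k) = H.glue hW h * H.glue hW k := by
  ext x
  obtain ⟨w, hw, w', hw', rfl⟩ := H.exists_add hW x
  have e1 := H.glue_apply hW (h * k) ⟨w, hw⟩ ⟨w', hw'⟩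
  have e2 := H.glue_apply hW k ⟨w, hw⟩ ⟨w', hw'⟩
  have e3 := H.glue_apply hW h (k ⟨w, hw⟩) ⟨w', hw'⟩
  rw [LinearEquiv.mul_apply]
  refine e1.trans ?_
  have e4 : (H.glue hW k) (w + w') = ((k ⟨w, hw⟩ : W) : V) + w' := e2
  rw [e4]
  exact e3.symm

theorem glue_one {W : Submodule F V} (hW : H.Nd W) : H.glue hW 1 = 1 := by
  ext x
  obtain ⟨w, hw, w', hw', rfl⟩ := H.exists_add hW x
  exact H.glue_apply hW 1 ⟨w, hw⟩ ⟨w', hw'⟩

/-- Isometries of the subspace `W`. -/
def IW (W : Submodule F V) : Subgroup (W ≃ₗ[F] W) where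
  carrier := {g | (∀ x y : W, H.B (g x) (g y) = H.B x y) ∧ ∀ x : W, H.Q (g x) = H.Q x}
  mul_mem' {a b} ha hb := ⟨fun x y => by
    rw [LinearEquiv.mul_apply, LinearEquiv.mul_apply, ha.1, hb.1], fun x => by
    rw [LinearEquiv.mul_apply, ha.2, hb.2]⟩
  one_mem' := ⟨fun _ _ => rfl, fun _ => rfl⟩
  inv_mem' {a} ha := ⟨fun x y => by
    have h := ha.1 (a⁻¹ x) (a⁻¹ y)
    have e : ∀ z, a (a⁻¹ z) = z := fun z => a.apply_symm_apply z
    rw [e, e] at h
    exact h.symm, fun x => by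
    have h := ha.2 (a⁻¹ x)
    have e : a (a⁻¹ x) = x := a.apply_symm_apply x
    rw [e] at h
    exact h.symm⟩

theorem glue_mem_G {W : Submodule F V} (hW : H.Nd W) {h : W ≃ₗ[F] W} (hh : h ∈ H.IW W) : H.glue hW h ∈ H.G := by
  constructor
  · intro x y
    obtain ⟨w, hw, w', hw', rfl⟩ := H.exists_add hW x
    obtain ⟨z, hz, z', hz', rfl⟩ := H.exists_add hW y
    have e1 : H.glue hW h (w + w') = (h ⟨w, hw⟩ : V) + w' := H.glue_apply hW h ⟨w, hw⟩ ⟨w', hw'⟩
    have e2 : H.glue hW h (z + z') = (h ⟨z, hz⟩ : V) + z' := H.glue_apply hW h ⟨z, hz⟩ ⟨z', hz'⟩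
    rw [e1, e2]
    simp only [map_add, LinearMap.add_apply]
    have h1 : H.B (h ⟨w, hw⟩ : V) z' = 0 := H.mem_perp.1 hz' _ (h ⟨w, hw⟩).2
    have h2 : H.B w' (h ⟨z, hz⟩ : V) = 0 := H.mem_perp'.1 hw' _ (h ⟨z, hz⟩).2
    have h3 : H.B w z' = 0 := H.mem_perp.1 hz' _ hw
    have h4 : H.B w' z = 0 := H.mem_perp'.1 hw' _ hz
    have h5 : H.B (h ⟨w, hw⟩ : V) (h ⟨z, hz⟩ : V) = H.B w z := hh.1 ⟨w, hw⟩ ⟨z, hz⟩
    rw [h1, h2, h3, h4, h5]
  · intro x
    obtain ⟨w, hw, w', hw', rfl⟩ := H.exists_add hW x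
    have e1 : H.glue hW h (w + w') = (h ⟨w, hw⟩ : V) + w' := H.glue_apply hW h ⟨w, hw⟩ ⟨w', hw'⟩
    rw [e1]
    rw [H.qadd _ _ (H.mem_perp.1 hw' _ (h ⟨w, hw⟩).2), H.qadd _ _ (H.mem_perp.1 hw' _ hw)]
    have h5 : H.Q (h ⟨w, hw⟩ : V) = H.Q w := hh.2 ⟨w, hw⟩
    rw [h5]

/-- Gluing as a homomorphism. -/
noncomputable def glueHom {W : Submodule F V} (hW : H.Nd W) : H.IW W →* H.G where
  toFun h := ⟨H.glue hW h.1, H.glue_mem_G hW h.2⟩
  map_one' := Subtype.ext (H.glue_one hW)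
  map_mul' a b := Subtype.ext (H.glue_mul hW a.1 b.1)

theorem glueHom_mem {W : Submodule F V} (hW : H.Nd W) (h : H.IW W) : H.glueHom hW h ∈ H.K W :=
  fun _ hx => H.glue_perp hW h.1 hx

theorem glueHom_apply {W : Submodule F V} (hW : H.Nd W) (h : H.IW W) (w : W) :
    (H.glueHom hW h).1 (w : V) = (h.1 w : V) := H.glue_mem hW h.1 w

theorem glueHom_injective {W : Submodule F V} (hW : H.Nd W) : Function.Injective (H.glueHom hW) := by
  intro a b hab
  apply Subtype.ext
  ext w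
  rw [← H.glueHom_apply hW a w, ← H.glueHom_apply hW b w, hab]

omit [FiniteDimensional F V] in
theorem St_mem_iff {W : Submodule F V} {g : H.G} (hg : g ∈ H.St W) : W.map (g.1 : V →ₗ[F] V) = W := hg

/-- Restriction of an element of the stabiliser. -/
noncomputable def resHom (W : Submodule F V) : H.St W →* H.IW W where
  toFun g := ⟨LinearEquiv.ofSubmodules g.1.1 W W (H.mem_St.1 g.2), fun x y => H.B_map g.1 x y,
    fun x => H.Q_map g.1 x⟩
  map_one' := by
    apply Subtype.ext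
    ext x
    rfl
  map_mul' a b := by
    apply Subtype.ext
    ext x
    rfl

theorem resHom_apply {W : Submodule F V} (g : H.St W) (w : W) : (((H.resHom W g).1 w : W) : V) = g.1.1 (w : V) := rfl

/-- The part of `g` on `W`. -/
noncomputable def part {W : Submodule F V} (hW : H.Nd W) : H.St W →* H.G := (H.glueHom hW).comp (H.resHom W)

theorem part_mem {W : Submodule F V} (hW : H.Nd W) (g : H.St W) : H.part hW g ∈ H.K W :=
  H.glueHom_mem hW _

theorem part_apply {W : Submodule F V} (hW : H.Nd W) (g : H.St W) {x : V} (hx : x ∈ W) :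
    (H.part hW g).1 x = g.1.1 x := H.glueHom_apply hW _ ⟨x, hx⟩

theorem ext_K {W : Submodule F V} (hW : H.Nd W) {g k : H.G} (hg : g ∈ H.K W) (hk : k ∈ H.K W)
    (h : ∀ x ∈ W, g.1 x = k.1 x) : g = k := by
  apply Subtype.ext
  ext x
  obtain ⟨w, hw, w', hw', rfl⟩ := H.exists_add hW x
  rw [map_add, map_add, h w hw, hg w' hw', hk w' hw']

theorem part_of_mem {W : Submodule F V} (hW : H.Nd W) (g : H.St W) (hg : g.1 ∈ H.K W) : H.part hW g = g.1 :=
  H.ext_K hW (H.part_mem hW g) hg fun _ hx => H.part_apply hW g hx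

/-! ### Isometries between subspaces -/

/-- Isometries between subspaces. -/
structure Isom (U W : Submodule F V) where
  /-- the linear map -/
  e : U ≃ₗ[F] W
  hB : ∀ x y : U, H.B (e x) (e y) = H.B x y
  hQ : ∀ x : U, H.Q (e x) = H.Q x

/-- conjugation by an isometry -/
noncomputable def Isom.conj {U W : Submodule F V} (φ : H.Isom U W) : H.IW U →* H.IW W where
  toFun g := ⟨φ.e.symm.trans (g.1.trans φ.e), fun x y => by
    show H.B (φ.e (g.1 (φ.e.symm x))) (φ.e (g.1 (φ.e.symm y))) = _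
    rw [φ.hB, g.2.1, ← φ.hB, φ.e.apply_symm_apply, φ.e.apply_symm_apply], fun x => by
    show H.Q (φ.e (g.1 (φ.e.symm x))) = _
    rw [φ.hQ, g.2.2, ← φ.hQ, φ.e.apply_symm_apply]⟩
  map_one' := by
    apply Subtype.ext
    ext x
    show ((φ.e (φ.e.symm x) : W) : V) = x
    rw [φ.e.apply_symm_apply]
  map_mul' a b := by
    apply Subtype.ext
    ext x
    show ((φ.e (a.1 (b.1 (φ.e.symm x))) : W) : V) = ((φ.e (a.1 (φ.e.symm (φ.e (b.1 (φ.e.symm x))))) : W) : V)
    rw [φ.e.symm_apply_apply]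

theorem Isom.conj_injective {U W : Submodule F V} (φ : H.Isom U W) : Function.Injective (Isom.conj H φ) := by
  intro a b hab
  apply Subtype.ext
  ext x
  have h1 : (Isom.conj H φ a).1 (φ.e x) = (Isom.conj H φ b).1 (φ.e x) := by rw [hab]
  have h2 : φ.e (a.1 (φ.e.symm (φ.e x))) = φ.e (b.1 (φ.e.symm (φ.e x))) := h1
  rw [φ.e.symm_apply_apply] at h2
  rw [φ.e.injective h2]

/-- Transport of `K U` to `K W`. -/
noncomputable def Isom.tr {U W : Submodule F V} (φ : H.Isom U W) (hW : H.Nd W) : H.K U →* H.G :=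
  (H.glueHom hW).comp ((Isom.conj H φ).comp ((H.resHom U).comp (Subgroup.inclusion (H.K_le_St U))))

theorem Isom.tr_mem {U W : Submodule F V} (φ : H.Isom U W) (hW : H.Nd W) (g : H.K U) :
    Isom.tr H φ hW g ∈ H.K W :=
  H.glueHom_mem hW _

theorem Isom.tr_apply {U W : Submodule F V} (φ : H.Isom U W) (hW : H.Nd W) (g : H.K U) (x : U) :
    (Isom.tr H φ hW g).1 (φ.e x : V) = (φ.e ⟨g.1.1 x, St.mem H (H.K_le_St U g.2) x.2⟩ : V) := by
  have h := H.glueHom_apply hW (Isom.conj H φ (H.resHom U (Subgroup.inclusion (H.K_le_St U) g))) (φ.e x)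
  refine h.trans ?_
  show ((φ.e ((H.resHom U (Subgroup.inclusion (H.K_le_St U) g)).1 (φ.e.symm (φ.e x))) : W) : V) = _
  rw [φ.e.symm_apply_apply]
  rfl

theorem Isom.tr_injective {U W : Submodule F V} (hU : H.Nd U) (φ : H.Isom U W) (hW : H.Nd W) :
    Function.Injective (Isom.tr H φ hW) := by
  intro a b hab
  apply Subtype.ext
  refine H.ext_K hU a.2 b.2 fun x hx => ?_
  have h1 := Isom.tr_apply H φ hW a ⟨x, hx⟩
  have h2 := Isom.tr_apply H φ hW b ⟨x, hx⟩
  rw [hab, h2] at h1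
  have h3 := φ.e.injective (Subtype.ext h1)
  exact (congrArg Subtype.val h3).symm

end FS

end Cfsg.Agent.H119.NHF
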