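import Cfsg.Agent.H119.NHTau

/-!
# The abstract theorem on nilpotent Hall subgroups (helper119)
-/

set_option autoImplicit false
set_option linter.unusedSectionVars false

namespace Cfsg.Agent.H119.NHF

open Module
open LinearMap (BilinForm)

universe u v w

variable {F : Type u} {V : Type v} [Field F] [AddCommGroup V] [Module F V]

/-- A join of commuting commutative subgroups is commutative. -/
theorem sup_comm {G : Type w} [Group G] {A B : Subgroup G} (hA : ∀ a ∈ A, ∀ b ∈ A, a * b = b * a)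
    (hB : ∀ a ∈ B, ∀ b ∈ B, a * b = b * a) (hAB : ∀ a ∈ A, ∀ b ∈ B, a * b = b * a) :
    ∀ a ∈ A ⊔ B, ∀ b ∈ A ⊔ B, a * b = b * a := by
  have h1 : A ≤ Subgroup.centralizer (A : Set G) := fun a ha =>
    Subgroup.mem_centralizer_iff.2 fun b hb => hA b hb a ha
  have h2 : B ≤ Subgroup.centralizer (A : Set G) := fun b hb =>
    Subgroup.mem_centralizer_iff.2 fun a ha => hAB a ha b hb
  have h3 : B ≤ Subgroup.centralizer (B : Set G) := fun a ha =>
    Subgroup.mem_centralizer_iff.2 fun b hb => hB b hb a ha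
  have h4 : A ≤ Subgroup.centralizer ((A ⊔ B : Subgroup G) : Set G) :=
    Subgroup.le_centralizer_iff.1 (sup_le h1 h2)
  have h5 : B ≤ Subgroup.centralizer ((A ⊔ B : Subgroup G) : Set G) :=
    Subgroup.le_centralizer_iff.1 (sup_le (Subgroup.le_centralizer_iff.1 h2) h3)
  intro a ha b hb
  exact (Subgroup.mem_centralizer_iff.1 ((sup_le h4 h5) hb) a ha)

namespace FS

variable {H : FS F V} [FiniteDimensional F V] [Finite V]

section

variable {π : Set ℕ} (hπ : ∀ p ∈ π, p.Prime ∧ p ≠ 2 ∧ (p : F) ≠ 0) (hc : Cnd π H.G)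

include hπ hc

theorem step {s p : ℕ} (hs : s ∈ π) (hp : p ∈ π) (hsp : s ≠ p) {R U : Submodule F V} (hR : H.Nd R) {y : H.G}
    (hfix : fix y.1 = H.perp R) (hyp : ∃ k : ℕ, orderOf y = p ^ k) (hU : H.At s U) (hUR : U ≤ R) :
    ∃ U' ≤ R, H.At s U' ∧ Nonempty (H.Isom U U') ∧ p ∣ Nat.card (H.K U') := by
  obtain ⟨hsP, -, hsF⟩ := hπ s hs
  obtain ⟨hpP, -, hpF⟩ := hπ p hp
  have hsf : Fact s.Prime := ⟨hsP⟩
  obtain ⟨x, hxo⟩ := exists_prime_orderOf_dvd_card' s hU.2.1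
  have hxo' : orderOf (x : H.G) = s := by rw [Subgroup.orderOf_coe, hxo]
  have hxp : ∃ k : ℕ, orderOf (x : H.G) = s ^ k := ⟨1, by rw [hxo', pow_one]⟩
  have hx1 : (x : H.G) ≠ 1 := by
    intro h
    rw [h, orderOf_one] at hxo'
    exact hsP.one_lt.ne hxo'
  obtain ⟨g, hg, hgx⟩ := IL hsP hfix (hc p hp s hs hsp.symm y hyp) (H.K_mono hUR x.2) hxp
  have hU's : H.At s (U.map (g.1 : V →ₗ[F] V)) := hU.map g
  have hx' : g * x * g⁻¹ ∈ H.K (U.map (g.1 : V →ₗ[F] V)) := H.conj_mem_K x.2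
  have hx'1 : g * x * g⁻¹ ≠ 1 := fun h => hx1 (conj_eq_one_iff.1 h)
  have hyS : y ∈ H.St (U.map (g.1 : V →ₗ[F] V)) :=
    H.commute_St (hU's.fix_eq hsF hx' (pe_conj g hxp) hx'1) hgx.symm
  have hle : U.map (g.1 : V →ₗ[F] V) ≤ R := by
    conv_rhs => rw [← H.mem_St.1 hg]
    exact Submodule.map_mono hUR
  exact ⟨_, hle, hU's, ⟨isomMap g U⟩,
    dvd_card_of_St hpP hU's.1 hyS hyp (disj_of_le hR hle (hU's.ne_bot hsP) hfix)⟩

end

theorem exists_y {p : ℕ} (hp : p.Prime) (hF : (p : F) ≠ 0) {W : Submodule F V} (hW : H.At p W) :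
    ∃ y ∈ H.K W, orderOf y = p ∧ (∃ k : ℕ, orderOf y = p ^ k) ∧ fix y.1 = H.perp W := by
  have hpf : Fact p.Prime := ⟨hp⟩
  obtain ⟨x, hxo⟩ := exists_prime_orderOf_dvd_card' p hW.2.1
  have hxo' : orderOf (x : H.G) = p := by rw [Subgroup.orderOf_coe, hxo]
  have hxp : ∃ k : ℕ, orderOf (x : H.G) = p ^ k := ⟨1, by rw [hxo', pow_one]⟩
  have hx1 : (x : H.G) ≠ 1 := by
    intro h
    rw [h, orderOf_one] at hxo'
    exact hp.one_lt.ne hxo'
  exact ⟨x, x.2, hxo', hxp, hW.fix_eq hF x.2 hxp hx1⟩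

/-- A Sylow subgroup stabilising `W`, when `t ∤ |K W|`. -/
theorem sylow_le_K {t : ℕ} (ht : t.Prime) {W : Submodule F V} (hW : H.Nd W) (hd : ¬ t ∣ Nat.card (H.K W))
    (S : Sylow t H.G) (hS : (S : Subgroup H.G) ≤ H.St W) : (S : Subgroup H.G) ≤ H.K (H.perp W) := by
  intro z hz x hx
  rw [perp_perp] at hx
  by_contra hne
  apply hd
  have h1 : ∃ k : ℕ, orderOf z = t ^ k := by
    have : Fact t.Prime := ⟨ht⟩
    obtain ⟨k, hk⟩ := (IsPGroup.iff_orderOf.mp S.isPGroup') ⟨z, hz⟩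
    exact ⟨k, (Subgroup.orderOf_mk z hz).symm.trans hk⟩
  exact dvd_card_of_St ht hW (hS hz) h1 ⟨x, hx, hne⟩

section

variable {π : Set ℕ} (hπ : ∀ p ∈ π, p.Prime ∧ p ≠ 2 ∧ (p : F) ≠ 0) (hc : Cnd π H.G)
  (hE : ∀ s ∈ π, ∀ U W : Submodule F V, H.At s U → H.Nd W → finrank F U < finrank F W →
    ∃ U' ≤ W, H.Nd U' ∧ Nonempty (H.Isom U U'))

include hπ hc hE

/-- **Case A**: all atoms have the same dimension. -/
theorem finrank_le {p s : ℕ} (hp : p ∈ π) (hs : s ∈ π) {W U : Submodule F V} (hW : H.At p W) (hU : H.Nd U)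
    (hsU : s ∣ Nat.card (H.K U)) : finrank F W ≤ finrank F U := by
  by_contra hlt
  push Not at hlt
  by_cases hsp : s = p
  · subst hsp
    exact absurd (hW.2.2 U hU hsU) (by omega)
  obtain ⟨A, hA⟩ := At.exists_le hU hsU
  have hAU : finrank F A ≤ finrank F U := hA.2.2 U hU hsU
  obtain ⟨U', hU'W, hU'n, ⟨φ⟩⟩ := hE s hs A W hA hW.1 (by omega)
  obtain ⟨hpP, -, hpF⟩ := hπ p hp
  obtain ⟨y, -, -, hyp, hfix⟩ := exists_y hpP hpF hW
  obtain ⟨U'', hU''W, hU''s, ⟨ψ⟩, hpU''⟩ := step hπ hc hs hp hsp hW.1 hfix hyp (hA.isom hU'n φ) hU'W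
  have h1 := hW.2.2 U'' hU''s.1 hpU''
  have h2 := LinearEquiv.finrank_eq φ.e
  have h3 := LinearEquiv.finrank_eq ψ.e
  omega

theorem at_of_dvd {p t : ℕ} (hp : p ∈ π) (ht : t ∈ π) {W U : Submodule F V} (hW : H.At p W) (hU : H.Nd U)
    (hle : finrank F U ≤ finrank F W) (htU : t ∣ Nat.card (H.K U)) : H.At t U :=
  ⟨hU, htU, fun _ hX htX => hle.trans (finrank_le hπ hc hE hp ht hW hX htX)⟩

variable (hU : ∀ p ∈ π, ∀ U U' : Submodule F V, H.At p U → H.At p U' → Nonempty (H.Isom U U'))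
  (hdv : ∀ p ∈ π, p ∣ Nat.card H.G)

include hU hdv

/-- **The mixed case.** -/
theorem mixed {p s : ℕ} (hp : p ∈ π) (hs : s ∈ π) {W : Submodule F V} (hW : H.At p W)
    (hns : ¬ s ∣ Nat.card (H.K W)) :
    ∃ T : Subgroup H.G, (∀ a ∈ T, ∀ b ∈ T, a * b = b * a) ∧ ∀ t ∈ π, ¬ t ∣ T.index := by
  obtain ⟨hpP, -, hpF⟩ := hπ p hp
  obtain ⟨hsP, -, hsF⟩ := hπ s hs
  have hpf : Fact p.Prime := ⟨hpP⟩
  have hsf : Fact s.Prime := ⟨hsP⟩
  have hsp : s ≠ p := by
    rintro rfl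
    exact hns hW.2.1
  obtain ⟨y, hyW, hyo, hyp, hfix⟩ := exists_y hpP hpF hW
  set X := H.perp W with hX
  have hXn : H.Nd X := Nd.perp H hW.1
  have hXp : H.perp X = W := H.perp_perp W
  -- a Sylow `s`-subgroup is contained in `K X`
  have hsX : s ∣ Nat.card (H.K X) := by
    obtain ⟨S, hS⟩ := NHG.exists_sylow_le _ (hc p hp s hs hsp.symm y hyp)
    have hSW : (S : Subgroup H.G) ≤ H.St W := fun z hz =>
      H.commute_St hfix (Subgroup.mem_centralizer_singleton_iff.1 (hS hz))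
    have h1 := sylow_le_K hsP hW.1 hns S hSW
    exact (S.dvd_card_of_dvd_card (hdv s hs)).trans (Subgroup.card_dvd_of_le h1)
  have hWX : finrank F W ≤ finrank F X := finrank_le hπ hc hE hp hs hW hXn hsX
  have hXW : finrank F X ≤ finrank F W := by
    by_contra hlt
    push Not at hlt
    obtain ⟨W2, hW2X, hW2n, ⟨φ⟩⟩ := hE p hp W X hW hXn hlt
    have hW2 : H.At p W2 := hW.isom hW2n φ
    obtain ⟨y2, hy2W, hy2o, hy2p, hfix2⟩ := exists_y hpP hpF hW2
    have hcomm : y2 * y = y * y2 := H.commute_of_le_perp hW.1 hW2X hy2W hyW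
    set R := W ⊔ W2 with hR
    have hRfix : fix (y * y2).1 = H.perp R := by
      apply le_antisymm
      · intro z hz
        obtain ⟨a, ha, b, hb, rfl⟩ := H.exists_add hW.1 z
        have h1 : (y * y2).1 (a + b) = a + b := hz
        have h2 : (y * y2).1 (a + b) = y.1 (y2.1 (a + b)) := rfl
        have h3 : y2.1 a = a := hy2W a (H.le_perp_iff.1 hW2X ha)
        have h4 : y2.1 b ∈ X := St.mem H (H.K_le_St X (H.K_mono hW2X hy2W)) hb
        rw [h2, map_add, h3, map_add, hyW _ h4] at h1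
        have h5 : y.1 a ∈ W := St.mem H (H.K_le_St W hyW) ha
        have h6 : y.1 a - a = b - y2.1 b := by
          rw [sub_eq_sub_iff_add_eq_add, h1, add_comm]
        have h7 : y.1 a - a = 0 := by
          refine (Submodule.disjoint_def.1 hW.1) _ (W.sub_mem h5 ha) ?_
          rw [h6]
          exact X.sub_mem hb h4
        have h8 : b - y2.1 b = 0 := by rw [← h6, h7]
        have h9 : a = 0 := by
          refine (Submodule.disjoint_def.1 hW.1) _ ha ?_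
          rw [← hX, ← hfix]
          exact sub_eq_zero.1 h7
        have h10 : b ∈ H.perp W2 := by
          rw [← hfix2]
          exact (sub_eq_zero.1 h8).symm
        rw [h9, zero_add, mem_perp]
        intro w hw
        obtain ⟨w1, hw1, w2, hw2, rfl⟩ := Submodule.mem_sup.1 hw
        rw [map_add, LinearMap.add_apply, H.mem_perp.1 hb w1 hw1, H.mem_perp.1 h10 w2 hw2, add_zero]
      · intro z hz
        show y.1 (y2.1 z) = z
        rw [hy2W z (H.perp_le le_sup_right hz), hyW z (H.perp_le le_sup_left hz)]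
    have hyyp : ∃ k : ℕ, orderOf (y * y2) = p ^ k := by
      refine pe_of_pow hpP (n := 1) ?_
      have h1 : Commute y y2 := hcomm.symm
      rw [pow_one, h1.mul_pow]
      have h2 : y ^ p = 1 := by rw [← hyo, pow_orderOf_eq_one]
      have h3 : y2 ^ p = 1 := by rw [← hy2o, pow_orderOf_eq_one]
      rw [h2, h3, one_mul]
    have hRn : H.Nd R := by
      have h1 := Nd.perp H (H.fix_nd (pow_orderOf_eq_one (y * y2)) (pe_cast hyyp hpF))
      rwa [hRfix, perp_perp] at h1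
    obtain ⟨A, hA⟩ := At.exists_le hXn hsX
    have hAW : finrank F A ≤ finrank F W := finrank_le hπ hc hE hs hp hA hW.1 hW.2.1
    have hRW : finrank F W < finrank F R := by
      apply Submodule.finrank_lt_finrank_of_lt
      refine lt_of_le_of_ne le_sup_left ?_
      intro h
      apply hW2.ne_bot hpP
      rw [eq_bot_iff]
      intro z hz
      have h1 : z ∈ W := by
        rw [h]
        exact Submodule.mem_sup_right hz
      exact (Submodule.disjoint_def.1 hW.1) z h1 (hW2X hz)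
    obtain ⟨U', hU'R, hU'n, ⟨ψ⟩⟩ := hE s hs A R hA hRn (by omega)
    obtain ⟨U'', hU''R, hU''s, ⟨χ⟩, hpU''⟩ :=
      step hπ hc hs hp hsp hRn hRfix hyyp (hA.isom hU'n ψ) hU'R
    have h2 := LinearEquiv.finrank_eq ψ.e
    have h3 := LinearEquiv.finrank_eq χ.e
    have hU''p : H.At p U'' := at_of_dvd hπ hc hE hp hp hW hU''s.1 (by omega) hpU''
    obtain ⟨ω⟩ := hU p hp U'' W hU''p hW
    apply hns
    rw [← ω.card_eq hU''s.1 hW.1]
    exact hU''s.2.1
  have hXs : H.At s X := at_of_dvd hπ hc hE hp hs hW hXn hXW hsX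
  have hnp : ¬ p ∣ Nat.card (H.K X) := by
    intro h
    have hXpa : H.At p X := at_of_dvd hπ hc hE hp hp hW hXn hXW h
    obtain ⟨ω⟩ := hU p hp X W hXpa hW
    apply hns
    rw [← ω.card_eq hXn hW.1]
    exact hsX
  obtain ⟨x, hxX, hxo, hxs, hfixx⟩ := exists_y hsP hsF hXs
  have hSt : ∀ t ∈ π, ∃ S : Sylow t H.G, (S : Subgroup H.G) ≤ H.St W := by
    intro t ht
    have htf : Fact t.Prime := ⟨(hπ t ht).1⟩
    by_cases htp : t = p
    · obtain ⟨S, hS⟩ := NHG.exists_sylow_le _ (hc s hs t ht (fun h => hsp (h.trans htp)) x hxs)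
      refine ⟨S, fun z hz => ?_⟩
      exact H.St_of_perp (H.commute_St hfixx (Subgroup.mem_centralizer_singleton_iff.1 (hS hz)))
    · obtain ⟨S, hS⟩ := NHG.exists_sylow_le _ (hc p hp t ht (Ne.symm htp) y hyp)
      exact ⟨S, fun z hz => H.commute_St hfix (Subgroup.mem_centralizer_singleton_iff.1 (hS hz))⟩
  have hnot : ∀ t ∈ π, ¬ (t ∣ Nat.card (H.K W) ∧ t ∣ Nat.card (H.K X)) := by
    rintro t ht ⟨h1, h2⟩
    obtain ⟨ω⟩ := hU t ht X W (at_of_dvd hπ hc hE hp ht hW hXn hXW h2)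
      (at_of_dvd hπ hc hE hp ht hW hW.1 le_rfl h1)
    apply hns
    rw [← ω.card_eq hXn hW.1]
    exact hsX
  have hidx : ∀ t ∈ π, ∀ (A B : Submodule F V), H.Nd A → H.perp A = B →
      (∀ S : Sylow t H.G, (S : Subgroup H.G) ≤ H.St W → (S : Subgroup H.G) ≤ H.St A) →
      ¬ t ∣ Nat.card (H.K A) → ¬ t ∣ (H.K B).index ∧ t ∣ Nat.card (H.K B) := by
    intro t ht A B hA hAB hS1 hnd
    have htf : Fact t.Prime := ⟨(hπ t ht).1⟩
    obtain ⟨S, hS⟩ := hSt t ht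
    have h1 := sylow_le_K (hπ t ht).1 hA hnd S (hS1 S hS)
    rw [hAB] at h1
    exact ⟨fun hd => S.not_dvd_index (hd.trans (Subgroup.index_dvd_of_le h1)),
      (S.dvd_card_of_dvd_card (hdv t ht)).trans (Subgroup.card_dvd_of_le h1)⟩
  have hidx1 : ∀ t ∈ π, ¬ t ∣ Nat.card (H.K X) → ¬ t ∣ (H.K W).index ∧ t ∣ Nat.card (H.K W) :=
    fun t ht h => hidx t ht X W hXn hXp (fun S hS z hz => H.St_perp (hS hz)) h
  have hidx2 : ∀ t ∈ π, ¬ t ∣ Nat.card (H.K W) → ¬ t ∣ (H.K X).index ∧ t ∣ Nat.card (H.K X) :=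
    fun t ht h => hidx t ht W X hW.1 rfl (fun S hS => hS) h
  obtain ⟨T1, hT1W, hT1c, hT1i⟩ := exists_T hπ hc (W := W) (π₁ := {t | t ∈ π ∧ ¬ t ∣ Nat.card (H.K X)})
    (fun t ht => ht.1) ⟨p, hp, hnp⟩ (fun t ht =>
      at_of_dvd hπ hc hE hp ht.1 hW hW.1 le_rfl (hidx1 t ht.1 ht.2).2)
  obtain ⟨T2, hT2X, hT2c, hT2i⟩ := exists_T hπ hc (W := X) (π₁ := {t | t ∈ π ∧ ¬ t ∣ Nat.card (H.K W)})
    (fun t ht => ht.1) ⟨s, hs, hns⟩ (fun t ht =>
      at_of_dvd hπ hc hE hp ht.1 hW hXn hXW (hidx2 t ht.1 ht.2).2)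
  refine ⟨T1 ⊔ T2, sup_comm hT1c hT2c ?_, ?_⟩
  · intro a ha b hb
    exact (H.commute_of_le_perp hW.1 (le_refl _) (hT2X hb) (hT1W ha)).symm
  · intro t ht hd
    have htP := (hπ t ht).1
    by_cases h1 : t ∣ Nat.card (H.K X)
    · have h2 : ¬ t ∣ Nat.card (H.K W) := fun h => hnot t ht ⟨h, h1⟩
      have h3 := hd.trans (Subgroup.index_dvd_of_le (le_sup_right : T2 ≤ T1 ⊔ T2))
      rw [← Subgroup.relIndex_mul_index hT2X] at h3
      rcases htP.dvd_mul.1 h3 with h4 | h4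
      · exact hT2i t ⟨ht, h2⟩ h4
      · exact (hidx2 t ht h2).1 h4
    · have h3 := hd.trans (Subgroup.index_dvd_of_le (le_sup_left : T1 ≤ T1 ⊔ T2))
      rw [← Subgroup.relIndex_mul_index hT1W] at h3
      rcases htP.dvd_mul.1 h3 with h4 | h4
      · exact hT1i t ⟨ht, h1⟩ h4
      · exact (hidx1 t ht h1).1 h4

end

end FS

end Cfsg.Agent.H119.NHF
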