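import Cfsg.Agent.H119.NHAtom

/-!
# Permuting orthogonal copies (helper119)
-/

set_option autoImplicit false
set_option linter.unusedSectionVars false

namespace Cfsg.Agent.H119.NHF

open Module
open LinearMap (BilinForm)

universe u v w

variable {F : Type u} {V : Type v} [Field F] [AddCommGroup V] [Module F V]

namespace FS

/-- A family of pairwise orthogonal isometric copies of `W`. -/
structure Fam (H : FS F V) (W : Submodule F V) (ι : Type w) where
  /-- the embeddings -/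
  φ : ι → W →ₗ[F] V
  hB : ∀ i x y, H.B (φ i x) (φ i y) = H.B x y
  hBo : ∀ i j, i ≠ j → ∀ x y, H.B (φ i x) (φ j y) = 0
  hQ : ∀ i x, H.Q (φ i x) = H.Q x

variable {H : FS F V} {W : Submodule F V} {ι : Type w} [Fintype ι] [DecidableEq ι]

/-- The total embedding. -/
def Fam.tot (Z : Fam H W ι) : (ι → W) →ₗ[F] V := ∑ i, (Z.φ i).comp (LinearMap.proj i)

theorem Fam.tot_apply (Z : Fam H W ι) (f : ι → W) : Z.tot f = ∑ i, Z.φ i (f i) := by
  unfold Fam.tot
  rw [LinearMap.sum_apply]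
  rfl

theorem Fam.B_tot (Z : Fam H W ι) (f : ι → W) (j : ι) (y : W) : H.B (Z.tot f) (Z.φ j y) = H.B (f j) y := by
  rw [Fam.tot_apply, map_sum, LinearMap.sum_apply, Finset.sum_eq_single j]
  · exact Z.hB j _ _
  · intro i _ hij
    exact Z.hBo i j hij _ _
  · intro h
    exact absurd (Finset.mem_univ j) h

theorem Fam.B_tot_tot (Z : Fam H W ι) (f g : ι → W) : H.B (Z.tot f) (Z.tot g) = ∑ j, H.B (f j) (g j) := by
  rw [Fam.tot_apply Z g, map_sum]
  exact Finset.sum_congr rfl fun j _ => Z.B_tot f j (g j)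

theorem Q_zero (H : FS F V) : H.Q 0 = 0 := by
  have h := H.qadd 0 0 (by rw [map_zero])
  rw [add_zero] at h
  exact left_eq_add.1 h

theorem Fam.Q_tot (Z : Fam H W ι) (f : ι → W) : H.Q (Z.tot f) = ∑ j, H.Q (f j) := by
  rw [Fam.tot_apply]
  have key : ∀ s : Finset ι, H.Q (∑ i ∈ s, Z.φ i (f i)) = ∑ i ∈ s, H.Q (f i) := by
    intro s
    induction s using Finset.induction_on with
    | empty => simp [Q_zero]
    | insert a s ha ih =>
      rw [Finset.sum_insert ha, Finset.sum_insert ha, H.qadd, Z.hQ, ih]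
      rw [map_sum]
      apply Finset.sum_eq_zero
      intro i hi
      exact Z.hBo a i (fun h => ha (h ▸ hi)) _ _
  exact key _

theorem Fam.tot_injective (Z : Fam H W ι) (hW : H.Nd W) : Function.Injective Z.tot := by
  rw [← LinearMap.ker_eq_bot, LinearMap.ker_eq_bot']
  intro f hf
  funext j
  apply Subtype.ext
  refine (Submodule.disjoint_def.1 hW) _ (f j).2 ?_
  rw [mem_perp']
  intro y hy
  have := Z.B_tot f j ⟨y, hy⟩
  rw [hf, map_zero, LinearMap.zero_apply] at this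
  exact this.symm

/-- The span of the copies. -/
def Fam.R (Z : Fam H W ι) : Submodule F V := LinearMap.range Z.tot

theorem Fam.φ_mem (Z : Fam H W ι) (i : ι) (x : W) : Z.φ i x ∈ Z.R := by
  refine ⟨Pi.single i x, ?_⟩
  rw [Fam.tot_apply, Finset.sum_eq_single i]
  · rw [Pi.single_eq_same]
  · intro j _ hj
    rw [Pi.single_eq_of_ne hj, map_zero]
  · intro h
    exact absurd (Finset.mem_univ i) h

theorem Fam.tot_single (Z : Fam H W ι) (i : ι) (x : W) : Z.tot (Pi.single i x) = Z.φ i x := by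
  rw [Fam.tot_apply, Finset.sum_eq_single i]
  · rw [Pi.single_eq_same]
  · intro j _ hj
    rw [Pi.single_eq_of_ne hj, map_zero]
  · intro h
    exact absurd (Finset.mem_univ i) h

theorem Fam.mem_perp_R (Z : Fam H W ι) {z : V} : z ∈ H.perp Z.R ↔ ∀ i x, H.B (Z.φ i x) z = 0 := by
  rw [mem_perp]
  constructor
  · intro h i x
    exact h _ (Z.φ_mem i x)
  · rintro h _ ⟨f, rfl⟩
    rw [Fam.tot_apply, map_sum, LinearMap.sum_apply]
    exact Finset.sum_eq_zero fun i _ => h i _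

theorem Fam.nd_R (Z : Fam H W ι) (hW : H.Nd W) : H.Nd Z.R := by
  unfold Nd
  rw [Submodule.disjoint_def]
  rintro _ ⟨f, rfl⟩ hp
  have h1 : f = 0 := by
    funext j
    apply Subtype.ext
    refine (Submodule.disjoint_def.1 hW) _ (f j).2 ?_
    rw [mem_perp']
    intro y hy
    rw [← Z.B_tot f j ⟨y, hy⟩]
    exact H.refl _ _ (Z.mem_perp_R.1 hp j ⟨y, hy⟩)
  rw [h1, map_zero]

variable [FiniteDimensional F V]

/-- Permutations of the copies. -/
theorem Fam.exists_perm (Z : Fam H W ι) (hW : H.Nd W) (σ : Equiv.Perm ι) :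
    ∃ τ : H.G, (∀ i x, τ.1 (Z.φ i x) = Z.φ (σ i) x) ∧ ∀ z ∈ H.perp Z.R, τ.1 z = z := by
  let e : (ι → W) ≃ₗ[F] Z.R := LinearEquiv.ofInjective Z.tot (Z.tot_injective hW)
  let sh : (ι → W) ≃ₗ[F] (ι → W) := LinearEquiv.funCongrLeft F W σ.symm
  let t : Z.R ≃ₗ[F] Z.R := e.symm.trans (sh.trans e)
  have he : ∀ f, (e f : V) = Z.tot f := fun f => rfl
  have hsh : ∀ f j, sh f j = f (σ.symm j) := fun f j => rfl
  have ht : t ∈ H.IW Z.R := by
    constructor
    · intro x y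
      obtain ⟨f, rfl⟩ := e.surjective x
      obtain ⟨g, rfl⟩ := e.surjective y
      show H.B (e (sh (e.symm (e f))) : V) (e (sh (e.symm (e g))) : V) = H.B (e f : V) (e g : V)
      rw [e.symm_apply_apply, e.symm_apply_apply, he, he, he, he, Z.B_tot_tot, Z.B_tot_tot]
      simp only [hsh]
      exact Equiv.sum_comp σ.symm (fun j => H.B (f j : V) (g j : V))
    · intro x
      obtain ⟨f, rfl⟩ := e.surjective x
      show H.Q (e (sh (e.symm (e f))) : V) = H.Q (e f : V)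
      rw [e.symm_apply_apply, he, he, Z.Q_tot, Z.Q_tot]
      simp only [hsh]
      exact Equiv.sum_comp σ.symm (fun j => H.Q (f j : V))
  refine ⟨H.glueHom (Z.nd_R hW) ⟨t, ht⟩, ?_, fun z hz => H.glueHom_mem (Z.nd_R hW) ⟨t, ht⟩ z hz⟩
  intro i x
  have h1 := H.glueHom_apply (Z.nd_R hW) ⟨t, ht⟩ (e (Pi.single i x))
  have h2 : (e (Pi.single i x) : V) = Z.φ i x := by rw [he, Z.tot_single]
  rw [h2] at h1
  rw [h1]
  show (e (sh (e.symm (e (Pi.single i x)))) : V) = _
  rw [e.symm_apply_apply, he]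
  have h3 : sh (Pi.single i x) = Pi.single (σ i) x := by
    funext j
    rw [hsh]
    by_cases hj : j = σ i
    · subst hj
      rw [Equiv.symm_apply_apply, Pi.single_eq_same, Pi.single_eq_same]
    · rw [Pi.single_eq_of_ne hj, Pi.single_eq_of_ne]
      intro h
      apply hj
      rw [← h, Equiv.apply_symm_apply]
  rw [h3, Z.tot_single]

variable [Finite V]

theorem IL' {t : ℕ} (ht : t.Prime) {y x : H.G} {W : Submodule F V}
    (hSt : ∀ z : H.G, z * y = y * z → z ∈ H.St W)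
    (hc : ¬ t ∣ (Subgroup.centralizer ({y} : Set H.G)).index) (hx : x ∈ H.K W)
    (hxt : ∃ k : ℕ, orderOf x = t ^ k) :
    ∃ g ∈ H.St W, (g * x * g⁻¹) * y = y * (g * x * g⁻¹) := by
  have : Fact t.Prime := ⟨ht⟩
  obtain ⟨S, hS⟩ := NHG.exists_sylow_le _ hc
  have hSW : (S : Subgroup H.G) ≤ H.St W := by
    intro z hz
    exact hSt z (Subgroup.mem_centralizer_singleton_iff.1 (hS hz))
  obtain ⟨k, hk⟩ := hxt
  obtain ⟨g, hg, hgx⟩ := NHG.exists_conj_mem S hSW (H.K_le_St W hx) hk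
  exact ⟨g, hg, Subgroup.mem_centralizer_singleton_iff.1 (hS hgx)⟩

/-- An `s`-element of maximal order. -/
theorem exists_max_elt {G : Type w} [Group G] [Finite G] {s : ℕ} (hs : s.Prime) (K : Subgroup G)
    (hK : s ∣ Nat.card K) : ∃ a ∈ K, ∃ v : ℕ, orderOf a = s ^ (v + 1) ∧ ∀ b ∈ K, orderOf b ≠ s ^ (v + 2) := by
  have : Fact s.Prime := ⟨hs⟩
  classical
  have hex : ∃ v : ℕ, ¬ ∃ b ∈ K, orderOf b = s ^ (v + 2) := by
    refine ⟨Nat.card G, ?_⟩
    rintro ⟨b, -, hb⟩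
    have h1 : orderOf b ≤ Nat.card G := Nat.le_of_dvd Nat.card_pos (orderOf_dvd_natCard b)
    have h2 : Nat.card G + 2 < s ^ (Nat.card G + 2) := Nat.lt_pow_self hs.one_lt
    omega
  set v := Nat.find hex with hv
  have h1 := Nat.find_spec hex
  rw [← hv] at h1
  push Not at h1
  rcases Nat.eq_zero_or_pos v with h0 | hpos
  · obtain ⟨z, hz⟩ := exists_prime_orderOf_dvd_card' s hK
    refine ⟨z, z.2, v, ?_, h1⟩
    rw [Subgroup.orderOf_coe, hz, h0, zero_add, pow_one]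
  · have h2 := Nat.find_min hex (m := v - 1) (by omega)
    push Not at h2
    obtain ⟨a, ha, hao⟩ := h2
    refine ⟨a, ha, v, ?_, h1⟩
    rw [hao]
    congr 1
    omega

/-- **(D1)** There are no `s` pairwise orthogonal copies of an atom. -/
theorem no_fam {π : Set ℕ} (hπ : ∀ p ∈ π, p.Prime ∧ p ≠ 2 ∧ (p : F) ≠ 0) (hc : Cnd π H.G) {s p : ℕ} (hs : s ∈ π)
    (hp : p ∈ π) (hsp : s ≠ p) (hWs : H.At s W) (hWp : H.At p W) (Z : Fam H W (ZMod s))
    (h0 : ∀ x : W, Z.φ 0 x = x) : False := by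
  obtain ⟨hsP, -, hsF⟩ := hπ s hs
  obtain ⟨hpP, -, hpF⟩ := hπ p hp
  have hsf : Fact s.Prime := ⟨hsP⟩
  have hpf : Fact p.Prime := ⟨hpP⟩
  obtain ⟨τ, hτ, hτp⟩ := Z.exists_perm hWs.1 (Equiv.addRight (1 : ZMod s))
  have hτ' : ∀ i x, τ.1 (Z.φ i x) = Z.φ (i + 1) x := hτ
  obtain ⟨a, haW, v, hao, hamax⟩ := exists_max_elt hsP (H.K W) hWs.2.1
  have haS : ∀ x ∈ W, a.1 x ∈ W := fun x hx => St.mem H (H.K_le_St W haW) hx
  have hWR : W ≤ Z.R := by
    intro x hx
    have := Z.φ_mem 0 ⟨x, hx⟩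
    rwa [h0] at this
  have hRn := Z.nd_R hWs.1
  -- `a` is trivial on the other copies
  have ha1 : ∀ i : ZMod s, i ≠ 0 → ∀ x, a.1 (Z.φ i x) = Z.φ i x := by
    intro i hi x
    apply haW
    rw [mem_perp]
    intro w hw
    have := Z.hBo 0 i hi.symm ⟨w, hw⟩ x
    rwa [h0] at this
  set y : H.G := a * τ with hy
  have hyφ : ∀ i x, y.1 (Z.φ i x) = a.1 (Z.φ (i + 1) x) := by
    intro i x
    rw [← hτ']
    rfl
  have F1 : ∀ k : ℕ, k < s → ∀ x : W, (y ^ k).1 x = Z.φ (k : ZMod s) x := by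
    intro k
    induction k with
    | zero =>
      intro _ x
      rw [Nat.cast_zero, h0, pow_zero]
      rfl
    | succ k ih =>
      intro hk x
      rw [pow_succ']
      show y.1 ((y ^ k).1 x) = _
      rw [ih (by omega) x, hyφ, ha1]
      · rw [Nat.cast_succ]
      · rw [← Nat.cast_succ]
        intro h
        rw [ZMod.natCast_eq_zero_iff] at h
        exact absurd (Nat.le_of_dvd (by omega) h) (by omega)
  have F2 : ∀ x : W, (y ^ s).1 x = a.1 x := by
    intro x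
    obtain ⟨k, hk⟩ : ∃ k, s = k + 1 := ⟨s - 1, by have := hsP.pos; omega⟩
    have h1 : (y ^ s).1 x = y.1 ((y ^ k).1 x) := by
      rw [hk, pow_succ']
      rfl
    rw [h1, F1 k (by omega), hyφ]
    have h2 : (k : ZMod s) + 1 = 0 := by
      rw [← Nat.cast_succ, Nat.succ_eq_add_one, ← hk]
      exact ZMod.natCast_self s
    rw [h2, h0]
  have F3 : ∀ m : ℕ, ∀ x : W, ((y ^ s) ^ m).1 x = (a ^ m).1 x ∧ (a ^ m).1 x ∈ W := by
    intro m
    induction m with
    | zero => intro x; exact ⟨rfl, x.2⟩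
    | succ m ih =>
      intro x
      have h1 : ((y ^ s) ^ (m + 1)).1 x = ((y ^ s) ^ m).1 ((y ^ s).1 x) := by rw [pow_succ]; rfl
      have h2 : (a ^ (m + 1)).1 x = (a ^ m).1 (a.1 x) := by rw [pow_succ]; rfl
      rw [h1, h2, F2]
      exact ih ⟨a.1 x, haS x x.2⟩
  have F4 : ∀ m : ℕ, ∀ i : ZMod s, ∀ x : W, ((y ^ s) ^ m).1 (Z.φ i x) = Z.φ i ⟨(a ^ m).1 x, (F3 m x).2⟩ := by
    intro m i x
    have hi : ((i.val : ℕ) : ZMod s) = i := ZMod.natCast_zmod_val i
    have hlt : i.val < s := ZMod.val_lt i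
    have h1 := F1 i.val hlt x
    have h2 := F1 i.val hlt ⟨(a ^ m).1 x, (F3 m x).2⟩
    rw [hi] at h1 h2
    rw [← h1, ← h2]
    show ((y ^ s) ^ m * y ^ i.val).1 x = _
    have hcomm : (y ^ s) ^ m * y ^ i.val = y ^ i.val * (y ^ s) ^ m := by
      rw [← pow_mul, ← pow_add, ← pow_add, add_comm]
    rw [hcomm]
    exact congrArg (y ^ i.val).1 (F3 m x).1
  have F5 : ∀ z ∈ H.perp Z.R, y.1 z = z := by
    intro z hz
    show a.1 (τ.1 z) = z
    rw [hτp z hz]
    exact haW z (H.perp_le hWR hz)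
  have F6 : ∀ m : ℕ, ∀ z ∈ H.perp Z.R, ((y ^ s) ^ m).1 z = z := by
    intro m z hz
    rw [← pow_mul]
    exact H.pow_apply_fix (F5 z hz) _
  have F7 : ∀ m : ℕ, ∀ f : ZMod s → W,
      ((y ^ s) ^ m).1 (Z.tot f) = Z.tot (fun i => ⟨(a ^ m).1 (f i), (F3 m (f i)).2⟩) := by
    intro m f
    rw [Fam.tot_apply, Fam.tot_apply, map_sum]
    exact Finset.sum_congr rfl fun i _ => F4 m i (f i)
  -- the order of `y`
  have hy1 : y ^ s ^ (v + 2) = 1 := by
    have h1 : y ^ s ^ (v + 2) = (y ^ s) ^ s ^ (v + 1) := by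
      rw [← pow_mul]
      congr 1
      ring
    rw [h1]
    have ha2 : a ^ s ^ (v + 1) = 1 := by rw [← hao, pow_orderOf_eq_one]
    apply Subtype.ext
    ext z
    obtain ⟨r, ⟨f, rfl⟩, r', hr', rfl⟩ := H.exists_add hRn z
    rw [map_add, F6 _ _ hr', F7]
    congr 1
    congr 1
    funext i
    apply Subtype.ext
    show (a ^ s ^ (v + 1)).1 (f i) = f i
    rw [ha2]
    rfl
  have hyp : ∃ k : ℕ, orderOf y = s ^ k := pe_of_pow hsP hy1
  -- the fixed space of `Y`
  set Y : H.G := (y ^ s) ^ s ^ v with hY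
  have ham : a ^ s ^ v ≠ 1 := by
    intro h
    have h2 := orderOf_dvd_of_pow_eq_one h
    rw [hao] at h2
    exact absurd ((Nat.pow_dvd_pow_iff_le_right hsP.one_lt).1 h2) (by omega)
  have hamp : ∃ k : ℕ, orderOf (a ^ s ^ v) = s ^ k := by
    refine pe_of_pow hsP (n := 1) ?_
    rw [← pow_mul, pow_one]
    have : s ^ v * s = s ^ (v + 1) := by ring
    rw [this, ← hao, pow_orderOf_eq_one]
  have hafix := hWs.fix_eq hsF ((H.K W).pow_mem haW (s ^ v)) hamp ham
  have hYfix : fix Y.1 = H.perp Z.R := by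
    apply le_antisymm
    · intro z hz
      obtain ⟨r, ⟨f, rfl⟩, r', hr', rfl⟩ := H.exists_add hRn z
      rw [mem_fix, map_add, hY, F6 _ _ hr', F7] at hz
      have h1 := Z.tot_injective hWs.1 (add_right_cancel hz)
      have h2 : f = 0 := by
        funext i
        have h3 : (a ^ s ^ v).1 (f i) = f i := congrArg Subtype.val (congrFun h1 i)
        have h4 : (f i : V) ∈ H.perp W := by
          rw [← hafix]
          exact h3
        apply Subtype.ext
        exact (Submodule.disjoint_def.1 hWs.1) _ (f i).2 h4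
      rw [h2, map_zero, zero_add]
      exact hr'
    · intro z hz
      exact F6 _ z hz
  have hSt : ∀ z : H.G, z * y = y * z → z ∈ H.St Z.R := by
    intro z hz
    refine H.commute_St hYfix ?_
    have h1 : Commute z y := hz
    exact (h1.pow_right s).pow_right (s ^ v)
  obtain ⟨x, hxo⟩ := exists_prime_orderOf_dvd_card' p hWp.2.1
  have hxo' : orderOf (x : H.G) = p := by rw [Subgroup.orderOf_coe, hxo]
  have hxp : ∃ k : ℕ, orderOf (x : H.G) = p ^ k := ⟨1, by rw [hxo', pow_one]⟩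
  have hx1 : (x : H.G) ≠ 1 := by
    intro h
    rw [h, orderOf_one] at hxo'
    exact hpP.one_lt.ne hxo'
  obtain ⟨g, hg, hgx⟩ := IL' hpP hSt (hc s hs p hp hsp y hyp) (H.K_mono hWR x.2) hxp
  set W' := W.map (g.1 : V →ₗ[F] V) with hW'
  have hW's : H.At s W' := hWs.map g
  have hW'p : H.At p W' := hWp.map g
  have hx' : g * x * g⁻¹ ∈ H.K W' := H.conj_mem_K x.2
  have hx'1 : g * x * g⁻¹ ≠ 1 := by
    intro h
    apply hx1
    exact conj_eq_one_iff.1 h
  have hyS : y ∈ H.St W' := H.commute_St (hW'p.fix_eq hpF hx' (pe_conj g hxp) hx'1) hgx.symm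
  have hW'R : W' ≤ Z.R := by
    rw [hW', ← H.mem_St.1 hg]
    exact Submodule.map_mono hWR
  set b := H.part hW's.1 ⟨y, hyS⟩ with hb
  have hbW : b ∈ H.K W' := H.part_mem _ _
  have hb1 : b ^ s ^ (v + 2) = 1 := by
    rw [hb, ← map_pow]
    have : (⟨y, hyS⟩ : H.St W') ^ s ^ (v + 2) = 1 := Subtype.ext hy1
    rw [this, map_one]
  have hb2 : ¬ b ^ s ^ (v + 1) = 1 := by
    intro h
    have h1 : ∀ z ∈ W', Y.1 z = z := by
      intro z hz
      have h2 : Y = y ^ s ^ (v + 1) := by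
        rw [hY, ← pow_mul]
        congr 1
        ring
      have h3 := H.part_apply hW's.1 ((⟨y, hyS⟩ : H.St W') ^ s ^ (v + 1)) hz
      rw [map_pow, ← hb, h] at h3
      rw [h2]
      exact h3.symm
    obtain ⟨z, hz, hz2⟩ := disj_of_le hRn hW'R (hW's.ne_bot hsP) hYfix
    exact hz2 (h1 z hz)
  have hbo : orderOf b = s ^ (v + 2) := orderOf_eq_prime_pow hb2 hb1
  -- transport to `W`
  let ψ := Isom.symm (isomMap g W)
  have h5 : orderOf (Isom.tr H ψ hWs.1 ⟨b, hbW⟩) = s ^ (v + 2) := by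
    rw [orderOf_injective _ (Isom.tr_injective H hW's.1 ψ hWs.1), Subgroup.orderOf_mk, hbo]
  exact hamax _ (Isom.tr_mem H ψ hWs.1 ⟨b, hbW⟩) h5

end FS

end Cfsg.Agent.H119.NHF
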