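import Cfsg.Agent.H119.NHFinal

/-!
# Transfer of the class size condition (helper119)
-/

set_option autoImplicit false

namespace Cfsg.Agent.H119.NHF

universe u v w

section

variable {π : Set ℕ} {G : Type w} [Group G]

theorem Cnd.congr {X : Type u} {Y : Type v} [Group X] [Group Y] (e : X ≃* Y) (h : Cnd π X) : Cnd π Y := by
  intro p hp q hq hpq y hy hd
  obtain ⟨x, rfl⟩ := e.surjective y
  refine h p hp q hq hpq x ?_ ?_
  · obtain ⟨k, hk⟩ := hy
    exact ⟨k, by rw [← hk, MulEquiv.orderOf_eq]⟩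
  · have h1 : Subgroup.centralizer ({e x} : Set Y) = (Subgroup.centralizer ({x} : Set X)).map (e : X →* Y) := by
      ext z
      rw [Subgroup.mem_centralizer_singleton_iff, Subgroup.mem_map]
      constructor
      · intro hz
        refine ⟨e.symm z, ?_, by simp⟩
        rw [Subgroup.mem_centralizer_singleton_iff]
        apply e.injective
        simp [hz]
      · rintro ⟨w, hw, rfl⟩
        rw [Subgroup.mem_centralizer_singleton_iff] at hw
        show e w * e x = e x * e w
        rw [← map_mul, ← map_mul, hw]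
    rwa [h1, Subgroup.index_map_equiv] at hd

/-- From the quotient by the centre. -/
theorem Cnd.of_center (hπ : ∀ p ∈ π, p.Prime) (hZ : ∀ p ∈ π, ∀ z ∈ Subgroup.center G, ∀ k : ℕ, z ^ p ^ k = 1 → z = 1)
    (h : Cnd π (G ⧸ Subgroup.center G)) : Cnd π G := by
  intro p hp q hq hpq x hx hd
  obtain ⟨k, hk⟩ := hx
  have hk1 : x ^ p ^ k = 1 := by rw [← hk, pow_orderOf_eq_one]
  have h1 : ∃ k : ℕ, orderOf (QuotientGroup.mk' (Subgroup.center G) x) = p ^ k := by
    refine pe_of_pow (hπ p hp) (n := k) ?_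
    rw [← map_pow, hk1, map_one]
  refine h p hp q hq hpq _ h1 ?_
  have h2 : (Subgroup.centralizer ({QuotientGroup.mk' (Subgroup.center G) x} : Set (G ⧸ Subgroup.center G))).comap
      (QuotientGroup.mk' (Subgroup.center G)) = Subgroup.centralizer ({x} : Set G) := by
    ext g
    rw [Subgroup.mem_comap, Subgroup.mem_centralizer_singleton_iff, Subgroup.mem_centralizer_singleton_iff]
    constructor
    · intro hg
      rw [← map_mul, ← map_mul] at hg
      have h3 : (x * g)⁻¹ * (g * x) ∈ Subgroup.center G := by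
        rw [← QuotientGroup.eq]
        exact hg.symm
      set z := (x * g)⁻¹ * (g * x) with hz
      have h4 : g * x = x * g * z := by rw [hz, mul_inv_cancel_left]
      have h5 : g * x * g⁻¹ = x * z := by
        rw [h4, mul_assoc x g z, (Subgroup.mem_center_iff.1 h3 g), ← mul_assoc, mul_inv_cancel_right]
      have h6 : (x * z) ^ p ^ k = 1 := by
        rw [← h5, conj_pow, hk1, mul_one, mul_inv_cancel]
      have h7 : Commute x z := Subgroup.mem_center_iff.1 h3 x
      rw [h7.mul_pow, hk1, one_mul] at h6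
      have h8 := hZ p hp z h3 k h6
      rw [h4, h8, mul_one]
    · intro hg
      rw [← map_mul, ← map_mul, hg]
  rw [← h2, Subgroup.index_comap_of_surjective _ (QuotientGroup.mk'_surjective _)] at hd
  exact hd

/-- From a normal subgroup of index prime to `π`. -/
theorem Cnd.of_normal [Finite G] (hπ : ∀ p ∈ π, p.Prime) (N : Subgroup G) [N.Normal]
    (hN : ∀ p ∈ π, ¬ p ∣ N.index) (h : Cnd π N) : Cnd π G := by
  intro p hp q hq hpq x hx hd
  obtain ⟨k, hk⟩ := hx
  have hk1 : x ^ p ^ k = 1 := by rw [← hk, pow_orderOf_eq_one]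
  have hxN : x ∈ N := by
    rw [← QuotientGroup.eq_one_iff (N := N)]
    have h1 : orderOf (x : G ⧸ N) ∣ p ^ k := orderOf_dvd_of_pow_eq_one (by
      rw [← QuotientGroup.mk_pow, hk1, QuotientGroup.mk_one])
    have h2 : orderOf (x : G ⧸ N) ∣ N.index := by
      rw [Subgroup.index]
      exact orderOf_dvd_natCard _
    have h3 : Nat.Coprime (p ^ k) N.index :=
      Nat.Coprime.pow_left k (((hπ p hp).coprime_iff_not_dvd).2 (hN p hp))
    have h4 := Nat.dvd_gcd h1 h2
    rw [h3.gcd_eq_one] at h4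
    exact orderOf_eq_one_iff.1 (Nat.dvd_one.1 h4)
  refine h p hp q hq hpq ⟨x, hxN⟩ ⟨k, by rw [Subgroup.orderOf_mk, hk]⟩ ?_
  have h1 : (Subgroup.centralizer ({⟨x, hxN⟩} : Set N)).map N.subtype ≤ Subgroup.centralizer ({x} : Set G) := by
    rintro _ ⟨w, hw, rfl⟩
    have := Subgroup.mem_centralizer_singleton_iff.1 hw
    rw [Subgroup.mem_centralizer_singleton_iff]
    exact congrArg Subtype.val this
  have h2 := hd.trans (Subgroup.index_dvd_of_le h1)
  rw [Subgroup.index_map_subtype] at h2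
  exact ((hπ q hq).dvd_mul.1 h2).resolve_right (hN q hq)

end

/-- The general transfer theorem. -/
theorem transfer {G : Type w} [Group G] [Finite G] (N : Subgroup G) [N.Normal] {π : Set ℕ}
    (hπ : ∀ p ∈ π, p.Prime ∧ p ∣ Nat.card (N ⧸ Subgroup.center N))
    (hN : ∀ p ∈ π, ¬ p ∣ N.index)
    (hZ : ∀ p ∈ π, ∀ z ∈ Subgroup.center N, ∀ k : ℕ, z ^ p ^ k = 1 → z = 1)
    (hc : Cnd π (N ⧸ Subgroup.center N))
    (hG : (∀ p ∈ π, p ∣ Nat.card G) → Cnd π G →
      ∃ T : Subgroup G, (∀ a ∈ T, ∀ b ∈ T, a * b = b * a) ∧ ∀ t ∈ π, ¬ t ∣ T.index) :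
    ∃ T : Subgroup (N ⧸ Subgroup.center N), IsMulCommutative T ∧ ∀ p ∈ π, ¬ p ∣ T.index := by
  have hπ' : ∀ p ∈ π, p.Prime := fun p hp => (hπ p hp).1
  have h1 : Cnd π G := (hc.of_center hπ' hZ).of_normal hπ' N hN
  obtain ⟨T, hT, hTi⟩ := hG (fun p hp => (hπ p hp).2.trans
    ((Subgroup.card_quotient_dvd_card _).trans (Subgroup.card_subgroup_dvd_card N))) h1
  refine ⟨(T.subgroupOf N).map (QuotientGroup.mk' (Subgroup.center N)), ?_, ?_⟩
  · constructor
    constructor
    rintro ⟨_, a, ha, rfl⟩ ⟨_, b, hb, rfl⟩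
    apply Subtype.ext
    show QuotientGroup.mk' (Subgroup.center N) a * QuotientGroup.mk' (Subgroup.center N) b
      = QuotientGroup.mk' (Subgroup.center N) b * QuotientGroup.mk' (Subgroup.center N) a
    rw [← map_mul, ← map_mul]
    congr 1
    exact Subtype.ext (hT _ ha _ hb)
  · intro p hp hd
    have h2 := Subgroup.index_map_dvd (T.subgroupOf N) (QuotientGroup.mk'_surjective (Subgroup.center N))
    exact hTi p hp ((hd.trans h2).trans (NHG.relIndex_dvd_index T N))

/-- The version without a normal subgroup. -/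
theorem transfer' {G : Type w} [Group G] [Finite G] {π : Set ℕ}
    (hπ : ∀ p ∈ π, p.Prime ∧ p ∣ Nat.card (G ⧸ Subgroup.center G))
    (hZ : ∀ p ∈ π, ∀ z ∈ Subgroup.center G, ∀ k : ℕ, z ^ p ^ k = 1 → z = 1)
    (hc : Cnd π (G ⧸ Subgroup.center G))
    (hG : (∀ p ∈ π, p ∣ Nat.card G) → Cnd π G →
      ∃ T : Subgroup G, (∀ a ∈ T, ∀ b ∈ T, a * b = b * a) ∧ ∀ t ∈ π, ¬ t ∣ T.index) :
    ∃ T : Subgroup (G ⧸ Subgroup.center G), IsMulCommutative T ∧ ∀ p ∈ π, ¬ p ∣ T.index := by
  have hπ' : ∀ p ∈ π, p.Prime := fun p hp => (hπ p hp).1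
  obtain ⟨T, hT, hTi⟩ := hG (fun p hp => (hπ p hp).2.trans (Subgroup.card_quotient_dvd_card _))
    (hc.of_center hπ' hZ)
  refine ⟨T.map (QuotientGroup.mk' (Subgroup.center G)), ?_, ?_⟩
  · constructor
    constructor
    rintro ⟨_, a, ha, rfl⟩ ⟨_, b, hb, rfl⟩
    apply Subtype.ext
    show QuotientGroup.mk' (Subgroup.center G) a * QuotientGroup.mk' (Subgroup.center G) b
      = QuotientGroup.mk' (Subgroup.center G) b * QuotientGroup.mk' (Subgroup.center G) a
    rw [← map_mul, ← map_mul, hT _ ha _ hb]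
  · intro p hp hd
    exact hTi p hp (hd.trans (Subgroup.index_map_dvd T (QuotientGroup.mk'_surjective (Subgroup.center G))))

end Cfsg.Agent.H119.NHF
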