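import Cfsg.Agent.H483.Rad23.Base
import Cfsg.Agent.SporadicA.M11Facts
import Cfsg.Agent.SectRankFour.AutM11
import Cfsg.Agent.UGT.End.MEleven
import Cfsg.Agent.OddHalf.D4.Spor.M2223
import Cfsg.Agent.OddHalf.D9.M22.EDataM22
import Cfsg.Agent.KFacts.MM.OutAut
import Cfsg.Agent.CoThreeStd.AutInv
import Cfsg.Agent.OddHalf.D4.Spor.MTwentyFour
import Cfsg.Agent.J4.M24Invol
import Cfsg.Agent.NotCT.Orders
import Cfsg.Agent.H959.Rad3.Iface

/-!
# Radical automorphisms of order two of the Mathieu groups (helper119, task 1544, S3832 / S4336)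

`Bad x`: some commutator `x a * a⁻¹` has order divisible by a prime `≥ 5` (so `TT x` fails).
-/

set_option autoImplicit false

namespace Cfsg.Agent.H119.RadM

open Subgroup Cfsg Cfsg.Agent.H459.Rad Cfsg.Agent.H459.Iface Cfsg.Agent.H459.Gallery Cfsg.Agent.H483.Rad23

section Gen

variable {K : Type*} [Group K]

/-- some commutator has order divisible by a prime at least five -/
def Bad (x : MulAut K) : Prop := ∃ (a : K) (l : ℕ), l.Prime ∧ 5 ≤ l ∧ l ∣ orderOf (x a * a⁻¹)

theorem Bad.conj {x : MulAut K} (h : Bad x) (φ : MulAut K) : Bad (φ * x * φ⁻¹) := by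
  obtain ⟨a, l, hl, h5, hd⟩ := h
  refine ⟨φ a, l, hl, h5, ?_⟩
  have e : (φ * x * φ⁻¹) (φ a) * (φ a)⁻¹ = φ (x a * a⁻¹) := by
    rw [MulAut.mul_apply, MulAut.mul_apply, MulAut.inv_apply_self, map_mul, map_inv]
  rw [e, MulEquiv.orderOf_eq]
  exact hd

/-- conjugate elements -/
theorem Bad.inner {s t : K} (h : Bad (MulAut.conj s)) (hst : IsConj s t) : Bad (MulAut.conj t) := by
  obtain ⟨g, hg⟩ := isConj_iff.1 hst
  have e : MulAut.conj t = MulAut.conj g * MulAut.conj s * (MulAut.conj g)⁻¹ := by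
    rw [← hg, map_mul, map_mul, map_inv]
  rw [e]
  exact h.conj _

theorem Bad.false [Finite K] {x : MulAut K} (h : Bad x) (hc : center K = ⊥) (hT : TT x) : False := by
  obtain ⟨a, l, hl, h5, hd⟩ := h
  exact hT.not_dvd hc hl h5 a hd

theorem center_bot [Finite K] [IsSimpleGroup K] (h : ¬ (Nat.card K).Prime) : center K = ⊥ := by
  rcases (inferInstance : (center K).Normal).eq_bot_or_eq_top with h1 | h1
  · exact h1
  · exfalso
    apply h
    let _ : CommGroup K := { mul_comm := fun a b => mem_center_iff.1 (h1 ▸ mem_top b : b ∈ center K) a }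
    exact IsSimpleGroup.prime_card

/-- all involutory automorphisms are bad -/
theorem row_of_bad [Finite K] (hc : center K = ⊥) (h : ∀ x : MulAut K, orderOf x = 2 → Bad x) : Row23 2 K :=
  fun x hx _ _ hT => (h x hx).false hc hT

theorem row_of_inner [Finite K] (hc : center K = ⊥) (hin : ∀ x : MulAut K, ∃ g : K, x = MulAut.conj g)
    (h : ∀ t : K, t * t = 1 → t ≠ 1 → Bad (MulAut.conj t)) : Row23 2 K := by
  refine row_of_bad hc fun x hx => ?_
  obtain ⟨t, rfl⟩ := hin x
  rw [orderOf_injective _ (H839.Rad.conj_injective hc)] at hx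
  exact h t (by rw [← pow_two, ← hx, pow_orderOf_eq_one]) (fun e => by rw [e, orderOf_one] at hx; omega)

end Gen

/-! ### `M11` -/

theorem row2_m11 {K : Type*} [Group K] [Finite K] [IsSimpleGroup K] (h : Cfsg.Spor.IsoM11 K) : Row23 2 K := by
  have hM : IsM11 K := Cfsg.Agent.UGT.End.MEleven.isM11 h
  have hc : center K = ⊥ := center_bot (by rw [hM.2]; norm_num)
  have hfive : Fact (Nat.Prime 5) := ⟨by norm_num⟩
  obtain ⟨y, hy⟩ := exists_prime_orderOf_dvd_card' (G := K) 5 (by rw [hM.2]; norm_num)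
  obtain ⟨c, hcy⟩ := isConj_iff.1 (Cfsg.Agent.SporadicA.M11Facts.isConj_five hM hy)
  have hy5 : y ^ 5 = 1 := by rw [← hy, pow_orderOf_eq_one]
  -- `g = c ^ 2` inverts `y`
  set g := c * c with hg
  have h1 : g * y * g⁻¹ = y⁻¹ := by
    have e : g * y * g⁻¹ = c * (c * y * c⁻¹) * c⁻¹ := by rw [hg]; group
    rw [e, hcy]
    have e2 : c * y ^ 2 * c⁻¹ = (c * y * c⁻¹) ^ 2 := by rw [conj_pow]
    rw [e2, hcy]
    apply eq_inv_of_mul_eq_one_left
    rw [← hy5]; group
  have h2 : g * g * y = y * (g * g) := by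
    have e : g * (g * y * g⁻¹) * g⁻¹ = y := by
      rw [h1]
      have : g * y⁻¹ * g⁻¹ = (g * y * g⁻¹)⁻¹ := by group
      rw [this, h1, inv_inv]
    calc g * g * y = (g * (g * y * g⁻¹) * g⁻¹) * (g * g) := by group
      _ = y * (g * g) := by rw [e]
  have h3 : (g * g) ^ 5 = 1 := by
    have hmem : g * g ∈ centralizer ({y} : Set K) := mem_centralizer_singleton_iff.2 h2
    have h4 := Subgroup.orderOf_dvd_natCard _ hmem
    rw [Cfsg.Agent.SporadicA.M11Facts.card_centralizer_five hM hy] at h4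
    exact orderOf_dvd_iff_pow_eq_one.1 h4
  set t := g ^ 5 with ht
  have h4 : t * t = 1 := by rw [ht, ← h3, ← pow_two g, ← pow_mul, ← pow_add]
  have h5 : t * y * t⁻¹ = y⁻¹ := by
    have e1 : (g * g) * (g * g) * y = y * ((g * g) * (g * g)) := by
      rw [mul_assoc (g * g), h2, ← mul_assoc, h2, mul_assoc]
    have e2 : t = g * ((g * g) * (g * g)) := by rw [ht]; simp only [pow_succ, pow_zero, one_mul, mul_assoc]
    have e3 : t * y = y⁻¹ * t := by
      rw [e2, mul_assoc, e1]
      calc g * (y * (g * g * (g * g))) = (g * y * g⁻¹) * (g * (g * g * (g * g))) := by group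
        _ = _ := by rw [h1]
    rw [e3, mul_inv_cancel_right]
  have h6 : t ≠ 1 := by
    intro e
    rw [e] at h5
    have : y * y = 1 := by
      have h7 : y = y⁻¹ := by simpa using h5
      nth_rewrite 2 [h7]
      exact mul_inv_cancel y
    have h8 := Nat.le_of_dvd (by norm_num) (orderOf_dvd_of_pow_eq_one (by rw [pow_two]; exact this : y ^ 2 = 1))
    omega
  have h7 : orderOf t = 2 := orderOf_eq_prime (by rw [pow_two, h4]) h6
  have hbad : Bad (MulAut.conj t) := by
    refine ⟨y, 5, by norm_num, le_rfl, ?_⟩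
    rw [MulAut.conj_apply, h5]
    have e : y⁻¹ * y⁻¹ = (y ^ 2)⁻¹ := by group
    rw [e, orderOf_inv, orderOf_pow, hy]
    norm_num
  refine row_of_inner hc (fun x => Cfsg.Agent.SectRankFour.AutM11.exists_conj hM x) fun s hs hs1 => ?_
  exact hbad.inner (Cfsg.Agent.SporadicA.M11Facts.isConj_involutions hM h7
    (orderOf_eq_prime (by rw [pow_two, hs]) hs1))

/-! ### `M12` -/

section MTwelve

open Cfsg.Agent.CoThreeStd.MTwelve (H y p r inv_class)
open Cfsg.Agent.CoThreeStd.AutWord Cfsg.Agent.CoThreeStd.AutGamma Cfsg.Agent.CoThreeStd.AutClass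
open Cfsg.Agent.CoThreeStd.AutInv (outer_conj)

/-- the order of a word -/
theorem orderOf_wg {w : List ℕ} {l : ℕ} (hl : l.Prime) (h1 : eqG (List.replicate l w).flatten [] = true)
    (h2 : eqG w [] = false) : orderOf (wg w) = l := by
  have := Fact.mk hl
  have h3 : ∀ n : ℕ, wg (List.replicate n w).flatten = wg w ^ n := by
    intro n
    induction n with
    | zero => simp [wg_nil]
    | succ n ih => rw [List.replicate_succ, List.flatten_cons, wg_append, ih, pow_succ']
  apply orderOf_eq_prime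
  · rw [← h3, wg_eq h1, wg_nil]
  · intro h
    have h4 := eqG_of (l := w) (l' := []) (by rw [h, wg_nil])
    rw [h2] at h4
    cases h4

theorem bad_au {w m : List ℕ} (hm : pur m = true) {l : ℕ} (hl : l.Prime) (h5 : 5 ≤ l)
    (h1 : eqG (List.replicate l (w ++ (m ++ (wi w ++ wi m)))).flatten [] = true)
    (h2 : eqG (w ++ (m ++ (wi w ++ wi m))) [] = false) : Bad (au w) := by
  refine ⟨wh m, l, hl, h5, ?_⟩
  have h3 := orderOf_wg hl h1 h2
  have e : ((au w (wh m) * (wh m)⁻¹ : H) : Equiv.Perm GolayPt) = wg (w ++ (m ++ (wi w ++ wi m))) := by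
    rw [wg_append, wg_append, wg_append, wg_wi, wg_wi, wg_pur hm]
    change (au w (wh m) : Equiv.Perm GolayPt) * ((wh m : H) : Equiv.Perm GolayPt)⁻¹ = _
    rw [au_apply]
    group
  rw [← Subgroup.orderOf_coe, e, h3]

theorem bad_y : Bad (au [0]) := bad_au (m := [5]) (l := 5) rfl (by norm_num) le_rfl (by decide +kernel) (by decide +kernel)
theorem bad_pr : Bad (au [1, 3]) :=
  bad_au (m := [5]) (l := 5) rfl (by norm_num) le_rfl (by decide +kernel) (by decide +kernel)
theorem bad_c : Bad (au [6]) := bad_au (m := [5]) (l := 5) rfl (by norm_num) le_rfl (by decide +kernel) (by decide +kernel)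

theorem row2_m12 {K : Type*} [Group K] [Finite K] [IsSimpleGroup K] (h : Cfsg.Spor.IsoM12 K) : Row23 2 K := by
  have hn := NotCT.Orders.m12 h
  obtain ⟨e⟩ := h
  have hn' : Nat.card Spor.M12 = 95040 := by rw [← hn, Nat.card_congr e.toEquiv]
  have : Finite Spor.M12 := Finite.of_equiv K e.toEquiv
  have hs : IsSimpleGroup Spor.M12 := e.symm.isSimpleGroup
  refine Row23.congr e (row_of_bad (center_bot (by rw [hn']; norm_num)) fun v hv => ?_)
  have hvv : v * v = 1 := by rw [← pow_two, ← hv, pow_orderOf_eq_one]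
  have hv1 : v ≠ 1 := fun h => by rw [h, orderOf_one] at hv; omega
  by_cases hin : v ∈ Cfsg.Agent.CoThreeStd.AutClass.Inn
  · obtain ⟨t, rfl⟩ := hin
    have ht1 : t ≠ 1 := by
      rintro rfl
      exact hv1 (map_one _)
    have ht2 : t * t = 1 := by
      rw [← map_mul] at hvv
      exact conj_inj (by rw [hvv, map_one])
    rcases inv_class t ht1 ht2 with ⟨m, rfl⟩ | ⟨m, rfl⟩
    · have h1 : Bad (MulAut.conj y) := by
        have := bad_y
        rwa [au_pur rfl, wh_y] at this
      exact h1.inner (isConj_iff.2 ⟨m⁻¹, by rw [inv_inv]⟩)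
    · have h1 : Bad (MulAut.conj (p * r)) := by
        have := bad_pr
        rw [au_pur rfl] at this
        rwa [Cfsg.Agent.CoThreeStd.AutStruct.wh_pr] at this
      exact h1.inner (isConj_iff.2 ⟨m⁻¹, by rw [inv_inv]⟩)
  · obtain ⟨m, rfl⟩ := outer_conj hin hvv
    exact Bad.conj bad_c _

end MTwelve

/-! ### Words in packed permutations -/

section Words

open Cfsg.Agent.SporadicA.GolayBase Cfsg.Agent.SporadicA.GolayPerm
open Cfsg.Agent.KFacts.MM.El

theorem pr_replicate (n : ℕ) (w : List ℕ) : pr (List.replicate n w).flatten = pr w ^ n := by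
  induction n with
  | zero => simp [pr_nil]
  | succ n ih => rw [List.replicate_succ, List.flatten_cons, pr_append, ih, pow_succ']

theorem okl_replicate (n : ℕ) {w : List ℕ} (h : okl w = true) : okl (List.replicate n w).flatten = true := by
  unfold okl at h ⊢
  rw [List.all_eq_true] at h ⊢
  intro x hx
  rw [List.mem_flatten] at hx
  obtain ⟨l, hl, hxl⟩ := hx
  rw [List.eq_of_mem_replicate hl] at hxl
  exact h x hxl

theorem pr_pow {w : List ℕ} {n : ℕ} (h : okl w = true) (h1 : weq (List.replicate n w).flatten [] = true) :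
    pr w ^ n = 1 := by
  rw [← pr_replicate, pr_of_weq (okl_replicate n h) rfl h1, pr_nil]

theorem orderOf_pr {w : List ℕ} {l : ℕ} (hl : l.Prime) (h : okl w = true)
    (h1 : weq (List.replicate l w).flatten [] = true) (h2 : weq w [] = false) : orderOf (pr w) = l := by
  have := Fact.mk hl
  exact orderOf_eq_prime (pr_pow h h1) (by rw [← pr_nil]; exact pr_ne h rfl h2)

theorem pm_inv {C D : ℕ} (h : okl [C, D] = true) (h1 : weq [C, D] [] = true) : (pm C)⁻¹ = pm D := by
  have h2 := pr_of_weq h rfl h1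
  rw [pr_cons, pr_one, pr_nil] at h2
  exact inv_eq_of_mul_eq_one_right h2

/-- the checks for a bad commutator -/
def chk (P C D l : ℕ) : Bool :=
  okl [P, C, P, D] && weq [P, P] [] && weq [C, D] [] && weq (List.replicate l [P, C, P, D]).flatten [] &&
    !weq [P, C, P, D] []

theorem chk_order {P C D l : ℕ} (hl : l.Prime) (h : chk P C D l = true) :
    orderOf (pm P * pm C * (pm P)⁻¹ * (pm C)⁻¹) = l := by
  unfold chk at h
  simp only [Bool.and_eq_true, Bool.not_eq_true'] at h
  obtain ⟨⟨⟨⟨h1, h2⟩, h3⟩, h4⟩, h5⟩ := h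
  have k : isPerm P = true ∧ isPerm C = true ∧ isPerm D = true := by
    obtain ⟨a, b⟩ := okl_cons h1
    obtain ⟨b, c⟩ := okl_cons b
    obtain ⟨_, d⟩ := okl_cons c
    exact ⟨a, b, (okl_cons d).1⟩
  have kPP : okl [P, P] = true := by simp [okl, k.1]
  have kCD : okl [C, D] = true := by simp [okl, k.2.1, k.2.2]
  rw [pm_inv kPP h2, pm_inv kCD h3]
  have e : pm P * pm C * pm P * pm D = pr [P, C, P, D] := by
    rw [pr_cons, pr_cons, pr_cons, pr_one]
    group
  rw [e]
  exact orderOf_pr hl h1 h4 h5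

/-- a bad inner automorphism -/
theorem bad_conj {H : Subgroup (Equiv.Perm GolayPt)} {P C D l : ℕ} {t : H} (ht : (t : Equiv.Perm GolayPt) = pm P)
    (hC : pm C ∈ H) (hl : l.Prime) (h5 : 5 ≤ l) (h : chk P C D l = true) : Bad (MulAut.conj t) := by
  refine ⟨⟨pm C, hC⟩, l, hl, h5, ?_⟩
  have e : ((MulAut.conj t ⟨pm C, hC⟩ * (⟨pm C, hC⟩ : H)⁻¹ : H) : Equiv.Perm GolayPt) =
      pm P * pm C * (pm P)⁻¹ * (pm C)⁻¹ := by
    rw [← ht]
    rfl
  rw [← Subgroup.orderOf_coe, e, chk_order hl h]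

end Words

/-! ### `M24` -/

section MTwentyFour

open Cfsg.Agent.SporadicA.GolayBase Cfsg.Agent.SporadicA.GolayPerm
open Cfsg.Agent.KFacts.MM.El
open Cfsg.Agent.SporadicStructure.M24El (el)
open Cfsg.Agent.J4.M24InvolData (P1 P2)
open Cfsg.Agent.OddHalf.D9.M22 (pm_M24)

theorem bad_el {P C D l : ℕ} (hP : SporadicStructure.M24El.ok P = true) (hC : SporadicStructure.M24El.ok C = true)
    (hl : l.Prime) (h5 : 5 ≤ l) (h : chk P C D l = true) : Bad (MulAut.conj (el P)) :=
  bad_conj (coe_el hP) (pm_M24 hC) hl h5 h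

theorem bad_p1 : Bad (MulAut.conj (el P1)) :=
  bad_el (C := 340402679229089158429821995223485093) (D := 314178867693005673037823019812587915) (l := 5)
    (by decide +kernel) (by decide +kernel) (by norm_num) le_rfl (by decide +kernel)

theorem bad_p2 : Bad (MulAut.conj (el P2)) :=
  bad_el (C := 555074430348508147069857146336224367) (D := 474310073617523076714071657286772849) (l := 11)
    (by decide +kernel) (by decide +kernel) (by norm_num) (by norm_num) (by decide +kernel)

theorem row2_m24 {K : Type*} [Group K] [Finite K] [IsSimpleGroup K] (h : Cfsg.Spor.IsoM24 K) : Row23 2 K := by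
  have hn := NotCT.Orders.m24 h
  obtain ⟨e⟩ := h
  have hn' : Nat.card M24 = 244823040 := by rw [← hn, Nat.card_congr e.toEquiv]
  have : Finite M24 := Finite.of_equiv K e.toEquiv
  have hs : IsSimpleGroup M24 := e.symm.isSimpleGroup
  refine Row23.congr e (row_of_inner (center_bot (by rw [hn']; norm_num))
    Cfsg.Agent.KFacts.M24Two.Out.exists_conj fun t ht h1 => ?_)
  obtain ⟨g, hg | hg⟩ := Cfsg.Agent.J4.M24Invol.invol_conj t ht h1
  · exact bad_p1.inner (isConj_iff.2 ⟨g, hg⟩).symm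
  · exact bad_p2.inner (isConj_iff.2 ⟨g, hg⟩).symm

end MTwentyFour

/-! ### `M23` and `M22` -/

section MTwentyThree

open Cfsg.Agent.SporadicA.GolayBase Cfsg.Agent.SporadicA.GolayPerm
open Cfsg.Agent.KFacts.MM.El
open Cfsg.Agent.Schreier.SylMTwentyTwo (T T_le)
open Cfsg.Agent.OddHalf.D9.M22 (pm_M24 pm_M22)

/-- an involution of `M22` -/
def tP : ℕ := 983549167202528574218691039157455392
/-- an element of `M22` -/
def tC : ℕ := 978198556935264134158548103157438560
/-- its inverse -/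
def tD : ℕ := 958121526796233948515128631575484576

theorem tP_mem : pm tP ∈ Spor.M22 := pm_M22 (by decide +kernel)
theorem tC_mem : pm tC ∈ Spor.M22 := pm_M22 (by decide +kernel)

theorem tP_sq : pm tP * pm tP = 1 := by
  have h := pr_of_weq (l := [tP, tP]) (m := []) (by decide +kernel) rfl (by decide +kernel)
  rwa [pr_cons, pr_one, pr_nil] at h

theorem tP_ne : pm tP ≠ 1 := by
  have h := pr_ne (l := [tP]) (m := []) (by decide +kernel) rfl (by decide +kernel)
  rwa [pr_one, pr_nil] at h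

/-- every involution of `M22`, `M23` is bad -/
theorem bad_all {H : Subgroup (Equiv.Perm GolayPt)} [Finite H] (hTH : T ≤ H)
    (hidx : ¬ 2 ∣ (T.subgroupOf H).index) (hM : Spor.M22 ≤ H) (t : H) (h2 : t * t = 1) (h1 : t ≠ 1) :
    Bad (MulAut.conj t) := by
  obtain ⟨g, hg⟩ := OddHalf.D4.Spor.MathieuSyl.one_class hTH hidx hM t h2 h1
  obtain ⟨k, hk⟩ := OddHalf.D4.Spor.MathieuSyl.one_class hTH hidx hM ⟨pm tP, hM tP_mem⟩ (Subtype.ext tP_sq)
    (fun e => tP_ne (congrArg Subtype.val e))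
  have h3 : Bad (MulAut.conj (⟨pm tP, hM tP_mem⟩ : H)) :=
    bad_conj (P := tP) (C := tC) (D := tD) (l := 5) rfl (hM tC_mem) (by norm_num) le_rfl (by decide +kernel)
  exact h3.inner ((isConj_iff.2 ⟨k, hk⟩).symm.trans (isConj_iff.2 ⟨g, hg⟩))

theorem row2_m23 {K : Type*} [Group K] [Finite K] [IsSimpleGroup K] (h : Cfsg.Spor.IsoM23 K) : Row23 2 K := by
  have hn := NotCT.Orders.m23 h
  have hin := Cfsg.Agent.UGT.MTwentyThree.End.exists_conj (X := Spor.M23) ⟨MulEquiv.refl _⟩
  obtain ⟨e⟩ := h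
  have hn' : Nat.card Spor.M23 = 10200960 := by rw [← hn, Nat.card_congr e.toEquiv]
  have : Finite Spor.M23 := Finite.of_equiv K e.toEquiv
  have hs : IsSimpleGroup Spor.M23 := e.symm.isSimpleGroup
  exact Row23.congr e (row_of_inner (center_bot (by rw [hn']; norm_num)) hin fun t ht h1 =>
    bad_all OddHalf.D4.Spor.M2223.T_le23 OddHalf.D4.Spor.M2223.idx23 OddHalf.D4.Spor.M2223.M22_le_M23 t ht h1)

end MTwentyThree

section MTwentyTwo

open Cfsg.Agent.SporadicA.GolayBase Cfsg.Agent.SporadicA.GolayPerm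
open Cfsg.Agent.KFacts.MM.El
open Cfsg.Agent.Schreier.SylMTwentyTwo (T T_le)
open Cfsg.Agent.OddHalf.D9.M22 (pm_M24 pm_M22 outer_cases)
open Cfsg.Agent.OddHalf.D9.M22.Data (aP bP)
open Cfsg.Agent.KFacts.MM.OutAut (emb emb_inj emb_conj of_emb_mem ind_apply ind_mem)

/-- an automorphism inducing a conjugate of `pm P` -/
theorem exists_base {x : MulAut Spor.M22} {P : ℕ} {g : Equiv.Perm GolayPt} (hg : g ∈ Spor.M22)
    (h : emb x = g * pm P * g⁻¹) : emb (cx x ⟨g, hg⟩) = pm P := by
  unfold cx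
  rw [map_mul, map_mul, map_inv, emb_conj, h]
  group

theorem bad_outer {x : MulAut Spor.M22} {P C D l : ℕ} (hx : emb x = pm P) (hC : pm C ∈ Spor.M22) (hl : l.Prime)
    (h5 : 5 ≤ l) (h : chk P C D l = true) : Bad x := by
  refine ⟨⟨pm C, hC⟩, l, hl, h5, ?_⟩
  have e : ((x ⟨pm C, hC⟩ * (⟨pm C, hC⟩ : Spor.M22)⁻¹ : Spor.M22) : Equiv.Perm GolayPt) =
      pm P * pm C * (pm P)⁻¹ * (pm C)⁻¹ := by
    rw [← hx]
    change (x ⟨pm C, hC⟩ : Equiv.Perm GolayPt) * (pm C)⁻¹ = _
    rw [ind_apply]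
    rfl
  rw [← Subgroup.orderOf_coe, e, chk_order hl h]

/-- the conjugating elements -/
def c1 : ℕ := 962780038073400826883782709586496800
def c2 : ℕ := 957211070834319629056896788865421408
def c3 : ℕ := 979656431555559492539676632201512096
def d1 : ℕ := 982854047236741176374145211589267008
def d2 : ℕ := 973926339309131828836456109749359296
def d3 : ℕ := 983432231429557398545975516781420928

theorem c1_mem : pm c1 ∈ Spor.M22 := pm_M22 (by decide +kernel)
theorem c2_mem : pm c2 ∈ Spor.M22 := pm_M22 (by decide +kernel)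
theorem c3_mem : pm c3 ∈ Spor.M22 := pm_M22 (by decide +kernel)

/-- the two words -/
def wa : List ℕ := [aP, c1, aP, d1]
def wb : List ℕ := [c2, aP, d2, c3, aP, d3]

theorem inv1 : (pm c1)⁻¹ = pm d1 := pm_inv (by decide +kernel) (by decide +kernel)
theorem inv2 : (pm c2)⁻¹ = pm d2 := pm_inv (by decide +kernel) (by decide +kernel)
theorem inv3 : (pm c3)⁻¹ = pm d3 := pm_inv (by decide +kernel) (by decide +kernel)

theorem wa_pow : pr wa ^ 3 = 1 := pr_pow (by decide +kernel) (by decide +kernel)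
theorem wb_pow : pr wb ^ 2 ^ 2 = 1 := pr_pow (by decide +kernel) (by decide +kernel)
theorem wab_pow : (pr wa * pr wb) ^ 7 = 1 := by
  rw [← pr_append]
  exact pr_pow (by decide +kernel) (by decide +kernel)
theorem wab_ne : pr wa * pr wb ≠ 1 := by
  rw [← pr_append, ← pr_nil]
  exact pr_ne (by decide +kernel) rfl (by decide +kernel)

/-- the field-like outer involutions: four conjugates generate a nonsolvable group -/
theorem not_ps {x : MulAut Spor.M22} (hx : emb x = pm aP) (h : PS 4 x) : False := by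
  set C : Fin 4 → Spor.M22 := ![1, ⟨pm c1, c1_mem⟩, ⟨pm c2, c2_mem⟩, ⟨pm c3, c3_mem⟩] with hC
  have hs := h C
  set S := closure (Set.range fun i => MulAut.conj (C i) * x * (MulAut.conj (C i))⁻¹) with hS
  have hm : ∀ i, MulAut.conj (C i) * x * (MulAut.conj (C i))⁻¹ ∈ S := fun i => subset_closure ⟨i, rfl⟩
  set y : Fin 4 → MulAut Spor.M22 := fun i => MulAut.conj (C i) * x * (MulAut.conj (C i))⁻¹ with hy
  have ey : ∀ i, emb (y i) = (C i : Equiv.Perm GolayPt) * pm aP * (C i : Equiv.Perm GolayPt)⁻¹ := fun i => by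
    rw [hy]
    simp only [map_mul, map_inv, emb_conj, hx]
  have ea : emb (y 0 * y 1) = pr wa := by
    rw [map_mul, ey, ey]
    have e0 : (C 0 : Equiv.Perm GolayPt) = 1 := rfl
    have e1 : (C 1 : Equiv.Perm GolayPt) = pm c1 := rfl
    rw [e0, e1, inv1]
    simp only [wa, pr_cons, pr_nil]
    group
  have eb : emb (y 2 * y 3) = pr wb := by
    rw [map_mul, ey, ey]
    have e0 : (C 2 : Equiv.Perm GolayPt) = pm c2 := rfl
    have e1 : (C 3 : Equiv.Perm GolayPt) = pm c3 := rfl
    rw [e0, e1, inv2, inv3]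
    simp only [wb, pr_cons, pr_nil]
    group
  have h1 : (y 0 * y 1) ^ 3 = 1 := emb_inj (by rw [map_pow, ea, wa_pow, map_one])
  have h2 : (y 2 * y 3) ^ 2 ^ 2 = 1 := emb_inj (by rw [map_pow, eb, wb_pow, map_one])
  have h3 : ((y 0 * y 1) * (y 2 * y 3)) ^ 7 = 1 := emb_inj (by rw [map_pow, map_mul, ea, eb, wab_pow, map_one])
  have h4 : (y 0 * y 1) * (y 2 * y 3) ≠ 1 := fun e => wab_ne (by rw [← ea, ← eb, ← map_mul, e, map_one])
  refine Cfsg.Agent.H959.Rad3.not_solvable_of_coprime h1 h2 h3 (by norm_num) h4 ?_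
  refine Cfsg.Agent.SignalizersComponents.ComponentExists.isSolvable_of_le ?_ hs
  rw [closure_le]
  rintro _ (rfl | rfl)
  · exact mul_mem (hm 0) (hm 1)
  · exact mul_mem (hm 2) (hm 3)

theorem row2_m22 {K : Type*} [Group K] [Finite K] [IsSimpleGroup K] (h : Cfsg.Spor.IsoM22 K) : Row23 2 K := by
  have hn := NotCT.Orders.m22 h
  obtain ⟨e⟩ := h
  have hn' : Nat.card Spor.M22 = 443520 := by rw [← hn, Nat.card_congr e.toEquiv]
  have : Finite Spor.M22 := Finite.of_equiv K e.toEquiv
  have hs : IsSimpleGroup Spor.M22 := e.symm.isSimpleGroup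
  have hc : center Spor.M22 = ⊥ := center_bot (by rw [hn']; norm_num)
  refine Row23.congr e fun x hx _ hP hT => ?_
  have hxx : x * x = 1 := by rw [← pow_two, ← hx, pow_orderOf_eq_one]
  have hx1 : x ≠ 1 := fun h => by rw [h, orderOf_one] at hx; omega
  by_cases hin : emb x ∈ Spor.M22
  · have h1 := of_emb_mem hin
    set t : Spor.M22 := ⟨emb x, hin⟩ with ht
    have ht2 : t * t = 1 := Subtype.ext (by
      show emb x * emb x = 1
      rw [← map_mul, hxx, map_one])
    have ht1 : t ≠ 1 := fun e => hx1 (by rw [h1, e, map_one])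
    rw [h1] at hT
    exact (bad_all T_le OddHalf.D4.Spor.M2223.idx22 le_rfl t ht2 ht1).false hc hT
  · obtain ⟨g, hg, h1 | h1⟩ := outer_cases (ind_mem x) hin (by
      show emb x * emb x = 1
      rw [← map_mul, hxx, map_one])
    · exact not_ps (exists_base hg h1) (Cfsg.Agent.H483.Rad23.PS.cx hP ⟨g, hg⟩)
    · exact (bad_outer (P := bP) (C := 972362174988470943318775776226285664) (D := 977824182627996018956784205739119744)
        (l := 11) (exists_base hg h1) (pm_M22 (by decide +kernel)) (by norm_num) (by norm_num)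
        (by decide +kernel)).false hc (hT.cx ⟨g, hg⟩)

end MTwentyTwo

end Cfsg.Agent.H119.RadM
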