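import Cfsg.Agent.H119.SS

/-!
# A group of isometries of a symplectic space in characteristic two containing all of them
-/

set_option autoImplicit false

namespace Cfsg.Agent.H119

open Module

/-- a group acting faithfully by isometries and containing all isometries -/
structure SG {F V : Type*} [Field F] [AddCommGroup V] [Module F V] (H : SS F V) (G : Type*)
    [Group G] where
  π : G →* End F V
  inj : Function.Injective π
  iso : ∀ g, H.Iso (π g)
  ex : ∀ T : End F V, H.Iso T → ∃ g, π g = T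

namespace SG

variable {F V : Type*} [Field F] [AddCommGroup V] [Module F V] {H : SS F V} {G : Type*}
  [Group G] (S : SG H G)

open Classical in
/-- the element with given action -/
noncomputable def elt (T : End F V) : G :=
  if h : ∃ g, S.π g = T then h.choose else 1

theorem π_elt {T : End F V} (h : H.Iso T) : S.π (S.elt T) = T := by
  have h1 := S.ex T h
  rw [elt, dif_pos h1]
  exact h1.choose_spec

theorem π_mul (g k : G) (x : V) : S.π (g * k) x = S.π g (S.π k x) := by
  rw [map_mul, End.mul_apply]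

theorem π_one (x : V) : S.π 1 x = x := by
  rw [map_one, End.one_apply]

theorem π_inv (g : G) (x : V) : S.π g⁻¹ (S.π g x) = x := by
  rw [← S.π_mul, inv_mul_cancel, S.π_one]

theorem π_inv' (g : G) (x : V) : S.π g (S.π g⁻¹ x) = x := by
  rw [← S.π_mul, mul_inv_cancel, S.π_one]

theorem ext {g k : G} (h : ∀ x, S.π g x = S.π k x) : g = k := S.inj (LinearMap.ext h)

theorem h_π (g : G) (x y : V) : H.h (S.π g x) (S.π g y) = H.h x y := S.iso g x y

/-- Siegel elements -/
noncomputable def sg (e w : V) (c : F) : G := S.elt (H.sgMap e w c)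

/-- transvections -/
noncomputable def tv (e : V) (c : F) : G := S.elt (H.tvMap e c)

/-- torus element `e ↦ s e`, `f ↦ s⁻¹ f` -/
noncomputable def dg (e f : V) (s : F) : G := S.elt (H.dMap e f s)

/-- elements of the abelian group of a totally isotropic triple -/
noncomputable def am (e : Fin 3 → V) (s : Matrix (Fin 3) (Fin 3) F) : G := S.elt (H.aMap e s)

theorem π_sg {e w : V} (c : F) (hw : H.h w e = 0) (x : V) :
    S.π (S.sg e w c) x = x + H.h x e • w + H.h x w • e + (c * H.h x e) • e := by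
  rw [sg, S.π_elt (H.sgMap_iso hw), H.sgMap_apply]

theorem π_tv (e : V) (c : F) (x : V) : S.π (S.tv e c) x = x + (c * H.h x e) • e := by
  rw [tv, S.π_elt (H.tvMap_iso e c), H.tvMap_apply]

theorem π_dg {e f : V} {s : F} (hef : H.h e f = 1) (hs : s ≠ 0) (x : V) :
    S.π (S.dg e f s) x = x + ((s - 1) * H.h x f) • e + ((s⁻¹ - 1) * H.h x e) • f := by
  rw [dg, S.π_elt (H.dMap_iso hef hs), H.dMap_apply]

theorem π_am {e : Fin 3 → V} {s : Matrix (Fin 3) (Fin 3) F} (he : ∀ i j, H.h (e i) (e j) = 0)
    (hs : ∀ i j, s i j = s j i) (x : V) :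
    S.π (S.am e s) x = x + ∑ i, ∑ j, (s i j * H.h x (e i)) • e j := by
  rw [am, S.π_elt (H.aMap_iso he hs), H.aMap_apply]

theorem h_inv (g : G) (x y : V) : H.h (S.π g⁻¹ x) y = H.h x (S.π g y) := by
  rw [← S.h_π g, S.π_inv']

theorem conj_sg (g : G) {e w : V} (c : F) (hw : H.h w e = 0) :
    g * S.sg e w c * g⁻¹ = S.sg (S.π g e) (S.π g w) c := by
  apply S.ext
  intro x
  rw [S.π_mul, S.π_mul, S.π_sg c hw, S.π_sg c (by rw [S.h_π, hw])]
  simp only [map_add, map_smul, S.π_inv', S.h_inv]

theorem conj_tv (g : G) (e : V) (c : F) : g * S.tv e c * g⁻¹ = S.tv (S.π g e) c := by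
  apply S.ext
  intro x
  rw [S.π_mul, S.π_mul, S.π_tv, S.π_tv]
  simp only [map_add, map_smul, S.π_inv', S.h_inv]

theorem sg_zero_left (e : V) (c : F) : S.sg e 0 c = S.tv e c := by
  apply S.ext
  intro x
  rw [S.π_sg c (H.zero_left e), S.π_tv, H.zero_right]
  simp

theorem sg_mul {e w w' : V} (c c' : F) (hw : H.h w e = 0) (hw' : H.h w' e = 0) :
    S.sg e w c * S.sg e w' c' = S.sg e (w + w') (c + c' + H.h w' w) := by
  have hew : H.h e w = 0 := by rw [H.swap, hw]
  apply S.ext
  intro x
  rw [S.π_mul, S.π_sg c hw, S.π_sg c' hw', S.π_sg _ (by rw [H.add_left, hw, hw', add_zero])]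
  simp only [H.add_left, H.smul_left, H.add_right, H.self, hew, hw', mul_zero, add_zero]
  module

theorem tv_zero (e : V) : S.tv e 0 = 1 := by
  apply S.ext
  intro x
  rw [S.π_tv, S.π_one, zero_mul, zero_smul, add_zero]

theorem tv_add (e : V) (c c' : F) : S.tv e (c + c') = S.tv e c * S.tv e c' := by
  apply S.ext
  intro x
  rw [S.π_mul, S.π_tv, S.π_tv, S.π_tv, H.add_left, H.smul_left, H.self, mul_zero, add_zero]
  module

theorem tv_self (e : V) (c : F) : S.tv e c * S.tv e c = 1 := by
  rw [← S.tv_add, H.add_self, S.tv_zero]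

theorem tv_inv (e : V) (c : F) : (S.tv e c)⁻¹ = S.tv e c := by
  rw [inv_eq_iff_mul_eq_one, S.tv_self]

theorem tv_smul (a : F) (e : V) (c : F) : S.tv (a • e) c = S.tv e (a * a * c) := by
  apply S.ext
  intro x
  rw [S.π_tv, S.π_tv, H.smul_right, smul_smul]
  congr 2
  ring

/-- `Z_e` commutes with the Siegel elements of `e` -/
theorem tv_comm_sg {e w : V} (c d : F) (hw : H.h w e = 0) :
    S.tv e d * S.sg e w c = S.sg e w c * S.tv e d := by
  rw [← S.sg_zero_left, S.sg_mul _ _ (H.zero_left e) hw, S.sg_mul _ _ hw (H.zero_left e),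
    H.zero_left, H.zero_right, zero_add, add_zero, add_zero, add_zero, add_comm d c]

theorem am_zero {e : Fin 3 → V} (he : ∀ i j, H.h (e i) (e j) = 0) : S.am e 0 = 1 := by
  apply S.ext
  intro x
  rw [S.π_am he (fun _ _ => rfl), S.π_one]
  simp

theorem am_add {e : Fin 3 → V} (he : ∀ i j, H.h (e i) (e j) = 0) {s t : Matrix (Fin 3) (Fin 3) F}
    (hs : ∀ i j, s i j = s j i) (ht : ∀ i j, t i j = t j i) :
    S.am e (s + t) = S.am e s * S.am e t := by
  apply S.ext
  intro x
  rw [S.π_mul, S.π_am he ht, S.π_am he hs, S.π_am he (fun i j => by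
    rw [Matrix.add_apply, Matrix.add_apply, hs i j, ht i j])]
  have h1 : ∀ i, H.h (x + ∑ k, ∑ l, (t k l * H.h x (e k)) • e l) (e i) = H.h x (e i) := by
    intro i
    rw [H.add_left, H.sum_left, Finset.sum_eq_zero, add_zero]
    intro k _
    rw [H.sum_left]
    refine Finset.sum_eq_zero fun l _ => ?_
    rw [H.smul_left, he, mul_zero]
  simp only [h1]
  rw [add_assoc, ← Finset.sum_add_distrib]
  congr 1
  refine Finset.sum_congr rfl fun i _ => ?_
  rw [← Finset.sum_add_distrib]
  refine Finset.sum_congr rfl fun j _ => ?_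
  rw [← add_smul, Matrix.add_apply]
  congr 1
  ring

/-- transvections of the triple -/
theorem am_vec {e : Fin 3 → V} (he : ∀ i j, H.h (e i) (e j) = 0) (a : Fin 3 → F) (c : F) :
    S.am e (Matrix.of fun i j => c * (a i * a j)) = S.tv (∑ i, a i • e i) c := by
  apply S.ext
  intro x
  rw [S.π_am he (fun i j => by rw [Matrix.of_apply, Matrix.of_apply, mul_comm (a i)]), S.π_tv]
  simp only [Matrix.of_apply]
  congr 1
  rw [H.sum_right, Finset.mul_sum, Finset.sum_smul]
  refine Finset.sum_congr rfl fun i _ => ?_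
  rw [Finset.smul_sum]
  refine Finset.sum_congr rfl fun j _ => ?_
  rw [H.smul_right, smul_smul]
  congr 1
  ring

end SG

end Cfsg.Agent.H119
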