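import Cfsg.Agent.H119.SLVec

/-!
# The centraliser ring of `SL_n(F)` on the nonzero vectors of `F^n` is commutative (`n ≥ 3`)
-/

set_option autoImplicit false

namespace Cfsg.Agent.H119.SLVec

open Matrix Module Representation Cfsg.Agent.PermutationGroups.PermChar

variable {F : Type*} [Field F] {n : ℕ}

/-- nonzero vectors -/
def Vec (n : ℕ) (F : Type*) [Field F] : Type _ := {v : Fin n → F // v ≠ 0}

theorem act_ne_zero (g : SpecialLinearGroup (Fin n) F) {v : Fin n → F} (hv : v ≠ 0) :
    g.1 *ᵥ v ≠ 0 := by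
  intro h
  apply hv
  rw [← one_mulVec' v, ← inv_mul_cancel g, mul_mulVec, h, Matrix.mulVec_zero]

/-- `SL_n(F)` acts on the nonzero vectors -/
instance instVec : MulAction (SpecialLinearGroup (Fin n) F) (Vec n F) where
  smul g v := ⟨g.1 *ᵥ v.1, act_ne_zero g v.2⟩
  one_smul v := Subtype.ext (one_mulVec' v.1)
  mul_smul g g' v := Subtype.ext (mul_mulVec g g' v.1)

theorem smul_val (g : SpecialLinearGroup (Fin n) F) (v : Vec n F) : (g • v).1 = g.1 *ᵥ v.1 := rfl

noncomputable instance instFintypeVec [Finite F] : Fintype (Vec n F) := by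
  classical
  have := Fintype.ofFinite F
  exact inferInstanceAs (Fintype {v : Fin n → F // v ≠ 0})

/-- scalar multiple of a nonzero vector -/
def sc (c : Fˣ) (v : Vec n F) : Vec n F := ⟨(c : F) • v.1, smul_ne_zero c.ne_zero v.2⟩

theorem sc_smul (c : Fˣ) (g : SpecialLinearGroup (Fin n) F) (v : Vec n F) :
    sc c (g • v) = g • sc c v := by
  apply Subtype.ext
  change (c : F) • (g.1 *ᵥ v.1) = g.1 *ᵥ ((c : F) • v.1)
  rw [Matrix.mulVec_smul]

theorem sc_sc (c d : Fˣ) (v : Vec n F) : sc c (sc d v) = sc (c * d) v := by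
  apply Subtype.ext
  change (c : F) • ((d : F) • v.1) = ((c * d : Fˣ) : F) • v.1
  rw [smul_smul, Units.val_mul]

theorem sc_inj {c d : Fˣ} {v : Vec n F} (h : sc c v = sc d v) : c = d := by
  have h1 : (c : F) • v.1 = (d : F) • v.1 := congrArg Subtype.val h
  exact Units.ext (smul_left_injective F v.2 h1)

theorem sc_inj' {c : Fˣ} {v w : Vec n F} (h : sc c v = sc c w) : v = w := by
  have h1 : (c : F) • v.1 = (c : F) • w.1 := congrArg Subtype.val h
  exact Subtype.ext ((smul_right_injective (Fin n → F) c.ne_zero) h1)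

/-- either proportional or independent -/
theorem prop_or_indep (a b : Vec n F) : (∃ c : Fˣ, b = sc c a) ∨ LinearIndependent F ![a.1, b.1] := by
  by_cases h : LinearIndependent F ![a.1, b.1]
  · exact Or.inr h
  · left
    rw [LinearIndependent.pair_iff' a.2] at h
    push Not at h
    obtain ⟨c, hc⟩ := h
    have hc0 : c ≠ 0 := by
      rintro rfl
      rw [zero_smul] at hc
      exact b.2 hc.symm
    exact ⟨Units.mk0 c hc0, Subtype.ext hc.symm⟩

theorem not_indep (a : Vec n F) (c : Fˣ) : ¬ LinearIndependent F ![a.1, (sc c a).1] := by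
  intro h
  exact (LinearIndependent.pair_iff' a.2).1 h c rfl

theorem pretrans (hn : 2 ≤ n) : MulAction.IsPretransitive (SpecialLinearGroup (Fin n) F) (Vec n F) := by
  refine ⟨fun x y => ?_⟩
  obtain ⟨g, hg⟩ := exists_map_one hn x.2 y.2
  exact ⟨g, Subtype.ext hg⟩

variable [Fintype F] [DecidableEq F]

/-- **form of the intertwiners** -/
theorem exists_form (hn : 3 ≤ n)
    (T : (Cfsg.permRep ℂ (SpecialLinearGroup (Fin n) F) (Vec n F)).IntertwiningMap
      (Cfsg.permRep ℂ (SpecialLinearGroup (Fin n) F) (Vec n F))) :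
    ∃ (k : Fˣ → ℂ) (r : ℂ), ∀ (f : Vec n F → ℂ) (x : Vec n F),
      T f x = ∑ c : Fˣ, k c * f (sc c x) + r * ∑ y, f y := by
  classical
  have h3 : 0 < n := by omega
  -- two independent vectors
  obtain ⟨a0, ha0⟩ : ∃ a : Fin n → F, a ≠ 0 := ⟨Pi.single ⟨0, h3⟩ 1, by simp⟩
  obtain ⟨b0, hb0⟩ := exists_notMem_span ![a0] (by omega : 1 < n)
  have hab : LinearIndependent F ![a0, b0] := by
    refine (LinearIndependent.pair_iff' ha0).2 fun c hc => hb0 ?_
    rw [← hc]
    exact Submodule.smul_mem _ _ (Submodule.subset_span ⟨0, rfl⟩)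
  have hb0' : b0 ≠ 0 := by simpa using hab.ne_zero 1
  set a : Vec n F := ⟨a0, ha0⟩
  set b : Vec n F := ⟨b0, hb0'⟩
  set r : ℂ := T (Pi.single b 1) a with hr
  have hK : ∀ x y : Vec n F, T (Pi.single y 1) x =
      (∑ c : Fˣ, if sc c x = y then T (Pi.single (sc c a) 1) a - r else 0) + r := by
    intro x y
    rcases prop_or_indep x y with ⟨c, hc⟩ | hi
    · rw [Finset.sum_eq_single c]
      · rw [if_pos hc.symm]
        obtain ⟨g, hg⟩ := exists_map_one (by omega : 2 ≤ n) a.2 x.2
        have hg' : g • a = x := Subtype.ext hg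
        have h1 := intertwining_entry T g a (sc c a)
        rw [← sc_smul, hg', ← hc] at h1
        rw [h1, sub_add_cancel]
      · intro d _ hd
        rw [if_neg]
        intro h
        apply hd
        rw [hc] at h
        exact sc_inj h
      · intro h
        exact absurd (Finset.mem_univ _) h
    · rw [Finset.sum_eq_zero]
      · obtain ⟨g, hg1, hg2⟩ := exists_map_pair hn hab hi
        have hg1' : g • a = x := Subtype.ext hg1
        have hg2' : g • b = y := Subtype.ext hg2
        have h1 := intertwining_entry T g a b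
        rw [hg1', hg2'] at h1
        rw [h1, hr, zero_add]
      · intro c _
        rw [if_neg]
        intro h
        rw [← h] at hi
        exact not_indep x c hi
  refine ⟨fun c => T (Pi.single (sc c a) 1) a - r, r, fun f x => ?_⟩
  have h1 := linearMap_apply_eq_sum T.toLinearMap f
  have h2 : T f x = ∑ y, f y * T (Pi.single y 1) x := by
    have h4 := congrFun h1 x
    rw [Finset.sum_apply] at h4
    exact h4
  rw [h2]
  have h5 : ∀ y, f y * T (Pi.single y 1) x =
      (∑ c : Fˣ, if sc c x = y then (T (Pi.single (sc c a) 1) a - r) * f y else 0) + r * f y := by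
    intro y
    rw [hK x y, mul_add, Finset.mul_sum, mul_comm (f y) r]
    congr 1
    refine Finset.sum_congr rfl fun c _ => ?_
    split_ifs
    · ring
    · ring
  rw [Finset.sum_congr rfl (fun y _ => h5 y), Finset.sum_add_distrib, Finset.sum_comm, ← Finset.mul_sum]
  congr 1
  refine Finset.sum_congr rfl fun c _ => ?_
  rw [Finset.sum_ite_eq, if_pos (Finset.mem_univ _)]

/-- **the centraliser ring is commutative** -/
theorem comm (hn : 3 ≤ n)
    (S T : (Cfsg.permRep ℂ (SpecialLinearGroup (Fin n) F) (Vec n F)).IntertwiningMap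
      (Cfsg.permRep ℂ (SpecialLinearGroup (Fin n) F) (Vec n F))) (f : Vec n F → ℂ) :
    S (T f) = T (S f) := by
  classical
  obtain ⟨s, s0, hS⟩ := exists_form hn S
  obtain ⟨t, t0, hT⟩ := exists_form hn T
  have hsum : ∀ (c : Fˣ) (f : Vec n F → ℂ), ∑ y, f (sc c y) = ∑ y, f y := by
    intro c f
    refine Fintype.sum_bijective (sc c) ?_ _ _ (fun _ => rfl)
    rw [Fintype.bijective_iff_injective_and_card]
    exact ⟨fun v w h => sc_inj' h, rfl⟩
  have main : ∀ (s t : Fˣ → ℂ) (s0 t0 : ℂ) (f : Vec n F → ℂ) (x : Vec n F),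
      (∑ c : Fˣ, s c * (∑ d : Fˣ, t d * f (sc d (sc c x)) + t0 * ∑ y, f y) +
        s0 * ∑ y, (∑ d : Fˣ, t d * f (sc d y) + t0 * ∑ y, f y)) =
      (∑ c : Fˣ, ∑ d : Fˣ, s c * t d * f (sc (c * d) x)) +
        ((∑ c : Fˣ, s c) * t0 + s0 * (∑ d : Fˣ, t d) + s0 * t0 * (Fintype.card (Vec n F))) * ∑ y, f y := by
    intro s t s0 t0 f x
    have e1 : ∀ c : Fˣ, s c * (∑ d : Fˣ, t d * f (sc d (sc c x)) + t0 * ∑ y, f y) =
        (∑ d : Fˣ, s c * t d * f (sc (c * d) x)) + s c * (t0 * ∑ y, f y) := by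
      intro c
      rw [mul_add, Finset.mul_sum]
      congr 1
      refine Finset.sum_congr rfl fun d _ => ?_
      rw [sc_sc, mul_comm d c]
      ring
    rw [Finset.sum_congr rfl (fun c _ => e1 c), Finset.sum_add_distrib, ← Finset.sum_mul,
      Finset.sum_add_distrib]
    have e2 : ∀ d : Fˣ, ∑ y, t d * f (sc d y) = t d * ∑ y, f y := by
      intro d
      rw [← Finset.mul_sum, hsum]
    have e3 : ∑ y, ∑ d : Fˣ, t d * f (sc d y) = (∑ d : Fˣ, t d) * ∑ y, f y := by
      rw [Finset.sum_comm, Finset.sum_congr rfl (fun d _ => e2 d), ← Finset.sum_mul]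
    rw [e3, Finset.sum_const, Finset.card_univ, nsmul_eq_mul]
    ring
  funext x
  have e1 : S (T f) x = (∑ c : Fˣ, ∑ d : Fˣ, s c * t d * f (sc (c * d) x)) +
        ((∑ c : Fˣ, s c) * t0 + s0 * (∑ d : Fˣ, t d) + s0 * t0 * (Fintype.card (Vec n F))) *
          ∑ y, f y := by
    rw [hS]
    simp only [hT]
    exact main s t s0 t0 f x
  have e2 : T (S f) x = (∑ c : Fˣ, ∑ d : Fˣ, t c * s d * f (sc (c * d) x)) +
        ((∑ c : Fˣ, t c) * s0 + t0 * (∑ d : Fˣ, s d) + t0 * s0 * (Fintype.card (Vec n F))) *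
          ∑ y, f y := by
    rw [hT]
    simp only [hS]
    exact main t s t0 s0 f x
  rw [e1, e2]
  congr 1
  · rw [Finset.sum_comm]
    refine Finset.sum_congr rfl fun d _ => Finset.sum_congr rfl fun c _ => ?_
    rw [mul_comm c d]
    ring
  · ring

end Cfsg.Agent.H119.SLVec
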