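import Cfsg.Agent.PermutationGroups.MultFree
import Cfsg.Agent.S0718

/-!
# `SL_n(F)` on the nonzero vectors of `F^n`

* `exists_dual` : functionals with prescribed values on a linearly independent family;
* `exists_map_one`, `exists_map_pair` : `SL_n(F)` is transitive on nonzero vectors (`n ≥ 2`) and on
  linearly independent pairs (`n ≥ 3`);
* `comm` : the centraliser ring of `SL_n(F)` on the nonzero vectors is commutative for `n ≥ 3`.
-/

set_option autoImplicit false

namespace Cfsg.Agent.H119.SLVec

open Matrix Module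

section dual

variable {K V : Type*} [Field K] [AddCommGroup V] [Module K V]

/-- functionals with prescribed values on a linearly independent family -/
theorem exists_dual {ι : Type*} {v : ι → V} (hv : LinearIndependent K v) (c : ι → K) :
    ∃ φ : Module.Dual K V, ∀ i, φ (v i) = c i := by
  obtain ⟨φ, hφ⟩ := LinearMap.exists_extend ((Basis.span hv).constr K c)
  refine ⟨φ, fun i => ?_⟩
  have h1 := congrArg (fun f => f (Basis.span hv i)) hφ
  simp only [LinearMap.comp_apply, Submodule.subtype_apply] at h1
  rw [Basis.constr_basis, Basis.span_apply] at h1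
  exact h1

end dual

variable {F : Type*} [Field F] {n : ℕ}

theorem mul_mulVec (g g' : SpecialLinearGroup (Fin n) F) (x : Fin n → F) :
    (g * g').1 *ᵥ x = g.1 *ᵥ (g'.1 *ᵥ x) := by
  rw [show (g * g').1 = g.1 * g'.1 from rfl, Matrix.mulVec_mulVec]

theorem one_mulVec' (x : Fin n → F) : (1 : SpecialLinearGroup (Fin n) F).1 *ᵥ x = x := by
  rw [show (1 : SpecialLinearGroup (Fin n) F).1 = 1 from rfl, Matrix.one_mulVec]

/-- the element `x ↦ x + φ x • w` of `SL_n(F)` -/
theorem exists_trans (φ : Module.Dual F (Fin n → F)) (w : Fin n → F) (h : φ w = 0) :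
    ∃ g : SpecialLinearGroup (Fin n) F, ∀ x, g.1 *ᵥ x = x + φ x • w := by
  refine ⟨⟨LinearMap.toMatrix' (LinearMap.transvection φ w), ?_⟩, fun x => ?_⟩
  · rw [LinearMap.det_toMatrix', LinearMap.transvection.det, h, add_zero]
  · change (LinearMap.toMatrix' (LinearMap.transvection φ w)) *ᵥ x = _
    rw [LinearMap.toMatrix'_mulVec]
    rfl

/-- move `b` to `b'` when some functional takes the value `1` on both -/
theorem exists_move (φ : Module.Dual F (Fin n → F)) (b b' : Fin n → F) (h : φ b = 1) (h' : φ b' = 1) :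
    ∃ g : SpecialLinearGroup (Fin n) F, g.1 *ᵥ b = b' ∧
      ∀ x, φ x = 0 → g.1 *ᵥ x = x := by
  obtain ⟨g, hg⟩ := exists_trans φ (b' - b) (by rw [map_sub, h, h', sub_self])
  refine ⟨g, by rw [hg, h, one_smul, add_sub_cancel], fun x hx => by rw [hg, hx, zero_smul, add_zero]⟩

theorem finrank_pi : Module.finrank F (Fin n → F) = n := by simp

/-- a vector outside a small span -/
theorem exists_notMem_span {k : ℕ} (v : Fin k → (Fin n → F)) (hk : k < n) :
    ∃ w : Fin n → F, w ∉ Submodule.span F (Set.range v) := by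
  by_contra hc
  push Not at hc
  have h1 : Submodule.span F (Set.range v) = ⊤ := by
    rw [eq_top_iff]
    exact fun w _ => hc w
  have h2 := finrank_range_le_card (R := F) v
  rw [Set.finrank, h1, finrank_top, finrank_pi, Fintype.card_fin] at h2
  omega

/-- `SL_n(F)` is transitive on nonzero vectors, `n ≥ 2` -/
theorem exists_map_one (hn : 2 ≤ n) {a a' : Fin n → F} (ha : a ≠ 0) (ha' : a' ≠ 0) :
    ∃ g : SpecialLinearGroup (Fin n) F, g.1 *ᵥ a = a' := by
  have key : ∀ {b b' : Fin n → F}, LinearIndependent F ![b, b'] →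
      ∃ g : SpecialLinearGroup (Fin n) F, g.1 *ᵥ b = b' := by
    intro b b' h
    obtain ⟨φ, hφ⟩ := exists_dual h (fun _ => (1 : F))
    obtain ⟨g, hg, -⟩ := exists_move φ b b' (by simpa using hφ 0) (by simpa using hφ 1)
    exact ⟨g, hg⟩
  by_cases h : LinearIndependent F ![a, a']
  · exact key h
  · obtain ⟨w, hw⟩ := exists_notMem_span ![a] (by omega : 1 < n)
    have hw' : ∀ c : F, c • a ≠ w := by
      intro c hc
      apply hw
      rw [← hc]
      exact Submodule.smul_mem _ _ (Submodule.subset_span ⟨0, rfl⟩)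
    have h1 : LinearIndependent F ![a, w] := (LinearIndependent.pair_iff' ha).2 hw'
    rw [LinearIndependent.pair_iff' ha] at h
    push Not at h
    obtain ⟨c, hc⟩ := h
    have hc0 : c ≠ 0 := by
      rintro rfl
      rw [zero_smul] at hc
      exact ha' hc.symm
    have h2 : LinearIndependent F ![w, a'] := by
      have h3 : LinearIndependent F ![a', w] := by
        refine (LinearIndependent.pair_iff' ha').2 fun d hd => ?_
        rw [← hc, smul_smul] at hd
        exact hw' _ hd
      rw [LinearIndependent.pair_symm_iff] at h3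
      exact h3
    obtain ⟨g, hg⟩ := key h1
    obtain ⟨g', hg'⟩ := key h2
    refine ⟨g' * g, ?_⟩
    rw [mul_mulVec, hg, hg']

/-- `SL_n(F)` is transitive on linearly independent pairs, `n ≥ 3` -/
theorem exists_map_pair (hn : 3 ≤ n) {a b a' b' : Fin n → F} (h : LinearIndependent F ![a, b])
    (h' : LinearIndependent F ![a', b']) :
    ∃ g : SpecialLinearGroup (Fin n) F, g.1 *ᵥ a = a' ∧
      g.1 *ᵥ b = b' := by
  -- fixing the first vector
  have key : ∀ {c b b' : Fin n → F}, LinearIndependent F ![c, b, b'] →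
      ∃ g : SpecialLinearGroup (Fin n) F, g.1 *ᵥ c = c ∧
        g.1 *ᵥ b = b' := by
    intro c b b' h
    obtain ⟨φ, hφ⟩ := exists_dual h ![(0 : F), 1, 1]
    obtain ⟨g, hg, hg'⟩ := exists_move φ b b' (by simpa using hφ 1) (by simpa using hφ 2)
    exact ⟨g, hg' c (by simpa using hφ 0), hg⟩
  have key2 : ∀ {c b b' : Fin n → F}, LinearIndependent F ![c, b] → LinearIndependent F ![c, b'] →
      ∃ g : SpecialLinearGroup (Fin n) F, g.1 *ᵥ c = c ∧
        g.1 *ᵥ b = b' := by
    intro c b b' h h'
    have three : ∀ {x y z : Fin n → F}, LinearIndependent F ![x, y] →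
        z ∉ Submodule.span F (Set.range ![x, y]) → LinearIndependent F ![x, y, z] := by
      intro x y z h1 h2
      have h3 : LinearIndependent F (Fin.snoc ![x, y] z : Fin 3 → (Fin n → F)) :=
        linearIndependent_finSnoc.2 ⟨h1, h2⟩
      convert h3 using 1
      funext i
      fin_cases i <;> rfl
    by_cases h3 : b' ∈ Submodule.span F (Set.range ![c, b])
    · obtain ⟨w, hw⟩ := exists_notMem_span ![c, b] (by omega : 2 < n)
      have hspan : Submodule.span F (Set.range ![c, b']) ≤ Submodule.span F (Set.range ![c, b]) := by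
        rw [Submodule.span_le]
        rintro _ ⟨i, rfl⟩
        fin_cases i
        · exact Submodule.subset_span ⟨0, rfl⟩
        · exact h3
      have hw' : w ∉ Submodule.span F (Set.range ![c, b']) := fun hc => hw (hspan hc)
      obtain ⟨g, hg1, hg2⟩ := key (three h hw)
      have h5 : LinearIndependent F ![c, w, b'] := by
        have h6 := (three h' hw').comp ![0, 2, 1] (by decide)
        convert h6 using 1
        funext i
        fin_cases i <;> rfl
      obtain ⟨g', hg1', hg2'⟩ := key h5
      refine ⟨g' * g, ?_, ?_⟩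
      · rw [mul_mulVec, hg1, hg1']
      · rw [mul_mulVec, hg2, hg2']
    · exact key (three h h3)
  have ha : a ≠ 0 := by simpa using h.ne_zero 0
  have ha' : a' ≠ 0 := by simpa using h'.ne_zero 0
  obtain ⟨g, hg⟩ := exists_map_one (by omega) ha ha'
  have h1 : LinearIndependent F ![a', g.1 *ᵥ b] := by
    have hinj : LinearMap.ker (Matrix.mulVecLin g.1) = ⊥ := by
      rw [LinearMap.ker_eq_bot']
      intro x hx
      have h2 : (g⁻¹).1 *ᵥ
          (g.1 *ᵥ x) = x := by
        rw [← mul_mulVec, inv_mul_cancel, one_mulVec']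
      rw [← h2]
      rw [Matrix.mulVecLin_apply] at hx
      rw [hx, Matrix.mulVec_zero]
    have h3 := h.map' (Matrix.mulVecLin g.1) hinj
    have h4 : ⇑(Matrix.mulVecLin g.1) ∘ ![a, b] = ![a', g.1 *ᵥ b] := by
      funext i
      fin_cases i
      · exact hg
      · rfl
    rwa [h4] at h3
  obtain ⟨g', hg1', hg2'⟩ := key2 h1 h'
  refine ⟨g' * g, ?_, ?_⟩
  · rw [mul_mulVec, hg, hg1']
  · rw [mul_mulVec, hg2']

end Cfsg.Agent.H119.SLVec
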