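import Mathlib

/-!
# Symplectic spaces in characteristic two and their isometries

`SS F V` : an alternating form `h` on `V` over a field with `2 = 0`.  `SG H G` : a group `G` acting
faithfully on `V` by isometries, containing all isometries.  Elements `S.sg e w c`, `S.tv e c`,
`S.dg e f s`, `S.am e₁ e₂ e₃ s`.
-/

set_option autoImplicit false

namespace Cfsg.Agent.H119

open Module

/-- an alternating form in characteristic two -/
structure SS (F V : Type*) [Field F] [AddCommGroup V] [Module F V] where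
  two : (2 : F) = 0
  h : V → V → F
  add_left : ∀ x y z, h (x + y) z = h x z + h y z
  smul_left : ∀ a x z, h (a • x) z = a * h x z
  self : ∀ x, h x x = 0
  swap : ∀ x y, h x y = h y x

namespace SS

variable {F V : Type*} [Field F] [AddCommGroup V] [Module F V] (H : SS F V)

theorem add_right (x y z : V) : H.h x (y + z) = H.h x y + H.h x z := by
  rw [H.swap, H.add_left, H.swap y, H.swap z]

theorem smul_right (a : F) (x y : V) : H.h x (a • y) = a * H.h x y := by
  rw [H.swap, H.smul_left, H.swap y]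

theorem zero_left (x : V) : H.h 0 x = 0 := by
  have := H.smul_left 0 0 x
  rwa [zero_smul, zero_mul] at this

theorem zero_right (x : V) : H.h x 0 = 0 := by
  rw [H.swap, H.zero_left]

theorem neg_left (x y : V) : H.h (-x) y = - H.h x y := by
  have := H.smul_left (-1) x y
  rwa [neg_one_smul, neg_one_mul] at this

theorem sub_left (x y z : V) : H.h (x - y) z = H.h x z - H.h y z := by
  rw [sub_eq_add_neg, H.add_left, H.neg_left, sub_eq_add_neg]

theorem sub_right (x y z : V) : H.h x (y - z) = H.h x y - H.h x z := by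
  rw [H.swap, H.sub_left, H.swap y, H.swap z]

include H in
theorem add_self (a : F) : a + a = 0 := by
  linear_combination a * H.two

include H in
theorem vadd_self (v : V) : v + v = 0 := by
  rw [← two_smul F v, H.two, zero_smul]

include H in
theorem neg_eq (a : F) : -a = a := by
  linear_combination (-a) * H.two

include H in
theorem vneg_eq (v : V) : -v = v := by
  rw [neg_eq_iff_add_eq_zero, H.vadd_self]

/-- the linear functional `x ↦ h x w` -/
def fn (w : V) : Module.Dual F V where
  toFun x := H.h x w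
  map_add' x y := H.add_left x y w
  map_smul' a x := H.smul_left a x w

@[simp] theorem fn_apply (w x : V) : H.fn w x = H.h x w := rfl

/-- `T` preserves the form -/
def Iso (T : End F V) : Prop := ∀ x y, H.h (T x) (T y) = H.h x y

/-- the map `x ↦ x + h x e • w + h x w • e + (c * h x e) • e` -/
def sgMap (e w : V) (c : F) : End F V :=
  1 + (H.fn e).smulRight w + (H.fn w).smulRight e + (c • H.fn e).smulRight e

theorem sgMap_apply (e w : V) (c : F) (x : V) :
    H.sgMap e w c x = x + H.h x e • w + H.h x w • e + (c * H.h x e) • e := rfl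

theorem sgMap_iso {e w : V} {c : F} (hw : H.h w e = 0) : H.Iso (H.sgMap e w c) := by
  intro x y
  have hw' : H.h e w = 0 := by rw [H.swap, hw]
  have e1 : H.h e y = H.h y e := H.swap _ _
  have e2 : H.h w y = H.h y w := H.swap _ _
  rw [H.sgMap_apply, H.sgMap_apply]
  simp only [H.add_left, H.smul_left, H.add_right, H.smul_right]
  rw [H.self, H.self, hw, hw', e1, e2]
  linear_combination (H.h x w * H.h y e + H.h x e * H.h y w + c * H.h x e * H.h y e) * H.two

/-- the transvection `x ↦ x + (c * h x e) • e` -/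
def tvMap (e : V) (c : F) : End F V := 1 + (c • H.fn e).smulRight e

theorem tvMap_apply (e : V) (c : F) (x : V) : H.tvMap e c x = x + (c * H.h x e) • e := rfl

theorem tvMap_iso (e : V) (c : F) : H.Iso (H.tvMap e c) := by
  intro x y
  have e1 : H.h e y = H.h y e := H.swap _ _
  rw [H.tvMap_apply, H.tvMap_apply]
  simp only [H.add_left, H.smul_left, H.add_right, H.smul_right]
  rw [H.self, e1]
  linear_combination (c * H.h x e * H.h y e) * H.two

/-- the map `e ↦ s e, f ↦ s⁻¹ f`, identity on `{e,f}^⊥` -/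
def dMap (e f : V) (s : F) : End F V :=
  1 + ((s - 1) • H.fn f).smulRight e + ((s⁻¹ - 1) • H.fn e).smulRight f

theorem dMap_apply (e f : V) (s : F) (x : V) :
    H.dMap e f s x = x + ((s - 1) * H.h x f) • e + ((s⁻¹ - 1) * H.h x e) • f := rfl

theorem dMap_iso {e f : V} {s : F} (hef : H.h e f = 1) (hs : s ≠ 0) : H.Iso (H.dMap e f s) := by
  intro x y
  have hfe : H.h f e = 1 := by rw [H.swap, hef]
  have e1 : H.h e y = H.h y e := H.swap _ _
  have e2 : H.h f y = H.h y f := H.swap _ _
  rw [H.dMap_apply, H.dMap_apply]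
  simp only [H.add_left, H.smul_left, H.add_right, H.smul_right]
  rw [H.self, H.self, hef, hfe, e1, e2]
  have h1 : s * s⁻¹ = 1 := mul_inv_cancel₀ hs
  linear_combination (H.h x f * H.h y e + H.h x e * H.h y f) * h1

/-- symmetric combination on a totally isotropic triple -/
def aMap (e : Fin 3 → V) (s : Matrix (Fin 3) (Fin 3) F) : End F V :=
  1 + ∑ i, ∑ j, (s i j • H.fn (e i)).smulRight (e j)

theorem aMap_apply (e : Fin 3 → V) (s : Matrix (Fin 3) (Fin 3) F) (x : V) :
    H.aMap e s x = x + ∑ i, ∑ j, (s i j * H.h x (e i)) • e j := by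
  simp [aMap, LinearMap.sum_apply]

theorem sum_left {ι : Type*} (s : Finset ι) (f : ι → V) (y : V) :
    H.h (∑ i ∈ s, f i) y = ∑ i ∈ s, H.h (f i) y := by
  classical
  induction s using Finset.induction_on with
  | empty => simp [H.zero_left]
  | insert a s ha ih => rw [Finset.sum_insert ha, Finset.sum_insert ha, H.add_left, ih]

theorem sum_right {ι : Type*} (s : Finset ι) (f : ι → V) (y : V) :
    H.h y (∑ i ∈ s, f i) = ∑ i ∈ s, H.h y (f i) := by
  rw [H.swap, H.sum_left]
  exact Finset.sum_congr rfl fun i _ => H.swap _ _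

theorem aMap_iso {e : Fin 3 → V} {s : Matrix (Fin 3) (Fin 3) F} (he : ∀ i j, H.h (e i) (e j) = 0)
    (hs : ∀ i j, s i j = s j i) : H.Iso (H.aMap e s) := by
  intro x y
  rw [H.aMap_apply, H.aMap_apply, H.add_left, H.add_right, H.add_right]
  have h1 : H.h (∑ i, ∑ j, (s i j * H.h x (e i)) • e j) y = ∑ i, ∑ j, s i j * H.h x (e i) * H.h y (e j) := by
    rw [H.sum_left]
    refine Finset.sum_congr rfl fun i _ => ?_
    rw [H.sum_left]
    refine Finset.sum_congr rfl fun j _ => ?_
    rw [H.smul_left, H.swap (e j)]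
  have h2 : H.h x (∑ i, ∑ j, (s i j * H.h y (e i)) • e j) = ∑ i, ∑ j, s i j * H.h x (e i) * H.h y (e j) := by
    rw [H.sum_right]
    have : ∀ i, H.h x (∑ j, (s i j * H.h y (e i)) • e j) = ∑ j, s i j * H.h y (e i) * H.h x (e j) := by
      intro i
      rw [H.sum_right]
      exact Finset.sum_congr rfl fun j _ => H.smul_right _ _ _
    rw [Finset.sum_congr rfl fun i _ => this i, Finset.sum_comm]
    refine Finset.sum_congr rfl fun i _ => Finset.sum_congr rfl fun j _ => ?_
    rw [hs j i]
    ring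
  have h3 : H.h (∑ i, ∑ j, (s i j * H.h x (e i)) • e j) (∑ i, ∑ j, (s i j * H.h y (e i)) • e j) = 0 := by
    rw [H.sum_left]
    refine Finset.sum_eq_zero fun i _ => ?_
    rw [H.sum_left]
    refine Finset.sum_eq_zero fun j _ => ?_
    rw [H.smul_left, H.sum_right]
    refine mul_eq_zero_of_right _ (Finset.sum_eq_zero fun k _ => ?_)
    rw [H.sum_right]
    refine Finset.sum_eq_zero fun l _ => ?_
    rw [H.smul_right, he, mul_zero]
  rw [h1, h2, h3, add_zero, add_assoc, H.add_self, add_zero]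

/-! ### nondegenerate subspaces -/

/-- nondegenerate subspace -/
def Nd (U : Submodule F V) : Prop := ∀ x ∈ U, (∀ y ∈ U, H.h x y = 0) → x = 0

variable {H} {U : Submodule F V}

theorem Nd.exists_ne (hU : H.Nd U) {x : V} (hx : x ∈ U) (hx0 : x ≠ 0) : ∃ y ∈ U, H.h x y ≠ 0 := by
  by_contra hc
  push Not at hc
  exact hx0 (hU x hx hc)

theorem Nd.exists_pair (hU : H.Nd U) {e : V} (heU : e ∈ U) (he0 : e ≠ 0) :
    ∃ f ∈ U, H.h e f = 1 := by
  obtain ⟨y, hy, hey⟩ := hU.exists_ne heU he0
  exact ⟨(H.h e y)⁻¹ • y, U.smul_mem _ hy, by rw [H.smul_right, inv_mul_cancel₀ hey]⟩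

theorem Nd.exists_common (hU : H.Nd U) {e v : V} (heU : e ∈ U) (he0 : e ≠ 0)
    (hvU : v ∈ U) (hv0 : v ≠ 0) : ∃ f ∈ U, H.h e f ≠ 0 ∧ H.h v f ≠ 0 := by
  obtain ⟨y1, hy1, h1⟩ := hU.exists_ne heU he0
  obtain ⟨y2, hy2, h2⟩ := hU.exists_ne hvU hv0
  by_cases h3 : H.h v y1 = 0
  · by_cases h4 : H.h e y2 = 0
    · refine ⟨y1 + y2, U.add_mem hy1 hy2, ?_, ?_⟩
      · rwa [H.add_right, h4, add_zero]
      · rwa [H.add_right, h3, zero_add]
    · exact ⟨y2, hy2, h4, h2⟩
  · exact ⟨y1, hy1, h1, h3⟩

/-- the orthogonal complement of a hyperbolic pair in `U` -/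
def perp (H : SS F V) (U : Submodule F V) (e f : V) : Submodule F V :=
  U ⊓ LinearMap.ker (H.fn e) ⊓ LinearMap.ker (H.fn f)

theorem mem_perp {e f x : V} : x ∈ H.perp U e f ↔ x ∈ U ∧ H.h x e = 0 ∧ H.h x f = 0 := by
  simp [perp, and_assoc]

theorem Nd.perp (hU : H.Nd U) {e f : V} (heU : e ∈ U) (hfU : f ∈ U) (hef : H.h e f = 1) :
    H.Nd (H.perp U e f) := by
  intro x hx hxy
  rw [mem_perp] at hx
  have hfe : H.h f e = 1 := by rw [H.swap, hef]
  refine hU x hx.1 fun y hy => ?_
  have h1 : y - H.h y f • e - H.h y e • f ∈ H.perp U e f := by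
    rw [mem_perp]
    refine ⟨U.sub_mem (U.sub_mem hy (U.smul_mem _ heU)) (U.smul_mem _ hfU), ?_, ?_⟩
    · rw [H.sub_left, H.sub_left, H.smul_left, H.smul_left, H.self, hfe]
      ring
    · rw [H.sub_left, H.sub_left, H.smul_left, H.smul_left, H.self, hef]
      ring
  have h2 := hxy _ h1
  rw [H.sub_right, H.sub_right, H.smul_right, H.smul_right, hx.2.1, hx.2.2, mul_zero, mul_zero,
    sub_zero, sub_zero] at h2
  exact h2

theorem finrank_perp [FiniteDimensional F V] {e f : V} (heU : e ∈ U) (hfU : f ∈ U)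
    (hef : H.h e f = 1) : finrank F (H.perp U e f) + 2 = finrank F U := by
  have hfe : H.h f e = 1 := by rw [H.swap, hef]
  let φ : U →ₗ[F] F × F := ((H.fn e).prod (H.fn f)).comp U.subtype
  have hφ : ∀ x : U, φ x = (H.h x e, H.h x f) := fun _ => rfl
  have h1 := LinearMap.finrank_range_add_finrank_ker φ
  have h2 : LinearMap.range φ = ⊤ := by
    rw [LinearMap.range_eq_top]
    rintro ⟨a, b⟩
    refine ⟨⟨b • e + a • f, U.add_mem (U.smul_mem _ heU) (U.smul_mem _ hfU)⟩, ?_⟩
    rw [hφ]
    simp [H.add_left, H.smul_left, H.self, hef, hfe]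
  have h3 : finrank F (LinearMap.ker φ) = finrank F (H.perp U e f) := by
    have h4 : (LinearMap.ker φ).map U.subtype = H.perp U e f := by
      ext x
      rw [mem_perp, Submodule.mem_map]
      constructor
      · rintro ⟨y, hy, rfl⟩
        rw [LinearMap.mem_ker, hφ, Prod.mk_eq_zero] at hy
        exact ⟨y.2, hy⟩
      · rintro ⟨hx, h5⟩
        refine ⟨⟨x, hx⟩, ?_, rfl⟩
        rw [LinearMap.mem_ker, hφ, Prod.mk_eq_zero]
        exact h5
    rw [← h4]
    exact (LinearEquiv.finrank_eq
      (Submodule.equivMapOfInjective U.subtype (Submodule.injective_subtype U) _))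
  rw [h2, finrank_top, h3, Module.finrank_prod, Module.finrank_self] at h1
  omega

/-- a partner of `e` orthogonal to `e'` -/
theorem Nd.exists_partner (hU : H.Nd U) {e e' : V} (heU : e ∈ U)
    (heU' : e' ∈ U) (he0' : e' ≠ 0)
    (hind : ∀ a : F, e ≠ a • e') : ∃ f ∈ U, H.h e f = 1 ∧ H.h e' f = 0 := by
  obtain ⟨f', hfU', hef'⟩ := hU.exists_pair heU' he0'
  set u : V := e - H.h e f' • e' with hu
  have hu0 : u ≠ 0 := fun h => hind _ (sub_eq_zero.1 h)
  have huU : u ∈ U := U.sub_mem heU (U.smul_mem _ heU')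
  obtain ⟨y, hy, huy⟩ := hU.exists_ne huU hu0
  set y' : V := y - H.h y e' • f' with hy'
  have hyU' : y' ∈ U := U.sub_mem hy (U.smul_mem _ hfU')
  have h1 : H.h e' y' = 0 := by
    rw [hy', H.sub_right, H.smul_right, hef', mul_one, H.swap, sub_self]
  have h2 : H.h e y' = H.h u y := by
    rw [hy', H.sub_right, H.smul_right, hu, H.sub_left, H.smul_left, H.swap y e']
    ring
  have h3 : H.h e y' ≠ 0 := by rwa [h2]
  refine ⟨(H.h e y')⁻¹ • y', U.smul_mem _ hyU', ?_, ?_⟩
  · rw [H.smul_right, inv_mul_cancel₀ h3]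
  · rw [H.smul_right, h1, mul_zero]

end SS

end Cfsg.Agent.H119
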