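import Cfsg.Agent.H119.SpInd
import Cfsg.Agent.H120.Irr
import Cfsg.Agent.S0765

/-!
# The minimal degree of `Sp_2n(q)`, `q` even
-/

set_option autoImplicit false

namespace Cfsg.Agent.H119.SpBound

open Cfsg Module Matrix Cfsg.Agent.H120 Cfsg.Agent.S0765

variable {F : Type*} [Field F]

/-- the standard symplectic space in characteristic two -/
def std (h2 : (2 : F) = 0) (n : ℕ) : SS F (Fin n ⊕ Fin n → F) where
  two := h2
  h := sympForm n F
  add_left := form_add_left
  smul_left := form_smul_left
  self := form_self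
  swap x y := by
    rw [form_swap]
    linear_combination (-(sympForm n F y x)) * h2

theorem std_h (h2 : (2 : F) = 0) (n : ℕ) (x y : Fin n ⊕ Fin n → F) :
    (std h2 n).h x y = sympForm n F x y := rfl

/-- the symplectic group as a group of isometries -/
def grp (h2 : (2 : F) = 0) (n : ℕ) : SG (std h2 n) (Matrix.symplecticGroup (Fin n) F) where
  π :=
    { toFun := fun g => Matrix.mulVecLin g.1
      map_one' := by
        change Matrix.mulVecLin (1 : Matrix (Fin n ⊕ Fin n) (Fin n ⊕ Fin n) F) = 1
        rw [Matrix.mulVecLin_one]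
        rfl
      map_mul' := fun g k => by
        change Matrix.mulVecLin (g.1 * k.1) = _
        rw [Matrix.mulVecLin_mul]
        rfl }
  inj := by
    intro g k h
    apply Subtype.ext
    have h1 : Matrix.mulVecLin g.1 = Matrix.mulVecLin k.1 := h
    exact Matrix.toLin'.injective h1
  iso g x y := form_mulVec g.1 g.2 x y
  ex T hT := by
    have h1 : LinearMap.toMatrix' T ∈ Matrix.symplecticGroup (Fin n) F := by
      rw [SymplecticGroup.mem_iff']
      ext i j
      have h3 := hT (Pi.single i 1) (Pi.single j 1)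
      rw [← LinearMap.toMatrix'_mulVec T (Pi.single i 1),
        ← LinearMap.toMatrix'_mulVec T (Pi.single j 1)] at h3
      rw [std_h, std_h, form_def, form_def, Matrix.mulVec_mulVec, ← Matrix.vecMul_transpose,
        ← Matrix.dotProduct_mulVec, Matrix.mulVec_mulVec, ← Matrix.mul_assoc] at h3
      simpa using h3
    refine ⟨⟨LinearMap.toMatrix' T, h1⟩, ?_⟩
    refine LinearMap.ext fun x => ?_
    change LinearMap.toMatrix' T *ᵥ x = T x
    rw [LinearMap.toMatrix'_mulVec]

theorem grp_apply (h2 : (2 : F) = 0) (n : ℕ) (g : Matrix.symplecticGroup (Fin n) F)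
    (x : Fin n ⊕ Fin n → F) : (grp h2 n).π g x = g.1 *ᵥ x := rfl

/-- the general bound -/
theorem bound_of_not_triv [Fintype F] (h2 : (2 : F) = 0) {n : ℕ} {M : Type*}
    [AddCommGroup M] [Module ℂ M] [FiniteDimensional ℂ M]
    (ρ : Representation ℂ (Matrix.symplecticGroup (Fin n) F) M) (e : Fin n ⊕ Fin n → F)
    (he0 : e ≠ 0) (h : ¬ ∀ m, m ∈ (grp h2 n).Fx ρ e) : bs (Fintype.card F) n ≤ finrank ℂ M := by
  have hU : (std h2 n).Nd (⊤ : Submodule F (Fin n ⊕ Fin n → F)) := by
    intro x _ hx
    by_contra hx0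
    obtain ⟨y, hy⟩ := form_nondeg x hx0
    apply hy
    rw [← std_h h2, (std h2 n).swap]
    exact hx y Submodule.mem_top
  have h1 := (grp h2 n).main ρ n ⊤ (by simp; omega) hU ⊤
    (fun _ _ _ _ => Submodule.mem_top)
    ⟨e, Submodule.mem_top, he0, fun hle => h fun m => hle Submodule.mem_top⟩
  rwa [finrank_top] at h1

theorem bound [Fintype F] (h2 : (2 : F) = 0) {n : ℕ} {M : Type*}
    [AddCommGroup M] [Module ℂ M] [FiniteDimensional ℂ M]
    (ρ : Representation ℂ (Matrix.symplecticGroup (Fin n) F) M) (hρ : ρ.IsIrreducible)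
    (hM : 2 ≤ finrank ℂ M) : bs (Fintype.card F) n ≤ finrank ℂ M := by
  by_contra hlt
  have htriv : ∀ e : Fin n ⊕ Fin n → F, e ≠ 0 → ∀ m, m ∈ (grp h2 n).Fx ρ e := by
    intro e he0
    by_contra hc
    exact hlt (bound_of_not_triv h2 ρ e he0 hc)
  obtain ⟨g, hg⟩ := exists_ne_one ρ hρ hM
  apply hg
  have hgen := Cfsg.Agent.S0765.result (F := F) n
  have hker : (⊤ : Subgroup (Matrix.symplecticGroup (Fin n) F)) ≤ MonoidHom.ker ρ := by
    rw [← hgen, Subgroup.closure_le]
    rintro A ⟨v, c, hA⟩
    have hact : ∀ x, A.1 *ᵥ x = x + (c * sympForm n F x v) • v := by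
      intro x
      rw [hA]
      exact trans_mulVec v x c
    by_cases hv0 : v = 0
    · have : A = 1 := by
        apply (grp h2 n).ext
        intro x
        rw [grp_apply, hact, hv0, smul_zero, add_zero, (grp h2 n).π_one]
      rw [this]
      exact map_one ρ
    · have hAeq : A = (grp h2 n).tv v c := by
        apply (grp h2 n).ext
        intro x
        rw [(grp h2 n).π_tv, grp_apply, hact, std_h]
      rw [hAeq]
      change ρ _ = 1
      exact LinearMap.ext fun m => htriv v hv0 m c
  exact hker (Subgroup.mem_top g)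

end Cfsg.Agent.H119.SpBound
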