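import Cfsg.Agent.H119.SpQuad

/-!
# Lower bound for the degrees of representations of symplectic groups in characteristic two

`SG.main` : if `U` is nondegenerate of dimension `2 n` and `N` is a subspace invariant under the
isometries fixing `U^⊥` pointwise on which some transvection of `U` acts non-trivially, then
`bs q n ≤ finrank N`, `2 (q + 1) * bs q n = (q ^ n - 1) (q ^ n - q)`.
-/

set_option autoImplicit false

namespace Cfsg.Agent.H119

open Module Cfsg.Agent.H120

/-- the bound -/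
def bs (q : ℕ) : ℕ → ℕ
  | 0 => 0
  | (n + 1) => (q - 1) * (q ^ n * (q ^ n - 1) / 2) + bs q n

theorem bs_eq {q : ℕ} (hq : 1 ≤ q) (n : ℕ) : (2 * (q + 1)) * bs q n = (q ^ n - 1) * (q ^ n - q) := by
  induction n with
  | zero => simp [bs]
  | succ n ih =>
    rw [bs, mul_add, ih]
    have hK : 1 ≤ q ^ n := Nat.one_le_pow _ _ hq
    obtain ⟨L, hL⟩ : ∃ L, q ^ n = L + 1 := ⟨q ^ n - 1, by omega⟩
    have heven : 2 * (q ^ n * (q ^ n - 1) / 2) = q ^ n * (q ^ n - 1) := by
      refine Nat.mul_div_cancel' ?_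
      have h1 := Nat.even_mul_pred_self (q ^ n)
      exact h1.two_dvd
    have h1 : 2 * (q + 1) * ((q - 1) * (q ^ n * (q ^ n - 1) / 2)) =
        (q + 1) * (q - 1) * (q ^ n * (q ^ n - 1)) := by
      calc 2 * (q + 1) * ((q - 1) * (q ^ n * (q ^ n - 1) / 2)) =
          (q + 1) * (q - 1) * (2 * (q ^ n * (q ^ n - 1) / 2)) := by ring
        _ = _ := by rw [heven]
    rw [h1]
    rcases Nat.eq_zero_or_pos n with h0 | h0
    · subst h0
      simp
    · have hKq : q ≤ q ^ n := by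
        calc q = q ^ 1 := (pow_one q).symm
          _ ≤ q ^ n := Nat.pow_le_pow_right hq h0
      rw [pow_succ, hL] at *
      obtain ⟨r, hr⟩ : ∃ r, q = r + 1 := ⟨q - 1, by omega⟩
      obtain ⟨d, hd⟩ : ∃ d, L + 1 = q + d := ⟨L + 1 - q, by omega⟩
      have e1 : L + 1 - q = d := by omega
      have e2 : (L + 1) * q - q = L * q := by
        rw [add_mul, one_mul, Nat.add_sub_cancel]
      have e3 : (L + 1) * q - 1 = (L + 1) * r + L := by
        rw [hr]
        have : (L + 1) * (r + 1) = (L + 1) * r + L + 1 := by ring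
        rw [this, Nat.add_sub_cancel]
      have e4 : q - 1 = r := by omega
      rw [e1, e2, e3, e4, Nat.add_sub_cancel]
      have e5 : L = r + d := by omega
      rw [e5, hr]
      ring

variable {F V : Type*} [Field F] [AddCommGroup V] [Module F V]

/-- the symmetric matrix with given entries -/
def mt (s : Fin 6 → F) : Matrix (Fin 3) (Fin 3) F := !![s 0, s 3, s 4; s 3, s 1, s 5; s 4, s 5, s 2]

omit [Field F] in
theorem mt_symm (s : Fin 6 → F) (i j : Fin 3) : mt s i j = mt s j i := by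
  fin_cases i <;> fin_cases j <;> rfl

theorem mt_add (s t : Fin 6 → F) : mt (s + t) = mt s + mt t := by
  ext i j
  fin_cases i <;> fin_cases j <;> rfl

theorem mt_zero : mt (0 : Fin 6 → F) = 0 := by
  ext i j
  fin_cases i <;> fin_cases j <;> rfl

theorem mt_vec (a : Fin 3 → F) (c : F) :
    mt ![c * (a 0 * a 0), c * (a 1 * a 1), c * (a 2 * a 2), c * (a 0 * a 1), c * (a 0 * a 2),
      c * (a 1 * a 2)] = Matrix.of fun i j => c * (a i * a j) := by
  ext i j
  fin_cases i <;> fin_cases j <;> first | rfl | (change c * _ = c * _; rw [mul_comm (a _)]; rfl)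

theorem char_sum {A : Type*} [AddCommGroup A] (χ : AddChar A ℂ) {ι : Type*} (s : Finset ι)
    (f : ι → A) : χ (∑ i ∈ s, f i) = ∏ i ∈ s, χ (f i) := by
  classical
  induction s using Finset.induction_on with
  | empty => simp
  | insert a s ha ih => rw [Finset.sum_insert ha, Finset.prod_insert ha, AddChar.map_add_eq_mul, ih]

namespace SG

variable {H : SS F V} {G : Type*} [Group G] (S : SG H G)
  {M : Type*} [AddCommGroup M] [Module ℂ M] (ρ : Representation ℂ G M)

/-- **the abelian group of a totally isotropic triple** -/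
theorem le_of_fx [Fintype F] {ψ : AddChar F ℂ} (hψ : ψ ≠ 0) {U : Submodule F V} (e : Fin 3 → V)
    (heU : ∀ i, e i ∈ U) (he : ∀ i j, H.h (e i) (e j) = 0)
    (hind : ∀ a : Fin 3 → F, a ≠ 0 → ∑ i, a i • e i ≠ 0) (N : Submodule ℂ M)
    (hN : ∀ g ∈ S.fixG U, ∀ m ∈ N, ρ g m ∈ N) (X : Submodule ℂ M)
    (hX : ∀ v ∈ U, v ≠ 0 → N ⊓ S.Fx ρ v ≤ X) : N ≤ X := by
  classical
  let T : AddAct (Fin 6 → F) M :=
    { toFun := fun s => ρ (S.am e (mt s))
      map_zero' := by rw [mt_zero, S.am_zero he, map_one]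
      map_add' := fun s t => by
        rw [mt_add, S.am_add he (mt_symm s) (mt_symm t), map_mul] }
  have hamU : ∀ s, S.am e (mt s) ∈ S.fixG U := by
    intro s x hx
    rw [S.π_am he (mt_symm s)]
    have : ∀ i, H.h x (e i) = 0 := fun i => hx _ (heU i)
    simp [this]
  refine le_of_wt T N (fun s m hm => hN _ (hamU s) m hm) X fun χ => ?_
  rintro m ⟨hmN, hχ⟩
  have hk : ∀ i : Fin 6, ∃ k : F, ∀ s : F, χ (Pi.single i s) = ψ (k * s) := by
    intro i
    obtain ⟨k, hk⟩ := mulShift_surj hψ (χ.compAddMonoidHom (AddMonoidHom.single (fun _ => F) i))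
    refine ⟨k, fun s => ?_⟩
    have := DFunLike.congr_fun hk s
    rw [AddChar.mulShift_apply] at this
    exact this.symm
  choose k hk using hk
  have hχs : ∀ s : Fin 6 → F, χ s = ψ (∑ i, k i * s i) := by
    intro s
    conv_lhs => rw [← Finset.univ_sum_single s]
    rw [char_sum, char_sum]
    exact Finset.prod_congr rfl fun i _ => hk i (s i)
  obtain ⟨a, b, c, hne, hzero⟩ := CharTwo.exists_ternary H.two (k 0) (k 1) (k 2) (k 3) (k 4) (k 5)
  have ha0 : (![a, b, c] : Fin 3 → F) ≠ 0 := by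
    intro h
    have h0 := congrFun h 0
    have h1 := congrFun h 1
    have h2 := congrFun h 2
    simp at h0 h1 h2
    rcases hne with h3 | h3 | h3
    · exact h3 h0
    · exact h3 h1
    · exact h3 h2
  refine hX _ (U.sum_mem fun i _ => U.smul_mem _ (heU i)) (hind _ ha0) ⟨hmN, fun d => ?_⟩
  rw [← S.am_vec he, ← mt_vec]
  have h1 := hχ ![d * ((![a, b, c] : Fin 3 → F) 0 * (![a, b, c] : Fin 3 → F) 0),
    d * ((![a, b, c] : Fin 3 → F) 1 * (![a, b, c] : Fin 3 → F) 1),
    d * ((![a, b, c] : Fin 3 → F) 2 * (![a, b, c] : Fin 3 → F) 2),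
    d * ((![a, b, c] : Fin 3 → F) 0 * (![a, b, c] : Fin 3 → F) 1),
    d * ((![a, b, c] : Fin 3 → F) 0 * (![a, b, c] : Fin 3 → F) 2),
    d * ((![a, b, c] : Fin 3 → F) 1 * (![a, b, c] : Fin 3 → F) 2)]
  refine Eq.trans h1 ?_
  rw [hχs]
  have h2 : (∑ i : Fin 6, k i * (![d * ((![a, b, c] : Fin 3 → F) 0 * (![a, b, c] : Fin 3 → F) 0),
    d * ((![a, b, c] : Fin 3 → F) 1 * (![a, b, c] : Fin 3 → F) 1),
    d * ((![a, b, c] : Fin 3 → F) 2 * (![a, b, c] : Fin 3 → F) 2),
    d * ((![a, b, c] : Fin 3 → F) 0 * (![a, b, c] : Fin 3 → F) 1),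
    d * ((![a, b, c] : Fin 3 → F) 0 * (![a, b, c] : Fin 3 → F) 2),
    d * ((![a, b, c] : Fin 3 → F) 1 * (![a, b, c] : Fin 3 → F) 2)] : Fin 6 → F) i) = 0 := by
    rw [Fin.sum_univ_six]
    change k 0 * (d * (a * a)) + k 1 * (d * (b * b)) + k 2 * (d * (c * c)) + k 3 * (d * (a * b)) +
      k 4 * (d * (a * c)) + k 5 * (d * (b * c)) = 0
    linear_combination d * hzero
  rw [h2, AddChar.map_zero_eq_one, one_smul]

variable [FiniteDimensional F V] [FiniteDimensional ℂ M]

theorem part_one [Fintype F] {ψ : AddChar F ℂ} (hψ : ψ ≠ 0)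
    (hψ2 : ∀ s, ψ (s * s) = ψ s) (hψ3 : ∀ x, ψ x = 1 → ∃ t, t * t + t = x)
    {U : Submodule F V} (hU : H.Nd U) {n : ℕ} (hdim : finrank F U = 2 * n + 2) {e : V}
    (heU : e ∈ U) (he0 : e ≠ 0) (N : Submodule ℂ M)
    (hN : ∀ g ∈ S.fixG U, ∀ m ∈ N, ρ g m ∈ N) (hne : ¬ N ≤ S.Fx ρ e) :
    finrank ℂ (N ⊓ S.Fx ρ e : Submodule ℂ M) +
      (Fintype.card F - 1) * (Fintype.card F ^ n * (Fintype.card F ^ n - 1) / 2) ≤ finrank ℂ N := by
  obtain ⟨f, hfU, hef⟩ := hU.exists_pair heU he0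
  refine S.torus ρ N (fun c m hm => hN _ (S.tv_mem_fixG c heU) m hm) ?_ hne hψ _ ?_
  · intro t ht
    refine ⟨S.dg e f t, ?_, ?_⟩
    · rw [S.π_dg hef ht, hef, H.self]
      simp [sub_smul]
    · intro m hm
      refine hN _ ((S.fixG U).inv_mem ?_) m hm
      intro x hx
      rw [S.π_dg hef ht, hx e heU, hx f hfU]
      simp
  · intro hψN
    exact S.quad ρ hU heU hfU hef N hN hψ hψ2 hψ3 n hdim hψN

/-- **the lower bound** -/
theorem main [Fintype F] (n : ℕ) : ∀ U : Submodule F V, finrank F U = 2 * n → H.Nd U →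
    ∀ N : Submodule ℂ M, (∀ g ∈ S.fixG U, ∀ m ∈ N, ρ g m ∈ N) →
    (∃ e ∈ U, e ≠ 0 ∧ ¬ N ≤ S.Fx ρ e) → bs (Fintype.card F) n ≤ finrank ℂ N := by
  obtain ⟨ψ, hψ, hψ2, hψ3⟩ := CharTwo.exists_canon H.two
  induction n with
  | zero =>
    intro U _ _ N _ _
    exact Nat.zero_le _
  | succ n ih =>
  intro U hdim hU N hN hex
  obtain ⟨e₀, heU₀, he₀0, hne₀⟩ := hex
  have hall : ∀ e ∈ U, e ≠ 0 → ¬ N ≤ S.Fx ρ e := by
    intro e heU he0 hle
    exact hne₀ (S.triv_all ρ hU heU₀ heU he₀0 he0 N hN hle)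
  rcases Nat.lt_or_ge n 2 with hn2 | hn2
  · have h1 := S.part_one ρ hψ hψ2 hψ3 hU (n := n) (by omega) heU₀ he₀0 N hN hne₀
    have h2 : bs (Fintype.card F) n = 0 := by
      interval_cases n
      · rfl
      · simp [bs]
    rw [bs, h2]
    omega
  -- a pair of orthogonal vectors with different fixed spaces
  obtain ⟨e, heU, he0, e', heU', he0', hee, hnle⟩ :
      ∃ e ∈ U, ∃ _ : e ≠ 0, ∃ e' ∈ U, ∃ _ : e' ≠ 0,
        ∃ _ : H.h e' e = 0, ¬ (N ⊓ S.Fx ρ e ≤ S.Fx ρ e') := by
    by_contra hcon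
    push Not at hcon
    have hcon' : ∀ e ∈ U, e ≠ 0 → ∀ e' ∈ U, e' ≠ 0 → H.h e' e = 0 → N ⊓ S.Fx ρ e ≤ S.Fx ρ e' := hcon
    -- three mutually orthogonal vectors
    obtain ⟨f, hfU, hef⟩ := hU.exists_pair heU₀ he₀0
    have hP := hU.perp heU₀ hfU hef
    have hPdim := SS.finrank_perp (H := H) heU₀ hfU hef
    obtain ⟨⟨e₁, he₁P⟩, he₁0⟩ : ∃ x : H.perp U e₀ f, x ≠ 0 := by
      have : Nontrivial (H.perp U e₀ f) := Module.nontrivial_of_finrank_pos (R := F) (by omega)
      exact exists_ne 0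
    have he₁0' : e₁ ≠ 0 := fun h => he₁0 (Subtype.ext h)
    obtain ⟨f₁, hf₁P, hef₁⟩ := hP.exists_pair he₁P he₁0'
    have hP₁ := hP.perp he₁P hf₁P hef₁
    have hP₁dim := SS.finrank_perp (H := H) he₁P hf₁P hef₁
    obtain ⟨⟨e₂, he₂P⟩, he₂0⟩ : ∃ x : H.perp (H.perp U e₀ f) e₁ f₁, x ≠ 0 := by
      have : Nontrivial (H.perp (H.perp U e₀ f) e₁ f₁) :=
        Module.nontrivial_of_finrank_pos (R := F) (by omega)
      exact exists_ne 0
    have he₂0' : e₂ ≠ 0 := fun h => he₂0 (Subtype.ext h)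
    have h1 := SS.mem_perp.1 he₁P
    have h1f := SS.mem_perp.1 hf₁P
    have h2 := SS.mem_perp.1 he₂P
    have h2' := SS.mem_perp.1 h2.1
    apply hall e₀ heU₀ he₀0
    refine S.le_of_fx ρ hψ ![e₀, e₁, e₂] ?_ ?_ ?_ N hN _ ?_
    · intro i
      fin_cases i
      · exact heU₀
      · exact h1.1
      · exact h2'.1
    · intro i j
      fin_cases i <;> fin_cases j
      · exact H.self _
      · exact (H.swap _ _).trans h1.2.1
      · exact (H.swap _ _).trans h2'.2.1
      · exact h1.2.1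
      · exact H.self _
      · exact (H.swap _ _).trans h2.2.1
      · exact h2'.2.1
      · exact h2.2.1
      · exact H.self _
    · intro a ha hsum
      apply ha
      rw [Fin.sum_univ_three] at hsum
      change a 0 • e₀ + a 1 • e₁ + a 2 • e₂ = 0 at hsum
      have g0 : a 0 = 0 := by
        have h3 := congrArg (fun v => H.h v f) hsum
        simp only [H.add_left, H.smul_left, hef, h1.2.2, h2'.2.2, mul_zero, add_zero, mul_one,
          H.zero_left] at h3
        exact h3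
      have g1 : a 1 = 0 := by
        have h3 := congrArg (fun v => H.h v f₁) hsum
        simp only [H.add_left, H.smul_left, hef₁, h2.2.2, g0, zero_mul, mul_zero, add_zero, mul_one,
          zero_add, H.zero_left] at h3
        exact h3
      have g2 : a 2 = 0 := by
        rw [g0, g1, zero_smul, zero_smul, zero_add, zero_add] at hsum
        exact (smul_eq_zero.1 hsum).resolve_right he₂0'
      funext i
      fin_cases i
      · exact g0
      · exact g1
      · exact g2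
    · intro v hvU hv0
      by_cases hve : H.h e₀ v = 0
      · exact hcon' v hvU hv0 e₀ heU₀ he₀0 hve
      · set g : V := (H.h e₀ v)⁻¹ • v with hg
        have hgU : g ∈ U := U.smul_mem _ hvU
        have heg : H.h e₀ g = 1 := by rw [hg, H.smul_right, inv_mul_cancel₀ hve]
        have hQdim := SS.finrank_perp (H := H) heU₀ hgU heg
        obtain ⟨⟨x, hxQ⟩, hx0⟩ : ∃ x : H.perp U e₀ g, x ≠ 0 := by
          have : Nontrivial (H.perp U e₀ g) := Module.nontrivial_of_finrank_pos (R := F) (by omega)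
          exact exists_ne 0
        have hx0' : x ≠ 0 := fun h => hx0 (Subtype.ext h)
        have hxQ' := SS.mem_perp.1 hxQ
        have hxv : H.h x v = 0 := by
          have h3 := hxQ'.2.2
          rw [hg, H.smul_right] at h3
          exact (mul_eq_zero.1 h3).resolve_left (inv_ne_zero hve)
        have h3 := hcon' v hvU hv0 x hxQ'.1 hx0' hxv
        have h4 := hcon' x hxQ'.1 hx0' e₀ heU₀ he₀0 ((H.swap _ _).trans hxQ'.2.1)
        exact fun m hm => h4 ⟨hm.1, h3 hm⟩
  -- they are independent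
  have hind : ∀ a : F, e ≠ a • e' := by
    intro a ha
    have ha0 : a ≠ 0 := by
      rintro rfl
      rw [zero_smul] at ha
      exact he0 ha
    apply hnle
    rw [ha]
    exact inf_le_right.trans (S.Fx_smul ρ ha0)
  obtain ⟨f, hfU, hef, hef'⟩ := hU.exists_partner heU heU' he0' hind
  have hP := hU.perp heU hfU hef
  have hPdim := SS.finrank_perp (H := H) heU hfU hef
  have heP' : e' ∈ H.perp U e f := SS.mem_perp.2 ⟨heU', hee, hef'⟩
  set N' : Submodule ℂ M := N ⊓ S.Fx ρ e with hN'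
  have hle : H.perp U e f ≤ U := fun x hx => (SS.mem_perp.1 hx).1
  have hN'inv : ∀ g ∈ S.fixG (H.perp U e f), ∀ m ∈ N', ρ g m ∈ N' := by
    intro g hg m hm
    refine ⟨hN g (S.fixG_mono hle hg) m hm.1, ?_⟩
    have h1 : S.π g⁻¹ e = (1 : F) • e := by
      rw [one_smul]
      exact (S.fixG _).inv_mem hg e fun u hu => (H.swap _ _).trans (SS.mem_perp.1 hu).2.1
    have h2 := S.Fx_of_scale ρ h1 hm.2
    rwa [inv_inv] at h2
  have hA := S.part_one ρ hψ hψ2 hψ3 hU (n := n) (by omega) heU he0 N hN (hall e heU he0)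
  change finrank ℂ N' + _ ≤ _ at hA
  have hB : bs (Fintype.card F) n ≤ finrank ℂ N' :=
    ih (H.perp U e f) (by omega) hP N' hN'inv ⟨e', heP', he0', hnle⟩
  rw [bs]
  omega

end SG

end Cfsg.Agent.H119
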