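import Cfsg.Agent.H119.HS

/-!
# A group of isometries of a Hermitian space containing all those of determinant one

Elements `U.sg e w c`, `U.tor e f v t`, `U.tor2 e f e' f' t` and their relations.
-/

set_option autoImplicit false

namespace Cfsg.Agent.H119

open Module

/-- a group acting faithfully by isometries and containing all isometries of determinant one -/
structure UG {F V : Type*} [Field F] [AddCommGroup V] [Module F V] (H : HS F V) (G : Type*)
    [Group G] where
  π : G →* End F V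
  inj : Function.Injective π
  iso : ∀ g, H.Iso (π g)
  ex : ∀ T : End F V, H.Iso T → LinearMap.det T = 1 → ∃ g, π g = T

namespace UG

variable {F V : Type*} [Field F] [AddCommGroup V] [Module F V] {H : HS F V} {G : Type*}
  [Group G] (S : UG H G)

open Classical in
/-- the element with given action -/
noncomputable def elt (T : End F V) : G :=
  if h : ∃ g, S.π g = T then h.choose else 1

theorem π_elt {T : End F V} (h : H.Iso T) (hd : LinearMap.det T = 1) : S.π (S.elt T) = T := by
  have h1 := S.ex T h hd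
  rw [elt, dif_pos h1]
  exact h1.choose_spec

theorem π_mul (g k : G) (x : V) : S.π (g * k) x = S.π g (S.π k x) := by
  rw [map_mul, End.mul_apply]

theorem π_one (x : V) : S.π 1 x = x := by
  rw [map_one, End.one_apply]

theorem π_inv (g : G) (x : V) : S.π g⁻¹ (S.π g x) = x := by
  rw [← S.π_mul, inv_mul_cancel, S.π_one]

theorem π_inv' (g : G) (x : V) : S.π g (S.π g⁻¹ x) = x := by
  rw [← S.π_mul, mul_inv_cancel, S.π_one]

theorem ext {g k : G} (h : ∀ x, S.π g x = S.π k x) : g = k := S.inj (LinearMap.ext h)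

theorem h_π (g : G) (x y : V) : H.h (S.π g x) (S.π g y) = H.h x y := S.iso g x y

/-- Siegel elements -/
noncomputable def sg (e w : V) (c : F) : G := S.elt (H.sgMap e w c)

/-- transvections -/
noncomputable def tv (e : V) (c : F) : G := S.sg e 0 c

/-- torus element `e ↦ t e`, `f ↦ σ(t)⁻¹ f`, `v ↦ σ(t) t⁻¹ v` -/
noncomputable def tor (e f v : V) (t : F) : G := S.elt (H.dMap e f t * H.rMap v (H.σ t * t⁻¹))

/-- torus element `e ↦ t⁻¹ e`, `f ↦ σ(t) f`, `e' ↦ t e'`, `f' ↦ σ(t)⁻¹ f'` -/
noncomputable def tor2 (e f e' f' : V) (t : F) : G := S.elt (H.dMap e f t⁻¹ * H.dMap e' f' t)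

theorem σ_ne {t : F} (ht : t ≠ 0) : H.σ t ≠ 0 := by
  intro h
  exact ht (H.σ.injective (by rw [h, map_zero]))

variable [FiniteDimensional F V]

theorem π_sg {e w : V} {c : F} (he : H.h e e = 0) (hw : H.h w e = 0)
    (hc : c + H.σ c + H.h w w = 0) (x : V) :
    S.π (S.sg e w c) x = x + H.h x e • w - H.h x w • e + (c * H.h x e) • e := by
  rw [sg, S.π_elt (H.sgMap_iso he hw hc) (H.sgMap_det he hw), H.sgMap_apply c he]

theorem π_tv {e : V} {c : F} (he : H.h e e = 0) (hc : c + H.σ c = 0) (x : V) :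
    S.π (S.tv e c) x = x + (c * H.h x e) • e := by
  rw [tv, S.π_sg he (H.zero_left e) (by rw [H.zero_left, hc, zero_add]), H.zero_right, zero_smul,
    smul_zero, add_zero, sub_zero]

theorem π_tor {e f v : V} {t : F} (he : H.h e e = 0) (hf : H.h f f = 0) (hef : H.h e f = 1)
    (hv : H.h v v ≠ 0) (hve : H.h v e = 0) (hvf : H.h v f = 0) (ht : t ≠ 0) (x : V) :
    S.π (S.tor e f v t) x = x + ((t - 1) * H.h x f) • e + (((H.σ t)⁻¹ - 1) * H.h x e) • f +
      ((H.σ t * t⁻¹ - 1) * (H.h v v)⁻¹ * H.h x v) • v := by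
  have ht' := σ_ne (H := H) ht
  have h1 : H.Iso (H.dMap e f t * H.rMap v (H.σ t * t⁻¹)) := by
    refine (H.dMap_iso he hf hef ht).mul (H.rMap_iso hv ?_)
    rw [map_mul, map_inv₀, H.σσ]
    field_simp
  have h2 : LinearMap.det (H.dMap e f t * H.rMap v (H.σ t * t⁻¹)) = 1 := by
    rw [map_mul, H.dMap_det hef, H.rMap_det hv]
    field_simp
  rw [tor, S.π_elt h1 h2, End.mul_apply, H.rMap_apply, H.dMap_apply t he]
  rw [H.add_left, H.add_left, H.smul_left, H.smul_left, hve, hvf]
  rw [mul_zero, add_zero, add_zero]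
  abel

theorem π_tor2 {e f e' f' : V} {t : F} (he : H.h e e = 0) (hf : H.h f f = 0) (hef : H.h e f = 1)
    (he' : H.h e' e' = 0) (hf' : H.h f' f' = 0) (hef' : H.h e' f' = 1)
    (h1 : H.h e' e = 0) (h2 : H.h e' f = 0) (h3 : H.h f' e = 0) (h4 : H.h f' f = 0)
    (ht : t ≠ 0) (x : V) :
    S.π (S.tor2 e f e' f' t) x = x + ((t⁻¹ - 1) * H.h x f) • e + ((H.σ t - 1) * H.h x e) • f +
      ((t - 1) * H.h x f') • e' + (((H.σ t)⁻¹ - 1) * H.h x e') • f' := by
  have ht' := σ_ne (H := H) ht
  have g1 : H.Iso (H.dMap e f t⁻¹ * H.dMap e' f' t) :=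
    (H.dMap_iso he hf hef (inv_ne_zero ht)).mul (H.dMap_iso he' hf' hef' ht)
  have g2 : LinearMap.det (H.dMap e f t⁻¹ * H.dMap e' f' t) = 1 := by
    rw [map_mul, H.dMap_det hef, H.dMap_det hef', map_inv₀]
    field_simp
  rw [tor2, S.π_elt g1 g2, End.mul_apply, H.dMap_apply _ he', H.dMap_apply _ he]
  simp only [H.add_left, H.smul_left, h1, h2, h3, h4, mul_zero, add_zero, map_inv₀, inv_inv]
  abel

/-- conjugation of Siegel elements -/
theorem conj_sg (g : G) {e w : V} {c : F} (he : H.h e e = 0) (hw : H.h w e = 0)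
    (hc : c + H.σ c + H.h w w = 0) :
    g * S.sg e w c * g⁻¹ = S.sg (S.π g e) (S.π g w) c := by
  apply S.ext
  intro x
  rw [S.π_mul, S.π_mul, S.π_sg he hw hc, S.π_sg (by rw [S.h_π, he]) (by rw [S.h_π, hw])
    (by rw [S.h_π, hc])]
  simp only [map_add, map_sub, map_smul, S.π_inv']
  have h1 : ∀ y, H.h (S.π g⁻¹ x) y = H.h x (S.π g y) := by
    intro y
    rw [← S.h_π g, S.π_inv']
  rw [h1, h1]

theorem conj_tv (g : G) {e : V} {c : F} (he : H.h e e = 0) (hc : c + H.σ c = 0) :
    g * S.tv e c * g⁻¹ = S.tv (S.π g e) c := by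
  rw [tv, S.conj_sg g he (H.zero_left e) (by rw [H.zero_left, hc, zero_add]), map_zero, tv]

theorem sg_mul {e w w' : V} {c c' : F} (he : H.h e e = 0) (hw : H.h w e = 0)
    (hc : c + H.σ c + H.h w w = 0) (hw' : H.h w' e = 0) (hc' : c' + H.σ c' + H.h w' w' = 0) :
    S.sg e w c * S.sg e w' c' = S.sg e (w + w') (c + c' - H.h w' w) := by
  have hew : H.h e w = 0 := H.swap_zero hw
  apply S.ext
  intro x
  rw [S.π_mul, S.π_sg he hw hc, S.π_sg he hw' hc', S.π_sg he (by rw [H.add_left, hw, hw', add_zero])]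
  · simp only [H.add_left, H.sub_left, H.smul_left, H.add_right, he, hew, hw', mul_zero, add_zero,
      sub_zero]
    module
  · simp only [H.add_left, H.add_right, map_add, map_sub]
    rw [H.swap]
    linear_combination hc + hc'

theorem sg_zero {e : V} (he : H.h e e = 0) : S.sg e 0 0 = 1 := by
  apply S.ext
  intro x
  rw [S.π_sg he (H.zero_left e) (by rw [H.zero_left, map_zero, add_zero, add_zero]), H.zero_right,
    S.π_one]
  simp

theorem tv_zero {e : V} (he : H.h e e = 0) : S.tv e 0 = 1 := S.sg_zero he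

theorem tv_add {e : V} {c c' : F} (he : H.h e e = 0) (hc : c + H.σ c = 0) (hc' : c' + H.σ c' = 0) :
    S.tv e (c + c') = S.tv e c * S.tv e c' := by
  rw [tv, tv, tv, S.sg_mul he (H.zero_left e) (by rw [H.zero_left, hc, add_zero]) (H.zero_left e)
    (by rw [H.zero_left, hc', add_zero]), H.zero_left, sub_zero, add_zero]

/-- scaling the vector of a transvection -/
theorem tv_smul (a : F) {e : V} {c : F} (he : H.h e e = 0) (hc : c + H.σ c = 0) :
    S.tv (a • e) c = S.tv e (a * H.σ a * c) := by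
  apply S.ext
  intro x
  rw [S.π_tv (by rw [H.smul_left, H.smul_right, he, mul_zero, mul_zero]) hc, S.π_tv he]
  · rw [H.smul_right, smul_smul]
    congr 2
    ring
  · rw [map_mul, map_mul, H.σσ]
    linear_combination (a * H.σ a) * hc

/-- commutator relation in the Heisenberg group -/
theorem sg_comm {e w w' : V} {c c' : F} (he : H.h e e = 0) (hw : H.h w e = 0)
    (hc : c + H.σ c + H.h w w = 0) (hw' : H.h w' e = 0) (hc' : c' + H.σ c' + H.h w' w' = 0) :
    S.sg e w' c' * S.sg e w c = S.tv e (H.h w' w - H.h w w') * (S.sg e w c * S.sg e w' c') := by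
  have h1 : ∀ {u u' : V} {d d' : F}, d + H.σ d + H.h u u = 0 → d' + H.σ d' + H.h u' u' = 0 →
      (d + d' - H.h u' u) + H.σ (d + d' - H.h u' u) + H.h (u + u') (u + u') = 0 := by
    intro u u' d d' hd hd'
    simp only [H.add_left, H.add_right, map_add, map_sub]
    rw [H.swap]
    linear_combination hd + hd'
  rw [S.sg_mul he hw' hc' hw hc, S.sg_mul he hw hc hw' hc', tv, S.sg_mul he (H.zero_left e)
    (by rw [H.zero_left, map_sub, H.swap, H.swap]; ring) (by rw [H.add_left, hw, hw', add_zero])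
    (h1 hc hc'), H.zero_right, zero_add, add_comm w w']
  congr 1
  ring

/-- `Z_e` is central in the Heisenberg group -/
theorem tv_comm_sg {e w : V} {c d : F} (he : H.h e e = 0) (hw : H.h w e = 0)
    (hc : c + H.σ c + H.h w w = 0) (hd : d + H.σ d = 0) :
    S.tv e d * S.sg e w c = S.sg e w c * S.tv e d := by
  have hew : H.h e w = 0 := H.swap_zero hw
  rw [tv, S.sg_mul he (H.zero_left e) (by rw [H.zero_left, hd, add_zero]) hw hc,
    S.sg_mul he hw hc (H.zero_left e) (by rw [H.zero_left, hd, add_zero]), H.zero_left, H.zero_right,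
    zero_add, add_zero, add_comm d c]

/-- `Z_e` and `Z_v` commute for orthogonal `e`, `v` -/
theorem tv_comm_tv {e v : V} {c d : F} (he : H.h e e = 0) (hv : H.h v v = 0) (hev : H.h e v = 0)
    (hc : c + H.σ c = 0) (hd : d + H.σ d = 0) :
    S.tv e c * S.tv v d = S.tv v d * S.tv e c := by
  have hve : H.h v e = 0 := H.swap_zero hev
  apply S.ext
  intro x
  rw [S.π_mul, S.π_mul, S.π_tv he hc, S.π_tv hv hd, S.π_tv he hc, S.π_tv hv hd]
  simp only [H.add_left, H.smul_left, hev, hve, mul_zero, add_zero]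
  abel

/-- the transvection of a sum -/
theorem tv_add_smul {e e' : V} {c b : F} (he : H.h e e = 0) (he' : H.h e' e' = 0)
    (hee : H.h e' e = 0) (hc : c + H.σ c = 0) :
    S.tv (e + b • e') c = S.tv e c * (S.tv e' (c * (b * H.σ b)) * S.sg e ((c * b) • e') 0) := by
  have hee' : H.h e e' = 0 := H.swap_zero hee
  have hσc : H.σ c = -c := by linear_combination hc
  apply S.ext
  intro x
  rw [S.π_mul, S.π_mul, S.π_tv (by
      simp only [H.add_left, H.add_right, H.smul_left, H.smul_right, he, he', hee, hee', mul_zero,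
        add_zero]) hc,
    S.π_sg he (by rw [H.smul_left, hee, mul_zero]) (by
      rw [H.smul_left, H.smul_right, he', map_zero, mul_zero, mul_zero, add_zero, add_zero]),
    S.π_tv he' (by rw [map_mul, map_mul, H.σσ]; linear_combination (b * H.σ b) * hc), S.π_tv he hc]
  simp only [H.add_left, H.sub_left, H.smul_left, H.add_right, H.smul_right, he, he', hee, hee',
    mul_zero, add_zero, sub_zero, zero_mul, zero_smul, map_mul, hσc]
  module

end UG

end Cfsg.Agent.H119
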