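import Cfsg.Agent.H119.UniMain

/-!
# Lower bound for the degrees of representations of unitary groups: the induction
-/

set_option autoImplicit false

namespace Cfsg.Agent.H119

open Module Cfsg.Agent.H120

variable {F V : Type*} [Field F] [AddCommGroup V] [Module F V]

namespace UG

variable {H : HS F V} {G : Type*} [Group G] (S : UG H G)
  {M : Type*} [AddCommGroup M] [Module ℂ M] (ρ : Representation ℂ G M) [FiniteDimensional F V]

/-- the fixed space depends only on the line -/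
theorem Fx_smul {e : V} {a : F} (ha : a ≠ 0) (he : H.h e e = 0) : S.Fx ρ (a • e) ≤ S.Fx ρ e := by
  intro m hm c hc
  have ha' := σ_ne (H := H) ha
  have h1 : (a * H.σ a)⁻¹ * c + H.σ ((a * H.σ a)⁻¹ * c) = 0 := by
    rw [map_mul, map_inv₀, map_mul, H.σσ, mul_comm (H.σ a)]
    rw [← mul_add, hc, mul_zero]
  have h2 := hm _ h1
  rw [S.tv_smul a he h1, ← mul_assoc, mul_inv_cancel₀ (mul_ne_zero ha ha'), one_mul] at h2
  exact h2

/-- the part of the bound coming from the non-trivial weights of one transvection group -/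
theorem part_one [Fintype F] [FiniteDimensional ℂ M] {q : ℕ} (hF : Fintype.card F = q ^ 2)
    (hq : Nat.card (Fix H) = q) {U : Submodule F V} (hU : H.Nd U) (hdim : 3 ≤ finrank F U) {e : V}
    (heU : e ∈ U) (he0 : e ≠ 0) (he : H.h e e = 0) (N : Submodule ℂ M)
    (hN : ∀ g ∈ S.fixG U, ∀ m ∈ N, ρ g m ∈ N) (hne : ¬ N ≤ S.Fx ρ e) :
    finrank ℂ (N ⊓ S.Fx ρ e : Submodule ℂ M) + (q - 1) * q ^ (finrank F U - 2) ≤ finrank ℂ N := by
  obtain ⟨f, hfU, hf, hef⟩ := hU.exists_pair heU he0 he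
  have hP := hU.perp heU hfU he hf hef
  have hPdim := HS.finrank_perp (H := H) heU hfU he hf hef
  have hP0 : H.perp U e f ≠ ⊥ := by
    intro h
    rw [h, finrank_bot] at hPdim
    omega
  obtain ⟨v, hv, hvv⟩ := hP.exists_aniso hP0
  have hv' := HS.mem_perp.1 hv
  refine S.torus ρ hq he N (fun c hc m hm => hN _ (S.tv_mem_fixG heU he hc) m hm) ?_ hne _ ?_
  · intro t ht
    refine ⟨S.tor e f v t, ?_, ?_⟩
    · rw [S.π_tor he hf hef hvv hv'.2.1 hv'.2.2 ht, hef, he, H.swap_zero hv'.2.1]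
      simp [sub_smul]
    · intro m hm
      refine hN _ ((S.fixG U).inv_mem ?_) m hm
      intro x hx
      rw [S.π_tor he hf hef hvv hv'.2.1 hv'.2.2 ht, hx e heU, hx f hfU, hx v hv'.1]
      simp
  · intro ψ hψ hψN
    exact S.heis ρ hF hU heU hfU he hf hef N hN ψ hψ hψN

omit [FiniteDimensional F V] in
/-- a partner of `e` orthogonal to `e'` -/
theorem exists_partner {U : Submodule F V} (hU : H.Nd U) {e e' : V} (heU : e ∈ U)
    (heU' : e' ∈ U) (he : H.h e e = 0) (he' : H.h e' e' = 0) (he0' : e' ≠ 0) (hee : H.h e' e = 0)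
    (hind : ∀ a : F, e ≠ a • e') : ∃ f ∈ U, H.h f f = 0 ∧ H.h e f = 1 ∧ H.h e' f = 0 := by
  obtain ⟨f', hfU', hf', hef'⟩ := hU.exists_pair heU' he0' he'
  set u : V := e - H.h e f' • e' with hu
  have hu0 : u ≠ 0 := fun h => hind _ (sub_eq_zero.1 h)
  have huU : u ∈ U := U.sub_mem heU (U.smul_mem _ heU')
  obtain ⟨y, hy, huy⟩ := hU.exists_ne huU hu0
  set y' : V := y - H.h y e' • f' with hy'
  have hyU' : y' ∈ U := U.sub_mem hy (U.smul_mem _ hfU')
  have h1 : H.h e' y' = 0 := by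
    rw [hy', H.sub_right, H.smul_right, hef', mul_one, H.swap, sub_self]
  have h2 : H.h e y' = H.h u y := by
    rw [hy', H.sub_right, H.smul_right, H.swap, hu, H.sub_left, H.smul_left]
    ring
  have h3 : H.h e y' ≠ 0 := by rwa [h2]
  obtain ⟨a, ha⟩ := HS.exists_adjust he h3
  refine ⟨(H.σ (H.h e y'))⁻¹ • (y' + a • e), U.smul_mem _ (U.add_mem hyU' (U.smul_mem _ heU)),
    ?_, ?_, ?_⟩
  · rw [H.smul_left, H.smul_right, ha, mul_zero, mul_zero]
  · rw [H.smul_right, H.add_right, H.smul_right, he, mul_zero, add_zero, map_inv₀, H.σσ,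
      inv_mul_cancel₀ h3]
  · rw [H.smul_right, H.add_right, H.smul_right, h1, hee, mul_zero, add_zero, mul_zero]

/-- **the lower bound** -/
theorem main [Fintype F] [FiniteDimensional ℂ M] {q : ℕ} (hF : Fintype.card F = q ^ 2)
    (hq : Nat.card (Fix H) = q) (n : ℕ) : ∀ U : Submodule F V, finrank F U = n → 3 ≤ n → H.Nd U →
    ∀ N : Submodule ℂ M, (∀ g ∈ S.fixG U, ∀ m ∈ N, ρ g m ∈ N) →
    (∃ e ∈ U, e ≠ 0 ∧ H.h e e = 0 ∧ ¬ N ≤ S.Fx ρ e) → bd q n ≤ finrank ℂ N := by
  induction n using Nat.strong_induction_on with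
  | _ n ih =>
  intro U hdim hn hU N hN hex
  obtain ⟨e₀, heU₀, he₀0, he₀, hne₀⟩ := hex
  have hall : ∀ e ∈ U, e ≠ 0 → H.h e e = 0 → ¬ N ≤ S.Fx ρ e := by
    intro e heU he0 he hle
    exact hne₀ (S.triv_all ρ hU heU₀ heU he₀0 he0 he₀ he N hN hle)
  rcases Nat.lt_or_ge n 4 with hn4 | hn4
  · obtain rfl : n = 3 := by omega
    have h1 := S.part_one ρ hF hq hU (by omega) heU₀ he₀0 he₀ N hN hne₀
    rw [hdim] at h1
    have h2 : bd q 3 = (q - 1) * q ^ (3 - 2) := rfl
    rw [h2]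
    omega
  -- a pair of orthogonal isotropic vectors with different fixed spaces
  obtain ⟨e, heU, he0, he, e', heU', he0', he', hee, hnle⟩ :
      ∃ e ∈ U, ∃ _ : e ≠ 0, ∃ _ : H.h e e = 0, ∃ e' ∈ U, ∃ _ : e' ≠ 0, ∃ _ : H.h e' e' = 0,
        ∃ _ : H.h e' e = 0, ¬ (N ⊓ S.Fx ρ e ≤ S.Fx ρ e') := by
    by_contra hcon
    push Not at hcon
    have hcon' : ∀ e ∈ U, e ≠ 0 → H.h e e = 0 → ∀ e' ∈ U, e' ≠ 0 → H.h e' e' = 0 →
        H.h e' e = 0 → N ⊓ S.Fx ρ e ≤ S.Fx ρ e' := hcon
    obtain ⟨e, heU, he0, he⟩ := hU.exists_iso (by omega)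
    obtain ⟨f, hfU, hf, hef⟩ := hU.exists_pair heU he0 he
    have hP := hU.perp heU hfU he hf hef
    have hPdim := HS.finrank_perp (H := H) heU hfU he hf hef
    obtain ⟨e', he'P, he0', he'⟩ := hP.exists_iso (by omega)
    have heP' := HS.mem_perp.1 he'P
    apply hall e heU he0 he
    refine S.le_of_fx ρ heU heP'.1 he he' heP'.2.1 he0' ?_ N hN _ ?_
    · intro b hb
      have h1 : H.h (e + b • e') f = 1 := by
        rw [H.add_left, H.smul_left, hef, heP'.2.2, mul_zero, add_zero]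
      rw [hb, H.zero_left] at h1
      exact zero_ne_one h1
    · intro v hvU hv0 hv
      by_cases hve : H.h e v = 0
      · exact hcon' v hvU hv0 hv e heU he0 he hve
      · -- common neighbour
        have hve' := H.swap_ne hve
        set g : V := (H.σ (H.h e v))⁻¹ • v with hg
        have hgU : g ∈ U := U.smul_mem _ hvU
        have hgg : H.h g g = 0 := by rw [hg, H.smul_left, H.smul_right, hv, mul_zero, mul_zero]
        have heg : H.h e g = 1 := by
          rw [hg, H.smul_right, map_inv₀, H.σσ, inv_mul_cancel₀ hve]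
        have hQ := hU.perp heU hgU he hgg heg
        have hQdim := HS.finrank_perp (H := H) heU hgU he hgg heg
        obtain ⟨x, hxQ, hx0, hx⟩ := hQ.exists_iso (by omega)
        have hxQ' := HS.mem_perp.1 hxQ
        have hxv : H.h x v = 0 := by
          have h1 := hxQ'.2.2
          rw [hg, H.smul_right, map_inv₀, H.σσ] at h1
          exact (mul_eq_zero.1 h1).resolve_left (inv_ne_zero hve)
        have h1 := hcon' v hvU hv0 hv x hxQ'.1 hx0 hx hxv
        have h2 := hcon' x hxQ'.1 hx0 hx e heU he0 he (H.swap_zero hxQ'.2.1)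
        exact fun m hm => h2 ⟨hm.1, h1 hm⟩
  -- they are independent
  have hind : ∀ a : F, e ≠ a • e' := by
    intro a ha
    have ha0 : a ≠ 0 := by
      rintro rfl
      rw [zero_smul] at ha
      exact he0 ha
    apply hnle
    rw [ha]
    exact inf_le_right.trans (S.Fx_smul ρ ha0 he')
  obtain ⟨f, hfU, hf, hef, hef'⟩ := exists_partner hU heU heU' he he' he0' hee hind
  have hP := hU.perp heU hfU he hf hef
  have hPdim := HS.finrank_perp (H := H) heU hfU he hf hef
  have heP' : e' ∈ H.perp U e f := HS.mem_perp.2 ⟨heU', hee, hef'⟩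
  set N' : Submodule ℂ M := N ⊓ S.Fx ρ e with hN'
  have hle : H.perp U e f ≤ U := fun x hx => (HS.mem_perp.1 hx).1
  have hN'inv : ∀ g ∈ S.fixG (H.perp U e f), ∀ m ∈ N', ρ g m ∈ N' := by
    intro g hg m hm
    refine ⟨hN g (S.fixG_mono hle hg) m hm.1, ?_⟩
    have h1 : S.π g⁻¹ e = (1 : F) • e := by
      rw [one_smul]
      exact (S.fixG _).inv_mem hg e fun u hu => H.swap_zero (HS.mem_perp.1 hu).2.1
    have h2 := S.Fx_of_scale ρ he h1 hm.2
    rwa [inv_inv] at h2
  have hA := S.part_one ρ hF hq hU (by omega) heU he0 he N hN (hall e heU he0 he)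
  rw [hdim] at hA
  change finrank ℂ N' + _ ≤ _ at hA
  have hB : bd q (n - 2) ≤ finrank ℂ N' := by
    rcases Nat.lt_or_ge n 5 with hn5 | hn5
    · obtain rfl : n = 4 := by omega
      obtain ⟨f₂, hf₂P, hf₂, hef₂⟩ := hP.exists_pair heP' he0' he'
      have hf₂' := HS.mem_perp.1 hf₂P
      have h1 := S.torus ρ hq he' N'
        (fun c hc m hm => hN'inv _ (S.tv_mem_fixG heP' he' hc) m hm) ?_ hnle 1 ?_
      · have h2 : bd q (4 - 2) = (q - 1) * q ^ 0 := rfl
        rw [h2, pow_zero]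
        omega
      · intro t ht
        have hπ := S.π_tor2 he hf hef he' hf₂ hef₂ hee hef' hf₂'.2.1 hf₂'.2.2 ht
        refine ⟨S.tor2 e f e' f₂ t, ?_, ?_⟩
        · rw [hπ, hef', hee, hef₂, he']
          simp [sub_smul]
        · intro m hm
          refine ⟨hN _ ((S.fixG U).inv_mem ?_) m hm.1, ?_⟩
          · intro x hx
            rw [hπ, hx e heU, hx f hfU, hx e' heU', hx f₂ hf₂'.1]
            simp
          · refine S.Fx_of_scale ρ he (t := t⁻¹) ?_ hm.2
            rw [hπ, hef, he, H.swap_zero hee, H.swap_zero hf₂'.2.1]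
            simp [sub_smul]
      · intro ψ _ hψ
        rw [Nat.one_le_iff_ne_zero]
        intro h0
        exact hψ (Submodule.finrank_eq_zero.1 h0)
    · exact ih (n - 2) (by omega) (H.perp U e f) (by omega) (by omega) hP N' hN'inv
        ⟨e', heP', he0', he', hnle⟩
  obtain ⟨k, rfl⟩ : ∃ k, n = k + 2 := ⟨n - 2, by omega⟩
  rw [Nat.add_sub_cancel] at hA hB
  rw [bd]
  omega

end UG

end Cfsg.Agent.H119
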