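import Cfsg.Agent.H119.UniRep

/-!
# Lower bound for the degrees of representations of unitary groups

`UG.main` : if `U` is nondegenerate of dimension `n ≥ 3` and `N` is a subspace invariant under the
isometries fixing `U^⊥` pointwise on which some transvection of `U` acts non-trivially, then
`bd q n ≤ finrank N`, where `bd q (n + 2) = (q - 1) q ^ n + bd q n`, `bd q 0 = bd q 1 = 0`.
-/

set_option autoImplicit false

namespace Cfsg.Agent.H119

open Module Cfsg.Agent.H120

/-- the bound -/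
def bd (q : ℕ) : ℕ → ℕ
  | 0 => 0
  | 1 => 0
  | (n + 2) => (q - 1) * q ^ n + bd q n

theorem bd_even {q : ℕ} (hq : 1 ≤ q) (k : ℕ) : (q + 1) * bd q (2 * k) + 1 = q ^ (2 * k) := by
  induction k with
  | zero => simp [bd]
  | succ k ih =>
    obtain ⟨m, rfl⟩ : ∃ m, q = m + 1 := ⟨q - 1, by omega⟩
    rw [show 2 * (k + 1) = 2 * k + 2 by ring, bd, mul_add, add_assoc, ih, Nat.add_sub_cancel, pow_add]
    ring

theorem bd_odd {q : ℕ} (hq : 1 ≤ q) (k : ℕ) : (q + 1) * bd q (2 * k + 1) + q = q ^ (2 * k + 1) := by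
  induction k with
  | zero => simp [bd]
  | succ k ih =>
    obtain ⟨m, rfl⟩ : ∃ m, q = m + 1 := ⟨q - 1, by omega⟩
    rw [show 2 * (k + 1) + 1 = (2 * k + 1) + 2 by ring, bd, mul_add, add_assoc, ih,
      Nat.add_sub_cancel, pow_add _ (2 * k + 1) 2]
    ring

variable {F V : Type*} [Field F] [AddCommGroup V] [Module F V]

namespace UG

variable {H : HS F V} {G : Type*} [Group G] (S : UG H G)
  {M : Type*} [AddCommGroup M] [Module ℂ M] (ρ : Representation ℂ G M) [FiniteDimensional F V]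

/-- non-orthogonal isotropic vectors: trivial action transfers -/
theorem triv_of_ne {U : Submodule F V} {e f : V} (heU : e ∈ U) (hfU : f ∈ U) (he : H.h e e = 0)
    (hf : H.h f f = 0) (hef : H.h e f ≠ 0) (N : Submodule ℂ M)
    (hN : ∀ g ∈ S.fixG U, ∀ m ∈ N, ρ g m ∈ N) (h : N ≤ S.Fx ρ f) : N ≤ S.Fx ρ e := by
  obtain ⟨κ, hκ0, hκ⟩ := H.κ
  have hσκ : H.σ κ = -κ := by linear_combination hκ
  set a := H.h e f with ha
  have hfe : H.h f e = H.σ a := (H.swap _ _).symm
  have hσa : H.σ a ≠ 0 := σ_ne hef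
  set d : F := -(κ * (a * H.σ a))⁻¹ with hd
  have hd' : d + H.σ d = 0 := by
    rw [hd, map_neg, map_inv₀, map_mul, map_mul, H.σσ, hσκ]
    field_simp
    ring
  set w : G := S.tv e κ * (S.tv f d * S.tv e κ) with hw
  have hwU : w ∈ S.fixG U :=
    (S.fixG U).mul_mem (S.tv_mem_fixG heU he hκ)
      ((S.fixG U).mul_mem (S.tv_mem_fixG hfU hf hd') (S.tv_mem_fixG heU he hκ))
  have hwe : S.π w e = (d * a) • f := by
    have s1 : S.π (S.tv e κ) e = e := by rw [S.π_tv he hκ, he, mul_zero, zero_smul, add_zero]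
    have s2 : S.π (S.tv f d) e = e + (d * a) • f := by rw [S.π_tv hf hd', ← ha]
    have h1 : (d * a) * (κ * H.σ a) = -1 := by
      rw [hd]
      field_simp
    rw [hw, S.π_mul, S.π_mul, s1, s2, map_add, map_smul, s1, S.π_tv he hκ f, hfe, smul_add, smul_smul,
      h1, neg_smul, one_smul, add_comm ((d * a) • f), add_neg_cancel_left]
  intro m hm c hc
  have h1 : w * S.tv e c * w⁻¹ = S.tv f ((d * a) * H.σ (d * a) * c) := by
    rw [S.conj_tv w he hc, hwe, S.tv_smul _ hf hc]
  have h2 : S.tv e c = w⁻¹ * (S.tv f ((d * a) * H.σ (d * a) * c) * w) := by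
    rw [← h1]
    group
  rw [h2, ρ_mul, ρ_mul, h (hN w hwU m hm), ρ_inv]
  have h3 : H.σ (d * a * H.σ (d * a) * c) = H.σ (d * a) * (d * a) * H.σ c := by
    rw [map_mul H.σ, map_mul H.σ (d * a), H.σσ]
  rw [h3]
  linear_combination ((d * a) * H.σ (d * a)) * hc

/-- all transvection groups of `U` act trivially as soon as one does -/
theorem triv_all {U : Submodule F V} (hU : H.Nd U) {e f : V} (heU : e ∈ U) (hfU : f ∈ U)
    (he0 : e ≠ 0) (hf0 : f ≠ 0) (he : H.h e e = 0) (hf : H.h f f = 0) (N : Submodule ℂ M)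
    (hN : ∀ g ∈ S.fixG U, ∀ m ∈ N, ρ g m ∈ N) (h : N ≤ S.Fx ρ f) : N ≤ S.Fx ρ e := by
  by_cases hef : H.h f e = 0
  · obtain ⟨x, hxU, hx, h1, h2⟩ := hU.exists_common heU he0 he hfU hf0 hef
    have h3 := S.triv_of_ne ρ hxU hfU hx hf (H.swap_ne h2) N hN h
    exact S.triv_of_ne ρ heU hxU he hx h1 N hN h3
  · exact S.triv_of_ne ρ heU hfU he hf (H.swap_ne hef) N hN h

/-- **the abelian group of a totally isotropic line** : every submodule containing all the fixed
spaces of transvection groups on the line contains `N` -/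
theorem le_of_fx [Fintype F] {U : Submodule F V} {e e' : V}
    (heU : e ∈ U) (heU' : e' ∈ U) (he : H.h e e = 0) (he' : H.h e' e' = 0) (hee : H.h e' e = 0)
    (he0' : e' ≠ 0) (hind : ∀ b : F, e + b • e' ≠ 0) (N : Submodule ℂ M)
    (hN : ∀ g ∈ S.fixG U, ∀ m ∈ N, ρ g m ∈ N) (X : Submodule ℂ M)
    (hX : ∀ v ∈ U, v ≠ 0 → H.h v v = 0 → N ⊓ S.Fx ρ v ≤ X) : N ≤ X := by
  classical
  have : Fintype (K0 H) := Fintype.ofFinite _
  have : Finite (Fix H) := inferInstanceAs (Finite {r : F // H.σ r = r})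
  have : Fintype (Fix H) := Fintype.ofFinite _
  have hee' : H.h e e' = 0 := H.swap_zero hee
  have he0 : e ≠ 0 := by
    have := hind 0
    rwa [zero_smul, add_zero] at this
  -- the third action
  have hsgU : ∀ x : F, S.sg e (x • e') 0 ∈ S.fixG U := fun x =>
    S.sg_mem_fixG heU (U.smul_mem _ heU') he (by rw [H.smul_left, hee, mul_zero])
      (by rw [H.smul_left, H.smul_right, he', map_zero, mul_zero, mul_zero, add_zero, add_zero])
  let R : AddAct F M :=
    { toFun := fun x => ρ (S.sg e (x • e') 0)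
      map_zero' := by
        simp only [zero_smul]
        rw [S.sg_zero he, map_one]
      map_add' := fun x y => by
        rw [← map_mul, S.sg_mul he (by rw [H.smul_left, hee, mul_zero])
          (by rw [H.smul_left, H.smul_right, he', map_zero, mul_zero, mul_zero, add_zero, add_zero])
          (by rw [H.smul_left, hee, mul_zero])
          (by rw [H.smul_left, H.smul_right, he', map_zero, mul_zero, mul_zero, add_zero, add_zero]),
          H.smul_left, H.smul_right, he', mul_zero, mul_zero, sub_zero, add_zero, add_smul] }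
  have hR : ∀ (x : F) (m : M), R.toFun x m = ρ (S.sg e (x • e') 0) m := fun _ _ => rfl
  -- commutation
  have c12 : ∀ (a b : K0 H), S.tv e' b.1 * S.tv e a.1 = S.tv e a.1 * S.tv e' b.1 := fun a b =>
    S.tv_comm_tv he' he hee b.2 a.2
  have c13 : ∀ (a : K0 H) (x : F), S.sg e (x • e') 0 * S.tv e a.1 = S.tv e a.1 * S.sg e (x • e') 0 :=
    fun a x => (S.tv_comm_sg he (by rw [H.smul_left, hee, mul_zero])
      (by rw [H.smul_left, H.smul_right, he', map_zero, mul_zero, mul_zero, add_zero, add_zero])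
      a.2).symm
  have c23 : ∀ (b : K0 H) (x : F), S.sg e (x • e') 0 * S.tv e' b.1 = S.tv e' b.1 * S.sg e (x • e') 0 := by
    intro b x
    have h1 : S.π (S.sg e (x • e') 0) e' = e' := by
      rw [S.π_sg he (by rw [H.smul_left, hee, mul_zero])
        (by rw [H.smul_left, H.smul_right, he', map_zero, mul_zero, mul_zero, add_zero, add_zero]),
        hee, H.smul_right, he']
      simp
    have h2 := S.conj_tv (S.sg e (x • e') 0) he' b.2
    rw [h1] at h2
    exact mul_inv_eq_iff_eq_mul.1 h2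
  refine le_of_wt (S.act ρ e he) N (fun a m hm => hN _ (S.tv_mem_fixG heU he a.2) m hm) X
    fun α => ?_
  refine le_of_wt (S.act ρ e' he') (N ⊓ (S.act ρ e he).wt α) (fun b m hm => ?_) X fun β => ?_
  · refine ⟨hN _ (S.tv_mem_fixG heU' he' b.2) m hm.1, fun a => ?_⟩
    have h1 := hm.2 a
    rw [S.act_apply] at h1 ⊢
    rw [S.act_apply, ← ρ_mul, ← c12, ρ_mul, h1, map_smul]
  refine le_of_wt R ((N ⊓ (S.act ρ e he).wt α) ⊓ (S.act ρ e' he').wt β) (fun x m hm => ?_) X
    fun γ => ?_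
  · rw [hR]
    refine ⟨⟨hN _ (hsgU x) m hm.1.1, fun a => ?_⟩, fun b => ?_⟩
    · have h1 := hm.1.2 a
      rw [S.act_apply] at h1 ⊢
      rw [← ρ_mul, ← c13, ρ_mul, h1, map_smul]
    · have h1 := hm.2 b
      rw [S.act_apply] at h1 ⊢
      rw [← ρ_mul, ← c23, ρ_mul, h1, map_smul]
  rintro m ⟨⟨⟨hmN, hα⟩, hβ⟩, hγ⟩
  by_cases hα0 : α = 0
  · refine hX e heU he0 he ⟨hmN, ?_⟩
    rw [S.Fx_eq ρ he, ← hα0]
    exact hα
  -- identify the characters
  obtain ⟨r, hr⟩ : ∃ r : Fix H, α.compAddMonoidHom (mulK r) = β :=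
    surj_of_inj (fun r : Fix H => α.compAddMonoidHom (mulK r)) (comp_mulK_inj hα0)
      (Fintype.card_congr (exists_equiv H).some) β
  obtain ⟨g, hg⟩ : ∃ g : F, α.compAddMonoidHom (dK (H := H) g) = γ :=
    surj_of_inj (fun g : F => α.compAddMonoidHom (dK (H := H) g)) (comp_dK_inj hα0) rfl γ
  -- the action of transvections
  have hact : ∀ (b : F), 1 + r.1 * (b * H.σ b) + (g * b + H.σ (g * b)) = 0 →
      m ∈ S.Fx ρ (e + b • e') := by
    intro b hb c hc
    rw [S.tv_add_smul he he' hee hc, ρ_mul, ρ_mul]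
    have hc2 : c * (b * H.σ b) + H.σ (c * (b * H.σ b)) = 0 := by
      rw [map_mul, map_mul, H.σσ]
      linear_combination (b * H.σ b) * hc
    have h1 : ρ (S.sg e ((c * b) • e') 0) m = γ (c * b) • m := hγ (c * b)
    have h2 : ρ (S.tv e' (c * (b * H.σ b))) m = β ⟨_, hc2⟩ • m := hβ ⟨_, hc2⟩
    have h3 : ρ (S.tv e c) m = α ⟨c, hc⟩ • m := hα ⟨c, hc⟩
    rw [h1, map_smul, map_smul, h2, map_smul, h3, smul_smul, smul_smul, ← hr, ← hg,
      AddChar.compAddMonoidHom_apply, AddChar.compAddMonoidHom_apply, ← AddChar.map_add_eq_mul,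
      ← AddChar.map_add_eq_mul]
    have h4 : dK (H := H) g (c * b) + mulK r ⟨_, hc2⟩ + ⟨c, hc⟩ = 0 := by
      apply Subtype.ext
      change (g * (c * b) - H.σ (g * (c * b))) + r.1 * (c * (b * H.σ b)) + c = 0
      have hσc : H.σ c = -c := by linear_combination hc
      have h5 : H.σ (g * (c * b)) = -c * H.σ (g * b) := by
        rw [map_mul, map_mul, map_mul, hσc]
        ring
      rw [h5]
      linear_combination c * hb
    rw [h4, AddChar.map_zero_eq_one, one_smul]
  have hfin : ∀ b : F, 1 + r.1 * (b * H.σ b) + (g * b + H.σ (g * b)) = 0 → m ∈ X := by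
    intro b hb
    refine hX (e + b • e') (U.add_mem heU (U.smul_mem _ heU')) (hind b) ?_ ⟨hmN, hact b hb⟩
    simp only [H.add_left, H.add_right, H.smul_left, H.smul_right, he, he', hee, hee', mul_zero,
      add_zero]
  by_cases hr0 : r.1 = 0
  · by_cases hg0 : g = 0
    · -- `β` is trivial
      refine hX e' heU' he0' he' ⟨hmN, ?_⟩
      rw [S.Fx_eq ρ he']
      have hβ0 : β = 0 := by
        rw [← hr, AddChar.eq_zero_iff]
        intro c
        have : mulK r c = 0 := Subtype.ext (by rw [mulK_val, hr0, zero_mul]; rfl)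
        rw [AddChar.compAddMonoidHom_apply, this, AddChar.map_zero_eq_one]
      rw [← hβ0]
      exact hβ
    · obtain ⟨x, hx⟩ := H.tr (-1) (by rw [map_neg, map_one])
      refine hfin (g⁻¹ * x) ?_
      have h1 : g * (g⁻¹ * x) = x := by rw [← mul_assoc, mul_inv_cancel₀ hg0, one_mul]
      rw [hr0, h1, zero_mul, add_zero, hx, add_neg_cancel]
  · obtain ⟨z, hz⟩ := H.nm (g * H.σ g - r.1) (by
      rw [map_sub, map_mul, H.σσ, r.2, mul_comm])
    refine hfin (r.1⁻¹ * (z - H.σ g)) ?_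
    have h1 : H.σ (r.1⁻¹ * (z - H.σ g)) = r.1⁻¹ * (H.σ z - g) := by
      rw [map_mul, map_inv₀, r.2, map_sub, H.σσ]
    have h2 : H.σ (g * (r.1⁻¹ * (z - H.σ g))) = H.σ g * (r.1⁻¹ * (H.σ z - g)) := by
      rw [map_mul, h1]
    rw [h1, h2]
    field_simp
    linear_combination hz

end UG

end Cfsg.Agent.H119
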