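import Cfsg.Agent.H120.Wt

/-!
# Weight spaces inside an invariant subspace

`T : AddAct K V`, `N` a `T`-invariant subspace: `finrank N = ∑ ψ, finrank (N ⊓ wt ψ)`, lower bounds.
-/

set_option autoImplicit false

namespace Cfsg.Agent.H119

open Module Cfsg.Agent.H120

section

variable {K : Type*} [AddCommGroup K] {V : Type*} [AddCommGroup V] [Module ℂ V] (T : AddAct K V)

/-- restriction of an action to an invariant subspace -/
def restr (N : Submodule ℂ V) (hN : ∀ a, ∀ m ∈ N, T.toFun a m ∈ N) : AddAct K N where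
  toFun a := (T.toFun a).restrict (hN a)
  map_zero' := by
    ext v
    simp [T.map_zero']
  map_add' a b := by
    ext v
    simp [T.map_add']

theorem restr_apply (N : Submodule ℂ V) (hN : ∀ a, ∀ m ∈ N, T.toFun a m ∈ N) (a : K) (m : N) :
    ((restr T N hN).toFun a m : V) = T.toFun a m := rfl

theorem map_restr_wt (N : Submodule ℂ V) (hN : ∀ a, ∀ m ∈ N, T.toFun a m ∈ N) (ψ : AddChar K ℂ) :
    ((restr T N hN).wt ψ).map N.subtype = N ⊓ T.wt ψ := by
  ext v
  rw [Submodule.mem_map, Submodule.mem_inf]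
  constructor
  · rintro ⟨w, hw, rfl⟩
    refine ⟨w.2, fun a => ?_⟩
    have := congrArg Subtype.val (hw a)
    exact this
  · rintro ⟨h1, h2⟩
    exact ⟨⟨v, h1⟩, fun a => Subtype.ext (h2 a), rfl⟩

theorem finrank_restr_wt (N : Submodule ℂ V) (hN : ∀ a, ∀ m ∈ N, T.toFun a m ∈ N)
    (ψ : AddChar K ℂ) : finrank ℂ ((restr T N hN).wt ψ) = finrank ℂ (N ⊓ T.wt ψ : Submodule ℂ V) := by
  rw [← map_restr_wt T N hN]
  exact LinearEquiv.finrank_eq
    (Submodule.equivMapOfInjective N.subtype (Submodule.injective_subtype N) _)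

variable [Fintype K] [FiniteDimensional ℂ V]

theorem finrank_eq_sum (N : Submodule ℂ V) (hN : ∀ a, ∀ m ∈ N, T.toFun a m ∈ N) :
    finrank ℂ N = ∑ ψ : AddChar K ℂ, finrank ℂ (N ⊓ T.wt ψ : Submodule ℂ V) := by
  rw [(restr T N hN).sum_finrank_wt]
  exact Finset.sum_congr rfl fun ψ _ => finrank_restr_wt T N hN ψ

/-- lower bound from a family of distinct non-trivial characters -/
theorem finrank_ge {ι : Type*} [Fintype ι] (N : Submodule ℂ V)
    (hN : ∀ a, ∀ m ∈ N, T.toFun a m ∈ N) (Ψ : ι → AddChar K ℂ) (hΨ : Function.Injective Ψ)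
    (h0 : ∀ i, Ψ i ≠ 0) (d : ℕ) (hd : ∀ i, d ≤ finrank ℂ (N ⊓ T.wt (Ψ i) : Submodule ℂ V)) :
    finrank ℂ (N ⊓ T.wt 0 : Submodule ℂ V) + Fintype.card ι * d ≤ finrank ℂ N := by
  classical
  rw [finrank_eq_sum T N hN, ← Finset.add_sum_erase _ _ (Finset.mem_univ (0 : AddChar K ℂ))]
  refine Nat.add_le_add_left ?_ _
  calc Fintype.card ι * d = ∑ _i : ι, d := by rw [Finset.sum_const, Finset.card_univ, smul_eq_mul]
    _ ≤ ∑ i : ι, finrank ℂ (N ⊓ T.wt (Ψ i) : Submodule ℂ V) := Finset.sum_le_sum fun i _ => hd i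
    _ = ∑ ψ ∈ Finset.univ.map ⟨Ψ, hΨ⟩, finrank ℂ (N ⊓ T.wt ψ : Submodule ℂ V) := by
        rw [Finset.sum_map]
        rfl
    _ ≤ _ := by
        refine Finset.sum_le_sum_of_subset ?_
        intro ψ hψ
        rw [Finset.mem_map] at hψ
        obtain ⟨i, -, rfl⟩ := hψ
        exact Finset.mem_erase.2 ⟨h0 i, Finset.mem_univ _⟩

omit [FiniteDimensional ℂ V] in
theorem proj_mem_of (N : Submodule ℂ V) (hN : ∀ a, ∀ m ∈ N, T.toFun a m ∈ N) (ψ : AddChar K ℂ)
    {v : V} (hv : v ∈ N) : T.proj ψ v ∈ N := by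
  rw [T.proj_apply]
  exact N.smul_mem _ (N.sum_mem fun a _ => N.smul_mem _ (hN a v hv))

omit [FiniteDimensional ℂ V] in
/-- a submodule containing all weight spaces of `N` contains `N` -/
theorem le_of_wt (N : Submodule ℂ V) (hN : ∀ a, ∀ m ∈ N, T.toFun a m ∈ N) (X : Submodule ℂ V)
    (h : ∀ ψ, N ⊓ T.wt ψ ≤ X) : N ≤ X := by
  intro v hv
  rw [← T.sum_proj v]
  exact X.sum_mem fun ψ _ => h ψ ⟨proj_mem_of T N hN ψ hv, T.proj_mem ψ v⟩

omit [FiniteDimensional ℂ V] in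
/-- a non-trivial weight occurs in `N` if the action on `N` is non-trivial -/
theorem exists_wt_ne (N : Submodule ℂ V) (hN : ∀ a, ∀ m ∈ N, T.toFun a m ∈ N)
    (h : ¬ N ≤ T.wt 0) : ∃ ψ : AddChar K ℂ, ψ ≠ 0 ∧ N ⊓ T.wt ψ ≠ ⊥ := by
  by_contra hc
  push Not at hc
  apply h
  refine le_of_wt T N hN _ fun ψ => ?_
  by_cases hψ : ψ = 0
  · rw [hψ]
    exact inf_le_right
  · rw [hc ψ hψ]
    exact bot_le

/-- characters of the form `ψ (a ·)` exhaust the dual when there are enough of them -/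
theorem surj_of_inj {X : Type*} [Fintype X] (Φ : X → AddChar K ℂ) (hΦ : Function.Injective Φ)
    (hc : Fintype.card X = Fintype.card K) : Function.Surjective Φ := by
  have h1 : Fintype.card X = Fintype.card (AddChar K ℂ) := by
    rw [hc, AddChar.card_eq]
  exact ((Fintype.bijective_iff_injective_and_card Φ).2 ⟨hΦ, h1⟩).2

end

/-! ### stabilisers of subspaces and traces -/

section

variable {G : Type*} [Group G] {V : Type*} [AddCommGroup V] [Module ℂ V]
  (ρ : Representation ℂ G V)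

theorem ρ_mul (g k : G) (v : V) : ρ (g * k) v = ρ g (ρ k v) := by
  rw [map_mul, End.mul_apply]

theorem ρ_one (v : V) : ρ 1 v = v := by
  rw [map_one, End.one_apply]

theorem ρ_inv (g : G) (v : V) : ρ g⁻¹ (ρ g v) = v := by
  rw [← ρ_mul, inv_mul_cancel, ρ_one]

theorem ρ_inv' (g : G) (v : V) : ρ g (ρ g⁻¹ v) = v := by
  rw [← ρ_mul, mul_inv_cancel, ρ_one]

theorem ρ_inj (g : G) : Function.Injective (ρ g) := by
  intro v w h
  rw [← ρ_inv ρ g v, h, ρ_inv]

/-- the stabiliser of a subspace -/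
def stab (W : Submodule ℂ V) : Subgroup G where
  carrier := {g | ∀ v, ρ g v ∈ W ↔ v ∈ W}
  one_mem' v := by rw [ρ_one]
  mul_mem' {a b} ha hb v := by rw [ρ_mul, ha, hb]
  inv_mem' {a} ha v := by rw [← ha, ρ_inv']

theorem mem_stab {W : Submodule ℂ V} {g : G} (h : ∀ v ∈ W, ρ g v ∈ W)
    (h' : ∀ v ∈ W, ρ g⁻¹ v ∈ W) : g ∈ stab ρ W := by
  intro v
  refine ⟨fun hv => ?_, h v⟩
  rw [← ρ_inv ρ g v]
  exact h' _ hv

/-- representation of the stabiliser on the subspace -/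
noncomputable def stabRep (W : Submodule ℂ V) : Representation ℂ (stab ρ W) W :=
  subRep (ρ.comp (stab ρ W).subtype) W fun g v hv => (g.2 v).2 hv

theorem stabRep_apply (W : Submodule ℂ V) (g : stab ρ W) (w : W) :
    (stabRep ρ W g w : V) = ρ g w := rfl

/-- **Heisenberg bound** : if the quotients of distinct `g i` can be conjugated into a multiple of
themselves by an element acting as a scalar `≠ 1`, then the number of the `g i` is at most the square
of the dimension. -/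
theorem card_le_finrank_sq [FiniteDimensional ℂ V] (W : Submodule ℂ V) (hW : W ≠ ⊥) {ι : Type*}
    [Fintype ι] (g : ι → G) (hg : ∀ i, g i ∈ stab ρ W)
    (h : ∀ i j, i ≠ j → ∃ k ∈ stab ρ W, ∃ z ∈ stab ρ W, ∃ c : ℂ, c ≠ 1 ∧ (∀ w ∈ W, ρ z w = c • w) ∧
      k * (g i * (g j)⁻¹) * k⁻¹ = z * (g i * (g j)⁻¹)) :
    Fintype.card ι ≤ finrank ℂ W ^ 2 := by
  have hW0 : 0 < finrank ℂ W := by
    rw [Nat.pos_iff_ne_zero]
    intro h0
    exact hW (Submodule.finrank_eq_zero.1 h0)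
  refine card_le_sq (stabRep ρ W) hW0 (fun i => (⟨g i, hg i⟩ : stab ρ W)) fun i j hij => ?_
  obtain ⟨k, hk, z, hz, c, hc1, hzc, hkz⟩ := h i j hij
  set x : stab ρ W := ⟨g i, hg i⟩ * (⟨g j, hg j⟩)⁻¹ with hx
  have h1 : (⟨k, hk⟩ : stab ρ W) * x * (⟨k, hk⟩ : stab ρ W)⁻¹ = ⟨z, hz⟩ * x := Subtype.ext hkz
  have h2 : stabRep ρ W ⟨z, hz⟩ = c • (1 : End ℂ W) := by
    refine LinearMap.ext fun w => Subtype.ext ?_
    exact hzc w w.2
  have h3 : LinearMap.trace ℂ W (stabRep ρ W ((⟨k, hk⟩ : stab ρ W) * x * (⟨k, hk⟩ : stab ρ W)⁻¹)) =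
      LinearMap.trace ℂ W (stabRep ρ W x) := by
    rw [map_mul (stabRep ρ W), LinearMap.trace_mul_comm, ← map_mul (stabRep ρ W), ← mul_assoc,
      inv_mul_cancel, one_mul]
  rw [h1, map_mul (stabRep ρ W), h2, smul_mul_assoc, one_mul, map_smul, smul_eq_mul] at h3
  have h4 : (c - 1) * LinearMap.trace ℂ W (stabRep ρ W x) = 0 := by
    rw [sub_mul, h3, one_mul, sub_self]
  exact (mul_eq_zero.1 h4).resolve_left (sub_ne_zero.2 hc1)

end

end Cfsg.Agent.H119
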