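import Cfsg.Agent.H119.UG
import Cfsg.Agent.H119.Wts

/-!
# Representations of unitary groups restricted to transvection groups

* `UG.act` : the action of the trace-zero scalars through the transvection group of `e`;
* `UG.Fx` : the fixed space of a transvection group;
* `UG.fixG U` : the isometries fixing `U^⊥` pointwise;
* `UG.heis` : the Heisenberg bound;
* `UG.torus` : all non-trivial weights occur;
* `UG.le_of_fx` : the abelian group of a totally isotropic line.
-/

set_option autoImplicit false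

namespace Cfsg.Agent.H119

open Module Cfsg.Agent.H120

variable {F V : Type*} [Field F] [AddCommGroup V] [Module F V]

/-- trace-zero scalars -/
def K0 (H : HS F V) : AddSubgroup F where
  carrier := {c | c + H.σ c = 0}
  add_mem' {a b} ha hb := by
    change a + b + H.σ (a + b) = 0
    rw [map_add, add_add_add_comm, ha, hb, add_zero]
  zero_mem' := by
    change (0 : F) + H.σ 0 = 0
    rw [map_zero, add_zero]
  neg_mem' {a} ha := by
    change -a + H.σ (-a) = 0
    rw [map_neg, ← neg_add, ha, neg_zero]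

theorem mem_K0 {H : HS F V} {c : F} : c ∈ K0 H ↔ c + H.σ c = 0 := Iff.rfl

/-- scalars fixed by the involution -/
def Fix (H : HS F V) : Type _ := {r : F // H.σ r = r}

/-- multiplication of a trace-zero scalar by a fixed one -/
def mulK {H : HS F V} (r : Fix H) : K0 H →+ K0 H where
  toFun c := ⟨r.1 * c.1, by
    rw [mem_K0, map_mul, r.2, ← mul_add, mem_K0.1 c.2, mul_zero]⟩
  map_zero' := Subtype.ext (mul_zero _)
  map_add' a b := Subtype.ext (mul_add _ _ _)

theorem mulK_val {H : HS F V} (r : Fix H) (c : K0 H) : (mulK r c).1 = r.1 * c.1 := rfl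

/-- `x ↦ g x - σ (g x)` -/
def dK {H : HS F V} (g : F) : F →+ K0 H where
  toFun x := ⟨g * x - H.σ (g * x), by
    rw [mem_K0, map_sub, H.σσ]
    ring⟩
  map_zero' := Subtype.ext (by simp)
  map_add' a b := Subtype.ext (by
    change g * (a + b) - H.σ (g * (a + b)) = (g * a - H.σ (g * a)) + (g * b - H.σ (g * b))
    rw [mul_add, map_add]
    ring)

theorem dK_val {H : HS F V} (g x : F) : (dK (H := H) g x).1 = g * x - H.σ (g * x) := rfl

/-- `x ↦ x - σ x` is onto the trace-zero scalars -/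
theorem exists_sub_σ {H : HS F V} {c : F} (hc : c + H.σ c = 0) : ∃ z : F, z - H.σ z = c := by
  obtain ⟨κ, hκ0, hκ⟩ := H.κ
  have h1 : H.σ κ = -κ := by linear_combination hκ
  have h2 : H.σ c = -c := by linear_combination hc
  obtain ⟨x, hx⟩ := H.tr (c * κ⁻¹) (by
    rw [map_mul, map_inv₀, h1, h2, inv_neg]
    ring)
  refine ⟨κ * x, ?_⟩
  rw [map_mul, h1]
  field_simp at hx
  linear_combination hx

/-- a trace-zero generator identifies the fixed field with the trace-zero scalars -/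
theorem exists_equiv (H : HS F V) : Nonempty (Fix H ≃ K0 H) := by
  obtain ⟨κ, hκ0, hκ⟩ := H.κ
  have h1 : H.σ κ = -κ := by linear_combination hκ
  refine ⟨Equiv.ofBijective (fun r => ⟨r.1 * κ, ?_⟩) ⟨?_, ?_⟩⟩
  · rw [mem_K0, map_mul, r.2, ← mul_add, hκ, mul_zero]
  · intro a b h
    have h2 : a.1 * κ = b.1 * κ := congrArg Subtype.val h
    exact Subtype.ext (mul_right_cancel₀ hκ0 h2)
  · rintro ⟨c, hc⟩
    rw [mem_K0] at hc
    have h2 : H.σ c = -c := by linear_combination hc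
    refine ⟨⟨c * κ⁻¹, ?_⟩, Subtype.ext ?_⟩
    · rw [map_mul, map_inv₀, h1, h2, inv_neg]
      ring
    · change c * κ⁻¹ * κ = c
      rw [mul_assoc, inv_mul_cancel₀ hκ0, mul_one]

theorem comp_mulK_inj {H : HS F V} {ψ : AddChar (K0 H) ℂ} (hψ : ψ ≠ 0) :
    Function.Injective (fun r : Fix H => ψ.compAddMonoidHom (mulK r)) := by
  intro r s h
  by_contra hne
  apply hψ
  rw [AddChar.eq_zero_iff]
  intro c
  have h0 : r.1 - s.1 ≠ 0 := fun h0 => hne (Subtype.ext (sub_eq_zero.1 h0))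
  have hc : c.1 * (r.1 - s.1)⁻¹ ∈ K0 H := by
    rw [mem_K0, map_mul, map_inv₀, map_sub, r.2, s.2, ← add_mul, mem_K0.1 c.2, zero_mul]
  have h1 := DFunLike.congr_fun h ⟨_, hc⟩
  simp only [AddChar.compAddMonoidHom_apply] at h1
  have h2 : mulK r ⟨_, hc⟩ = mulK s ⟨_, hc⟩ + c := by
    apply Subtype.ext
    change r.1 * (c.1 * (r.1 - s.1)⁻¹) = s.1 * (c.1 * (r.1 - s.1)⁻¹) + c.1
    field_simp
    ring
  rw [h2, AddChar.map_add_eq_mul] at h1
  have h3 : ψ (mulK s ⟨_, hc⟩) ≠ 0 := by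
    intro h4
    have h5 := AddChar.map_add_eq_mul ψ (mulK s ⟨_, hc⟩) (-(mulK s ⟨_, hc⟩))
    rw [add_neg_cancel, AddChar.map_zero_eq_one, h4, zero_mul] at h5
    exact one_ne_zero h5
  exact mul_left_cancel₀ h3 (by rw [h1, mul_one])

theorem comp_dK_inj {H : HS F V} {ψ : AddChar (K0 H) ℂ} (hψ : ψ ≠ 0) :
    Function.Injective (fun g : F => ψ.compAddMonoidHom (dK (H := H) g)) := by
  intro r s h
  by_contra hne
  apply hψ
  rw [AddChar.eq_zero_iff]
  intro c
  have h0 : r - s ≠ 0 := sub_ne_zero.2 hne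
  obtain ⟨z, hz⟩ := exists_sub_σ (H := H) c.2
  have h1 := DFunLike.congr_fun h ((r - s)⁻¹ * z)
  simp only [AddChar.compAddMonoidHom_apply] at h1
  have h2 : dK (H := H) r ((r - s)⁻¹ * z) = dK (H := H) s ((r - s)⁻¹ * z) + c := by
    apply Subtype.ext
    change r * ((r - s)⁻¹ * z) - H.σ (r * ((r - s)⁻¹ * z)) =
      s * ((r - s)⁻¹ * z) - H.σ (s * ((r - s)⁻¹ * z)) + c.1
    rw [← hz]
    have h3 : H.σ z = H.σ (r * ((r - s)⁻¹ * z)) - H.σ (s * ((r - s)⁻¹ * z)) := by
      rw [← map_sub, ← sub_mul, ← mul_assoc, mul_inv_cancel₀ h0, one_mul]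
    rw [h3]
    field_simp
    ring
  rw [h2, AddChar.map_add_eq_mul] at h1
  have h3 : ψ (dK (H := H) s ((r - s)⁻¹ * z)) ≠ 0 := by
    intro h4
    have h5 := AddChar.map_add_eq_mul ψ (dK (H := H) s ((r - s)⁻¹ * z))
      (-(dK (H := H) s ((r - s)⁻¹ * z)))
    rw [add_neg_cancel, AddChar.map_zero_eq_one, h4, zero_mul] at h5
    exact one_ne_zero h5
  exact mul_left_cancel₀ h3 (by rw [h1, mul_one])

namespace UG

variable {H : HS F V} {G : Type*} [Group G] (S : UG H G)
  {M : Type*} [AddCommGroup M] [Module ℂ M] (ρ : Representation ℂ G M)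

/-- the fixed space of the transvection group of `e` -/
def Fx (e : V) : Submodule ℂ M where
  carrier := {m | ∀ c : F, c + H.σ c = 0 → ρ (S.tv e c) m = m}
  add_mem' {a b} ha hb c hc := by rw [map_add, ha c hc, hb c hc]
  zero_mem' c _ := map_zero _
  smul_mem' a m hm c hc := by rw [map_smul, hm c hc]

theorem mem_Fx {e : V} {m : M} : m ∈ S.Fx ρ e ↔ ∀ c : F, c + H.σ c = 0 → ρ (S.tv e c) m = m :=
  Iff.rfl

/-- isometries in `G` fixing `U^⊥` pointwise -/
def fixG (U : Submodule F V) : Subgroup G where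
  carrier := {g | ∀ x, (∀ u ∈ U, H.h x u = 0) → S.π g x = x}
  one_mem' x _ := S.π_one x
  mul_mem' {a b} ha hb x hx := by rw [S.π_mul, hb x hx, ha x hx]
  inv_mem' {a} ha x hx := by
    have h := S.π_inv a x
    rwa [ha x hx] at h

theorem mem_fixG {U : Submodule F V} {g : G} :
    g ∈ S.fixG U ↔ ∀ x, (∀ u ∈ U, H.h x u = 0) → S.π g x = x := Iff.rfl

theorem fixG_mono {U U' : Submodule F V} (h : U' ≤ U) : S.fixG U' ≤ S.fixG U :=
  fun _ hg x hx => hg x fun u hu => hx u (h hu)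

variable [FiniteDimensional F V]

/-- the action of the trace-zero scalars -/
noncomputable def act (e : V) (he : H.h e e = 0) : AddAct (K0 H) M where
  toFun c := ρ (S.tv e c.1)
  map_zero' := by
    change ρ (S.tv e 0) = 1
    rw [S.tv_zero he, map_one]
  map_add' a b := by
    change ρ (S.tv e (a.1 + b.1)) = _
    rw [S.tv_add he a.2 b.2, map_mul]

theorem act_apply {e : V} (he : H.h e e = 0) (c : K0 H) (m : M) :
    (S.act ρ e he).toFun c m = ρ (S.tv e c.1) m := rfl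

theorem Fx_eq {e : V} (he : H.h e e = 0) : S.Fx ρ e = (S.act ρ e he).wt 0 := by
  ext m
  rw [S.mem_Fx, AddAct.mem_wt]
  constructor
  · intro h c
    rw [AddChar.zero_apply, one_smul]
    exact h c.1 c.2
  · intro h c hc
    have := h ⟨c, hc⟩
    rwa [AddChar.zero_apply, one_smul] at this

theorem sg_mem_fixG {U : Submodule F V} {e w : V} {c : F} (heU : e ∈ U) (hwU : w ∈ U)
    (he : H.h e e = 0) (hw : H.h w e = 0) (hc : c + H.σ c + H.h w w = 0) :
    S.sg e w c ∈ S.fixG U := by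
  intro x hx
  rw [S.π_sg he hw hc, hx e heU, hx w hwU]
  simp

theorem tv_mem_fixG {U : Submodule F V} {e : V} {c : F} (heU : e ∈ U)
    (he : H.h e e = 0) (hc : c + H.σ c = 0) : S.tv e c ∈ S.fixG U :=
  S.sg_mem_fixG heU U.zero_mem he (H.zero_left e) (by rw [H.zero_left, hc, add_zero])

/-- moving weight vectors of `Z_e` by an element scaling `e` -/
theorem wt_of_scale {e : V} (he : H.h e e = 0) {g : G} {t : F} (hg : S.π g e = t • e) (r : Fix H)
    (hr : t * H.σ t = r.1) (ψ : AddChar (K0 H) ℂ) {m : M} (hm : m ∈ (S.act ρ e he).wt ψ) :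
    ρ g⁻¹ m ∈ (S.act ρ e he).wt (ψ.compAddMonoidHom (mulK r)) := by
  intro c
  rw [S.act_apply]
  have h1 : g * S.tv e c.1 * g⁻¹ = S.tv e (r.1 * c.1) := by
    rw [S.conj_tv g he c.2, hg, S.tv_smul t he c.2, hr]
  have h2 : S.tv e c.1 * g⁻¹ = g⁻¹ * S.tv e (r.1 * c.1) := by
    rw [← h1]
    group
  rw [← ρ_mul, h2, ρ_mul]
  have h3 := hm (mulK r c)
  rw [S.act_apply, mulK_val] at h3
  rw [h3, map_smul]
  rfl

/-- elements scaling `e` preserve the fixed space of `Z_e` -/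
theorem Fx_of_scale {e : V} (he : H.h e e = 0) {g : G} {t : F} (hg : S.π g e = t • e) {m : M}
    (hm : m ∈ S.Fx ρ e) : ρ g⁻¹ m ∈ S.Fx ρ e := by
  intro c hc
  have h1 : g * S.tv e c * g⁻¹ = S.tv e (t * H.σ t * c) := by
    rw [S.conj_tv g he hc, hg, S.tv_smul t he hc]
  have h2 : S.tv e c * g⁻¹ = g⁻¹ * S.tv e (t * H.σ t * c) := by
    rw [← h1]
    group
  rw [← ρ_mul, h2, ρ_mul, hm]
  rw [map_mul, map_mul, H.σσ]
  linear_combination (t * H.σ t) * hc

/-- all non-trivial weights occur, given a torus -/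
theorem torus [Fintype F] [FiniteDimensional ℂ M] {q : ℕ} (hq : Nat.card (Fix H) = q)
    {e : V} (he : H.h e e = 0)
    (N : Submodule ℂ M) (hN : ∀ c, c + H.σ c = 0 → ∀ m ∈ N, ρ (S.tv e c) m ∈ N)
    (hT : ∀ t : F, t ≠ 0 → ∃ g : G, S.π g e = t • e ∧ ∀ m ∈ N, ρ g⁻¹ m ∈ N)
    (hne : ¬ N ≤ S.Fx ρ e) (d : ℕ)
    (hd : ∀ ψ : AddChar (K0 H) ℂ, ψ ≠ 0 → N ⊓ (S.act ρ e he).wt ψ ≠ ⊥ →
      d ≤ finrank ℂ (N ⊓ (S.act ρ e he).wt ψ : Submodule ℂ M)) :
    finrank ℂ (N ⊓ S.Fx ρ e : Submodule ℂ M) + (q - 1) * d ≤ finrank ℂ N := by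
  classical
  have : Fintype (K0 H) := Fintype.ofFinite _
  have hfin : Finite (Fix H) := inferInstanceAs (Finite {r : F // H.σ r = r})
  have : Fintype {r : Fix H // r.1 ≠ 0} := Fintype.ofFinite _
  have hN' : ∀ a, ∀ m ∈ N, (S.act ρ e he).toFun a m ∈ N := fun a m hm => hN a.1 a.2 m hm
  rw [S.Fx_eq ρ he] at hne ⊢
  obtain ⟨ψ, hψ, hψN⟩ := exists_wt_ne (S.act ρ e he) N hN' hne
  have hcard : Fintype.card {r : Fix H // r.1 ≠ 0} = q - 1 := by
    have : Fintype (Fix H) := Fintype.ofFinite _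
    rw [Nat.card_eq_fintype_card] at hq
    have h0 : H.σ 0 = 0 := map_zero _
    have h1 : Fintype.card {r : Fix H // r = ⟨0, h0⟩} = 1 := Fintype.card_subtype_eq _
    have h2 := Fintype.card_subtype_compl (fun r : Fix H => r = ⟨0, h0⟩)
    rw [h1, hq] at h2
    rw [← h2]
    refine Fintype.card_congr (Equiv.subtypeEquivRight fun r => ?_)
    constructor
    · intro h h'
      exact h (congrArg Subtype.val h')
    · intro h h'
      exact h (Subtype.ext h')
  rw [← hcard]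
  refine finrank_ge (S.act ρ e he) N hN'
    (fun r : {r : Fix H // r.1 ≠ 0} => ψ.compAddMonoidHom (mulK r.1)) ?_ ?_ d ?_
  · intro r s h
    exact Subtype.ext (comp_mulK_inj hψ h)
  · intro r h
    have h0 : H.σ 0 = 0 := map_zero _
    have h1 : ψ.compAddMonoidHom (mulK (⟨0, h0⟩ : Fix H)) = 0 := by
      rw [AddChar.eq_zero_iff]
      intro c
      have : mulK (⟨0, h0⟩ : Fix H) c = 0 := Subtype.ext (zero_mul _)
      rw [AddChar.compAddMonoidHom_apply, this, AddChar.map_zero_eq_one]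
    have h2 := comp_mulK_inj hψ (h.trans h1.symm)
    exact r.2 (congrArg Subtype.val h2)
  · intro r
    refine hd _ ?_ ?_
    · intro h
      have h0 : H.σ 0 = 0 := map_zero _
      have h1 : ψ.compAddMonoidHom (mulK (⟨0, h0⟩ : Fix H)) = 0 := by
        rw [AddChar.eq_zero_iff]
        intro c
        have : mulK (⟨0, h0⟩ : Fix H) c = 0 := Subtype.ext (zero_mul _)
        rw [AddChar.compAddMonoidHom_apply, this, AddChar.map_zero_eq_one]
      have h2 := comp_mulK_inj hψ (h.trans h1.symm)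
      exact r.2 (congrArg Subtype.val h2)
    · obtain ⟨t, ht⟩ := H.nm r.1.1 r.1.2
      have ht0 : t ≠ 0 := by
        rintro rfl
        rw [zero_mul] at ht
        exact r.2 ht.symm
      obtain ⟨g, hg, hgN⟩ := hT t ht0
      obtain ⟨m, hm, hm0⟩ := (Submodule.ne_bot_iff _).1 hψN
      refine (Submodule.ne_bot_iff _).2 ⟨ρ g⁻¹ m, ⟨hgN m hm.1, ?_⟩, ?_⟩
      · exact S.wt_of_scale ρ he hg r.1 ht ψ hm.2
      · intro h
        apply hm0
        rw [← ρ_inv' ρ g m, h, map_zero]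

/-- **Heisenberg bound** -/
theorem heis [Fintype F] [FiniteDimensional ℂ M] {q : ℕ} (hF : Fintype.card F = q ^ 2)
    {U : Submodule F V} (hU : H.Nd U) {e f : V}
    (heU : e ∈ U) (hfU : f ∈ U) (he : H.h e e = 0) (hf : H.h f f = 0) (hef : H.h e f = 1)
    (N : Submodule ℂ M) (hN : ∀ g ∈ S.fixG U, ∀ m ∈ N, ρ g m ∈ N) (ψ : AddChar (K0 H) ℂ)
    (hψ : ψ ≠ 0) (hψN : N ⊓ (S.act ρ e he).wt ψ ≠ ⊥) :
    q ^ (finrank F U - 2) ≤ finrank ℂ (N ⊓ (S.act ρ e he).wt ψ : Submodule ℂ M) := by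
  classical
  set W : Submodule ℂ M := N ⊓ (S.act ρ e he).wt ψ with hW
  have hP := hU.perp heU hfU he hf hef
  have : Fintype (H.perp U e f) := by
    have : Finite V := Module.finite_of_finite F
    exact Fintype.ofFinite _
  -- elements of the Heisenberg group
  have hcex : ∀ w : V, ∃ c : F, c + H.σ c + H.h w w = 0 := by
    intro w
    obtain ⟨c, hc⟩ := H.tr (- H.h w w) (by rw [map_neg, H.swap])
    exact ⟨c, by rw [hc, neg_add_cancel]⟩
  choose cc hcc using hcex
  have hstab : ∀ {w : V} {c : F}, w ∈ U → H.h w e = 0 → c + H.σ c + H.h w w = 0 →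
      S.sg e w c ∈ stab ρ W := by
    intro w c hwU hwe hc
    have h1 := S.sg_mem_fixG heU hwU he hwe hc
    have key : ∀ g : G, g ∈ S.fixG U → (∀ d : K0 H, S.tv e d.1 * g = g * S.tv e d.1) →
        ∀ m ∈ W, ρ g m ∈ W := by
      intro g hg hgc m hm
      refine ⟨hN g hg m hm.1, fun d => ?_⟩
      have h2 := hm.2 d
      rw [S.act_apply] at h2 ⊢
      rw [← ρ_mul, hgc, ρ_mul, h2, map_smul]
    refine mem_stab ρ (key _ h1 fun d => S.tv_comm_sg he hwe hc d.2)
      (key _ ((S.fixG U).inv_mem h1) fun d => ?_)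
    have h3 : Commute (S.tv e d.1) (S.sg e w c) := S.tv_comm_sg he hwe hc d.2
    exact h3.inv_right.eq
  have hmain := card_le_finrank_sq ρ W hψN (fun w : H.perp U e f => S.sg e w.1 (cc w.1)) ?_ ?_
  · have h1 : Fintype.card (H.perp U e f) = (q ^ (finrank F U - 2)) ^ 2 := by
      rw [Module.card_eq_pow_finrank (K := F), hF]
      have h2 := HS.finrank_perp (H := H) heU hfU he hf hef
      have h3 : finrank F (H.perp U e f) = finrank F U - 2 := by omega
      rw [h3, ← pow_mul, ← pow_mul, mul_comm]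
    rw [h1] at hmain
    exact (Nat.pow_le_pow_iff_left two_ne_zero).1 hmain
  · intro w
    have h1 := HS.mem_perp.1 w.2
    exact hstab h1.1 h1.2.1 (hcc w.1)
  · intro w w' hww
    have h1 := HS.mem_perp.1 w.2
    have h1' := HS.mem_perp.1 w'.2
    -- the quotient is a Siegel element
    set c := cc w.1 with hc
    set c' := cc w'.1 with hc'
    have e1 : c + H.σ c + H.h w.1 w.1 = 0 := hcc w.1
    have e2 : c' + H.σ c' + H.h w'.1 w'.1 = 0 := hcc w'.1
    have hinv : (S.sg e w'.1 c')⁻¹ = S.sg e (-w'.1) (H.σ c') := by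
      rw [inv_eq_iff_mul_eq_one, S.sg_mul he h1'.2.1 e2 (by rw [H.neg_left, h1'.2.1, neg_zero])
        (by rw [H.σσ, H.neg_left, H.neg_right]; linear_combination e2), H.neg_left]
      have : c' + H.σ c' - -H.h w'.1 w'.1 = 0 := by linear_combination e2
      rw [this, add_neg_cancel, S.sg_zero he]
    set u : V := w.1 - w'.1 with hu
    have hu0 : u ≠ 0 := fun h => hww (Subtype.ext (sub_eq_zero.1 h))
    have huP : u ∈ H.perp U e f := Submodule.sub_mem _ w.2 w'.2
    have hue := (HS.mem_perp.1 huP).2.1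
    obtain ⟨d, hd, hquot⟩ : ∃ d : F, d + H.σ d + H.h u u = 0 ∧
        S.sg e w.1 c * (S.sg e w'.1 c')⁻¹ = S.sg e u d := by
      refine ⟨c + H.σ c' + H.h w'.1 w.1, ?_, ?_⟩
      · rw [hu]
        simp only [map_add, H.σσ, H.sub_left, H.sub_right]
        rw [H.swap]
        linear_combination e1 + e2
      · rw [hinv, S.sg_mul he h1.2.1 e1 (by rw [H.neg_left, h1'.2.1, neg_zero])
          (by rw [H.σσ, H.neg_left, H.neg_right]; linear_combination e2), H.neg_left,
          sub_neg_eq_add, hu, ← sub_eq_add_neg]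
    rw [hquot]
    -- find the conjugating element
    obtain ⟨κ, hκ⟩ : ∃ κ : K0 H, ψ κ ≠ 1 := by
      by_contra hcon
      push Not at hcon
      exact hψ (AddChar.eq_zero_iff.2 hcon)
    obtain ⟨z, hz⟩ := exists_sub_σ (H := H) κ.2
    obtain ⟨y, hy, huy⟩ := hP.exists_ne huP hu0
    have hyu := H.swap_ne huy
    set w₁ : V := (z * (H.h y u)⁻¹) • y with hw₁
    have hw₁P : w₁ ∈ H.perp U e f := Submodule.smul_mem _ _ hy
    have hw₁' := HS.mem_perp.1 hw₁P
    refine ⟨S.sg e w₁ (cc w₁), hstab hw₁'.1 hw₁'.2.1 (hcc w₁), S.tv e κ.1, ?_, ψ κ, hκ, ?_, ?_⟩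
    · exact hstab U.zero_mem (H.zero_left e) (by rw [H.zero_left, κ.2, add_zero])
    · intro m hm
      exact hm.2 κ
    · have h3 := S.sg_comm he hue hd hw₁'.2.1 (hcc w₁)
      have h4 : H.h w₁ u - H.h u w₁ = κ.1 := by
        rw [← H.swap w₁ u, hw₁, H.smul_left, mul_assoc, inv_mul_cancel₀ hyu, mul_one, hz]
      rw [h4] at h3
      rw [h3, ← mul_assoc, mul_inv_cancel_right]

end UG

end Cfsg.Agent.H119
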